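import Groth.Agent.EgaQ.GlueMod
import Groth.Agent.InvX.Tensor

/-!
# Invertible modules from cocycles of units
-/

set_option linter.style.haveILetI false
set_option backward.isDefEq.respectTransparency false
set_option backward.isDefEq.respectTransparency.types false

universe u

open CategoryTheory CategoryTheory.Limits AlgebraicGeometry TopologicalSpace Opposite

noncomputable section

namespace Groth.Agent.IntTh85.LineGlue

open Groth.Agent

variable {X : Scheme.{u}}

/-- The extension of the structure module from an open. -/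
def jO (W : X.Opens) : X.Modules :=
  (Scheme.Modules.pushforward W.ι).obj (Coh.structureModule W.toScheme)

lemma im_eq (W V : X.Opens) : W.ι ''ᵁ (W.ι ⁻¹ᵁ V) = W ⊓ V := by
  rw [Scheme.Hom.image_preimage_eq_opensRange_inf, Scheme.Opens.opensRange_ι]

/-- A function on `W ⊓ V` as a section of `jO W` over `V`. -/
def mk {W V : X.Opens} (r : Γ(X, W.ι ''ᵁ (W.ι ⁻¹ᵁ V))) : Γ(jO W, V) := r

/-- The function of a section of `jO W` over `V`. -/
def val {W V : X.Opens} (s : Γ(jO W, V)) : Γ(X, W.ι ''ᵁ (W.ι ⁻¹ᵁ V)) := s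

lemma val_add {W V : X.Opens} (s t : Γ(jO W, V)) : val (s + t) = val s + val t := rfl

lemma val_inj {W V : X.Opens} {s t : Γ(jO W, V)} (h : val s = val t) : s = t := h

lemma im_le {W V : X.Opens} : W.ι ''ᵁ (W.ι ⁻¹ᵁ V) ≤ V := (im_eq W V).le.trans inf_le_right

lemma im_le' {W V : X.Opens} : W.ι ''ᵁ (W.ι ⁻¹ᵁ V) ≤ W := (im_eq W V).le.trans inf_le_left

lemma im_mono {W W' V V' : X.Opens} (h : W' ≤ W) (hV : V' ≤ V) :
    W'.ι ''ᵁ (W'.ι ⁻¹ᵁ V') ≤ W.ι ''ᵁ (W.ι ⁻¹ᵁ V) := by
  rw [im_eq, im_eq]; exact inf_le_inf h hV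

lemma val_smul {W V : X.Opens} (r : Γ(X, V)) (s : Γ(jO W, V)) :
    val (r • s) = AModX.resR im_le r * val s := by
  show (W.ι.app V r : Γ(X, W.ι ''ᵁ (W.ι ⁻¹ᵁ V))) * _ = _
  rw [Scheme.Opens.ι_app]
  rfl

lemma val_res {W V V' : X.Opens} (h : V' ≤ V) (s : Γ(jO W, V)) :
    val (AModX.res (jO W) h s) = AModX.resR (im_mono le_rfl h) (val s) := rfl

/-- Restriction followed by multiplication by a function. -/
def jmap {W W' : X.Opens} (h : W' ≤ W) (u : Γ(X, W')) : jO W ⟶ jO W' where
  val := PresheafOfModules.homMk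
    { app := fun V => AddCommGrpCat.ofHom (AddMonoidHom.mk'
        (fun s => mk (AModX.resR im_le' u * AModX.resR (im_mono h le_rfl) (val (W := W) (V := V.unop) s)))
        fun s t => val_inj (by
          show _ * _ = _ * _ + _ * _
          rw [val_add, map_add, mul_add]))
      naturality := fun V V' i => by
        ext s
        show mk (AModX.resR im_le' u * AModX.resR (im_mono h le_rfl) (val (AModX.res (jO W) i.unop.le s))) =
          AModX.res (jO W') i.unop.le
            (mk (AModX.resR im_le' u * AModX.resR (im_mono h le_rfl) (val (W := W) (V := V.unop) s)))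
        refine val_inj ?_
        rw [val_res]
        rw [val_res]
        show AModX.resR _ u * AModX.resR _ (AModX.resR _ _) = AModX.resR _ (AModX.resR _ u * AModX.resR _ _)
        rw [map_mul, AModX.resR_resR, AModX.resR_resR, AModX.resR_resR] }
    fun V r s => val_inj (by
      show AModX.resR im_le' u * AModX.resR (im_mono h le_rfl)
          (val (W := W) (V := V.unop) ((show Γ(X, V.unop) from r) • (show Γ(jO W, V.unop) from s))) =
        val (W := W') (V := V.unop) ((show Γ(X, V.unop) from r) •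
          mk (AModX.resR im_le' u * AModX.resR (im_mono h le_rfl) (val (W := W) (V := V.unop) s)))
      rw [val_smul, val_smul, map_mul, AModX.resR_resR, mul_left_comm]
      rfl)

lemma val_jmap {W W' V : X.Opens} (h : W' ≤ W) (u : Γ(X, W')) (s : Γ(jO W, V)) :
    val ((jmap h u).app V s) = AModX.resR im_le' u * AModX.resR (im_mono h le_rfl) (val s) := rfl

lemma bijective_res_jO (W V : X.Opens) :
    Function.Bijective (AModX.res (jO W) (inf_le_left : V ⊓ W ≤ V)) := by
  have he : W.ι ''ᵁ (W.ι ⁻¹ᵁ (V ⊓ W)) = W.ι ''ᵁ (W.ι ⁻¹ᵁ V) := by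
    rw [im_eq, im_eq, inf_comm V W, ← inf_assoc, inf_idem]
  refine ⟨fun s t h => val_inj ?_, fun t => ⟨mk (AModX.resR he.ge (val t)), val_inj ?_⟩⟩
  · have := congrArg (fun z => AModX.resR he.ge (val z)) h
    simp only [val_res, AModX.resR_resR] at this
    rwa [AModX.resR_self, AModX.resR_self] at this
  · rw [val_res]
    show AModX.resR _ (AModX.resR he.ge (val t)) = _
    rw [AModX.resR_resR, AModX.resR_self]

lemma bijective_jmap {W W' V : X.Opens} (h : W' ≤ W) {u : Γ(X, W')} (hu : IsUnit u) (hV : V ≤ W') :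
    Function.Bijective ((jmap h u).app V) := by
  have he : W'.ι ''ᵁ (W'.ι ⁻¹ᵁ V) = W.ι ''ᵁ (W.ι ⁻¹ᵁ V) := by
    rw [im_eq, im_eq, inf_eq_right.2 hV, inf_eq_right.2 (hV.trans h)]
  obtain ⟨v, hv⟩ := hu.map (AModX.resR (im_le' (W := W') (V := V)))
  refine ⟨fun s t hst => val_inj ?_, fun t => ⟨mk (AModX.resR he.ge ((↑v⁻¹ : Γ(X, W'.ι ''ᵁ (W'.ι ⁻¹ᵁ V))) * val t)), val_inj ?_⟩⟩
  · have := congrArg val hst
    rw [val_jmap, val_jmap, ← hv, Units.mul_right_inj] at this
    have := congrArg (AModX.resR he.ge) this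
    rwa [AModX.resR_resR, AModX.resR_resR, AModX.resR_self, AModX.resR_self] at this
  · rw [val_jmap]
    show _ * AModX.resR _ (AModX.resR he.ge _) = _
    rw [AModX.resR_resR, AModX.resR_self, ← hv, ← mul_assoc, Units.mul_inv, one_mul]

variable {I : Type u} (O : I → X.Opens)

/-- A cocycle of units gives an invertible module with frames related by the cocycle. -/
theorem exists_line (hcov : ∀ x : X, ∃ i, x ∈ O i)
    (u : ∀ (i j : I) (W : X.Opens), W ≤ O i → W ≤ O j → Γ(X, W))
    (hu : ∀ i j W hi hj, IsUnit (u i j W hi hj))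
    (hres : ∀ i j (W W' : X.Opens) (hi : W ≤ O i) (hj : W ≤ O j) (h : W' ≤ W),
      AModX.resR h (u i j W hi hj) = u i j W' (h.trans hi) (h.trans hj))
    (hcoc : ∀ i j l W hi hj hl, u i j W hi hj * u j l W hj hl = u i l W hi hl) :
    ∃ (M : X.Modules) (e : ∀ i, Γ(M, O i)), PicF.IsInvertible M ∧ (∀ i, InvX.IsFrame (e i)) ∧
      ∀ i j (W : X.Opens) (hi : W ≤ O i) (hj : W ≤ O j),
        AModX.res M hi (e i) = u i j W hi hj • AModX.res M hj (e j) := by
  classical
  let K := Σ i : I, {W : X.Opens // W ≤ O i}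
  let N : K → X.Modules := fun p => jO p.2.1
  let R : K → K → Prop := fun p q => q.2.1 ≤ p.2.1
  -- the coefficient of a section in the frame `i` is multiplied by `u i j`
  let c : ∀ p q : K, R p q → (N p ⟶ N q) := fun p q h =>
    jmap h (u p.1 q.1 q.2.1 ((show q.2.1 ≤ p.2.1 from h).trans p.2.2) q.2.2)
  obtain ⟨M, lam, hlam, hbij⟩ := EgaQ.exists_glue N (fun p => p.2.1) R c (fun p q h => h)
    (fun p W => bijective_res_jO p.2.1 W)
    (fun p q h W hW => bijective_jmap h (hu _ _ _ _ _) hW)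
    (fun p q x hp hq => ⟨⟨p.1, p.2.1 ⊓ q.2.1, inf_le_left.trans p.2.2⟩, inf_le_left, inf_le_right, ⟨hp, hq⟩⟩)
    (fun p q r h h' => ⟨(show r.2.1 ≤ q.2.1 from h').trans h, by
      apply Scheme.Modules.hom_ext
      intro V
      ext s
      refine val_inj ?_
      show val ((jmap h' _).app V ((jmap h _).app V s)) = val ((jmap _ _).app V s)
      rw [val_jmap, val_jmap, val_jmap, map_mul, AModX.resR_resR, AModX.resR_resR, ← mul_assoc]
      congr 1
      rw [hres _ _ _ _ _ _ _, hres _ _ _ _ _ _ _, hres _ _ _ _ _ _ _, mul_comm]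
      exact hcoc _ _ _ _ _ _ _⟩)
  let p : ∀ i, K := fun i => ⟨i, O i, le_rfl⟩
  choose e he using fun i => (hbij (p i) (O i) le_rfl).2 (mk 1)
  have key : ∀ i {W : X.Opens} (hW : W ≤ O i) (r : Γ(X, W)),
      val ((lam (p i)).app W (r • AModX.res M hW (e i))) = AModX.resR im_le r := by
    intro i W hW r
    rw [Scheme.Modules.Hom.app_smul, AModX.app_res, he, val_smul, val_res]
    show _ * AModX.resR _ (1 : Γ(X, (O i).ι ''ᵁ ((O i).ι ⁻¹ᵁ O i))) = _
    rw [map_one, mul_one]
  have hfr : ∀ i, InvX.IsFrame (e i) := by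
    intro i W hW
    have him : (p i).2.1.ι ''ᵁ ((p i).2.1.ι ⁻¹ᵁ W) = W := by rw [im_eq, inf_eq_right.2 hW]
    refine ⟨fun r r' h => ?_, fun s => ⟨AModX.resR him.ge (val ((lam (p i)).app W s)), ?_⟩⟩
    · have h' := congrArg (fun s => val ((lam (p i)).app W s)) h
      simp only at h'
      rw [key, key] at h'
      have := congrArg (AModX.resR him.ge) h'
      rwa [AModX.resR_resR, AModX.resR_resR, AModX.resR_self, AModX.resR_self] at this
    · refine (hbij (p i) W hW).1 (val_inj ?_)
      rw [key, AModX.resR_resR, AModX.resR_self]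
  refine ⟨M, e, InvX.isInvertible_of_frames (fun x => ?_), hfr, fun i j W hi hj => ?_⟩
  · obtain ⟨i, hx⟩ := hcov x
    exact ⟨O i, hx, e i, hfr i⟩
  · let q : K := ⟨j, W, hj⟩
    refine (hbij q W le_rfl).1 (val_inj ?_)
    have hji : R (p j) q := hj
    have hii : R (p i) q := hi
    refine ((congrArg (fun φ : M ⟶ N q => val (φ.app W (AModX.res M hi (e i)))) (hlam (p i) q hii)).symm.trans ?_).trans
      (congrArg (fun φ : M ⟶ N q => val (φ.app W (u i j W hi hj • AModX.res M hj (e j)))) (hlam (p j) q hji))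
    show val ((c (p i) q hii).app W ((lam (p i)).app W (AModX.res M hi (e i)))) =
      val ((c (p j) q hji).app W ((lam (p j)).app W (u i j W hi hj • AModX.res M hj (e j))))
    rw [val_jmap, val_jmap, key, ← one_smul Γ(X, W) (AModX.res M hi (e i)), key, map_one, map_one, mul_one,
      AModX.resR_resR]
    show AModX.resR _ (u i j W _ _) = _ * AModX.resR _ (u i j W _ _)
    rw [hres _ _ _ _ _ _ _, hres _ _ _ _ _ _ _, mul_comm]
    exact (hcoc _ _ _ _ _ _ _).symm

end Groth.Agent.IntTh85.LineGlue
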