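import Groth.Agent.H23.TwistAmple
import Groth.Agent.PnCoh.Finite.TwistTensor

/-!
# Twisting sheaves on a `Proj` generated in arbitrary positive degrees
-/

universe u

open CategoryTheory AlgebraicGeometry TopologicalSpace Opposite MonoidalCategory
open Groth.Agent.KFlatLib

set_option backward.isDefEq.respectTransparency false
set_option backward.isDefEq.respectTransparency.types false

namespace Groth.Agent.IntTh85.TwistLcm

open Groth.Agent

variable {R A : Type u} [CommRing R] [CommRing A] [Algebra R A]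
  {𝒜 : ℕ → Submodule R A} [GradedAlgebra 𝒜]

/-- The global section `b / 1`. -/
noncomputable def sec {n : ℕ} {b : A} (hb : b ∈ 𝒜 n) : Γ(Twist.twist 𝒜 (n : ℤ), ⊤) :=
  Twist.globalOf 𝒜 ⟨b, hb⟩

theorem isFrame_sec {n : ℕ} {b : A} (hb : b ∈ 𝒜 n) {U : (Proj 𝒜).Opens}
    (hU : U ≤ Proj.basicOpen 𝒜 b) :
    InvX.IsFrame (AModX.res (Twist.twist 𝒜 (n : ℤ)) (le_top : U ≤ ⊤) (sec hb)) :=
  TwistX.isFrame_res_globalOf hb fun y => show b ∉ y.1.asHomogeneousIdeal from hU y.2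

theorem genLocus_sec {n : ℕ} (hcov : (⨆ g : 𝒜 n, Proj.basicOpen 𝒜 (g : A)) = ⊤) {b : A} (hb : b ∈ 𝒜 n) :
    CohB1.genLocus (Twist.twist 𝒜 (n : ℤ)) (InvX.ofSect (sec hb)) = Proj.basicOpen 𝒜 b := by
  refine le_antisymm (fun x hx => ?_) (InvX.le_genLocus _ (by rw [InvX.one_ofSect]; exact isFrame_sec hb le_rfl))
  obtain ⟨U, hxU, hU⟩ := InvX.mem_genLocus hx
  rw [InvX.one_ofSect] at hU
  obtain ⟨g', hg'⟩ := Opens.mem_iSup.1 (hcov.ge (trivial : x ∈ (⊤ : (Proj 𝒜).Opens)))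
  obtain ⟨r, hr⟩ := hU.exists_coord (inf_le_left : U ⊓ Proj.basicOpen 𝒜 (g' : A) ≤ U)
    (AModX.res (Twist.twist 𝒜 (n : ℤ)) le_top (sec g'.2))
  rw [AModX.res_res] at hr
  have h := congrArg (fun q => ((show Twist.sectN (𝒜 := 𝒜) (n : ℤ) (op (U ⊓ Proj.basicOpen 𝒜 (g' : A))) from q).1
    ⟨x, hxU, hg'⟩).1) hr
  have h' : (Localization.mk (g' : A) 1 : Twist.Loc 𝒜 x) =
      ((show Twist.O (𝒜 := 𝒜) (op (U ⊓ Proj.basicOpen 𝒜 (g' : A))) from r).1 ⟨x, hxU, hg'⟩).val *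
        Localization.mk b 1 :=
    h.trans (Twist.coe_smul_val (n : ℤ) x _ _)
  have hu : IsUnit (Localization.mk (g' : A) 1 : Twist.Loc 𝒜 x) := by
    rw [Localization.mk_one_eq_algebraMap]
    exact (IsLocalization.AtPrime.isUnit_to_map_iff _ x.asHomogeneousIdeal.toIdeal _).2 hg'
  rw [h'] at hu
  have hu' := isUnit_of_mul_isUnit_right hu
  rw [Localization.mk_one_eq_algebraMap] at hu'
  exact (IsLocalization.AtPrime.isUnit_to_map_iff _ x.asHomogeneousIdeal.toIdeal _).1 hu'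

variable {s : ℕ} {f : Fin s → A} {deg : Fin s → ℕ}

theorem exists_notMem (hdeg : ∀ i, 0 < deg i) (hf : ∀ i, f i ∈ 𝒜 (deg i))
    (hgen : Algebra.adjoin R (Set.range f) = ⊤) (x : Proj 𝒜) : ∃ i, f i ∉ x.asHomogeneousIdeal := by
  by_contra! h
  apply x.not_irrelevant_le
  intro b hb
  rw [HomogeneousIdeal.mem_irrelevant_iff, GradedRing.proj_apply] at hb
  have key : ∀ c ∈ Algebra.adjoin R (Set.range f),
      c - (DirectSum.decompose 𝒜 c 0 : A) ∈ x.asHomogeneousIdeal.toIdeal := by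
    intro c hc
    induction hc using Algebra.adjoin_induction with
    | mem c hc =>
      obtain ⟨i, rfl⟩ := hc
      rw [DirectSum.decompose_of_mem_ne 𝒜 (hf i) (hdeg i).ne', sub_zero]
      exact h i
    | algebraMap r => rw [DirectSum.decompose_of_mem_same 𝒜 (SetLike.algebraMap_mem_graded 𝒜 r), sub_self]
                      exact zero_mem _
    | add c d _ _ hc hd =>
      have : c + d - (DirectSum.decompose 𝒜 (c + d) 0 : A) =
          (c - (DirectSum.decompose 𝒜 c 0 : A)) + (d - (DirectSum.decompose 𝒜 d 0 : A)) := by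
        rw [DirectSum.decompose_add, DFinsupp.add_apply, Submodule.coe_add]; ring
      rw [this]; exact add_mem hc hd
    | mul c d _ _ hc hd =>
      rw [show (DirectSum.decompose 𝒜 (c * d) 0 : A) =
          (DirectSum.decompose 𝒜 c 0 : A) * (DirectSum.decompose 𝒜 d 0 : A) from
        map_mul (GradedRing.projZeroRingHom 𝒜) c d]
      have : c * d - (DirectSum.decompose 𝒜 c 0 : A) * (DirectSum.decompose 𝒜 d 0 : A) =
          (c - (DirectSum.decompose 𝒜 c 0 : A)) * d +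
            (DirectSum.decompose 𝒜 c 0 : A) * (d - (DirectSum.decompose 𝒜 d 0 : A)) := by ring
      rw [this]
      exact add_mem (Ideal.mul_mem_right _ _ hc) (Ideal.mul_mem_left _ _ hd)
  have := key b (hgen ▸ Algebra.mem_top)
  rwa [hb, sub_zero] at this

theorem dvd_lcm (a : ℕ) (i : Fin s) : deg i ∣ a * Finset.univ.lcm deg :=
  (Finset.dvd_lcm (Finset.mem_univ i)).trans (dvd_mul_left _ a)

theorem pow_mem_lcm (hf : ∀ i, f i ∈ 𝒜 (deg i)) (a : ℕ) (i : Fin s) :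
    f i ^ (a * Finset.univ.lcm deg / deg i) ∈ 𝒜 (a * Finset.univ.lcm deg) := by
  have h := SetLike.pow_mem_graded (a * Finset.univ.lcm deg / deg i) (hf i)
  rwa [smul_eq_mul, Nat.div_mul_cancel (dvd_lcm a i)] at h

theorem generatedBy_mul_lcm (hdeg : ∀ i, 0 < deg i) (hf : ∀ i, f i ∈ 𝒜 (deg i))
    (hgen : Algebra.adjoin R (Set.range f) = ⊤) (a : ℕ) :
    ProjUP.GeneratedBy (Twist.twist 𝒜 ((a * Finset.univ.lcm deg : ℕ) : ℤ))
      (fun b : 𝒜 (a * Finset.univ.lcm deg) =>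
        (Twist.globalOf 𝒜 b : ProjUP.Γm (Twist.twist 𝒜 ((a * Finset.univ.lcm deg : ℕ) : ℤ)))) :=
  ProjUPX.generatedBy_of_frames _ fun x => by
    obtain ⟨i, hi⟩ := exists_notMem hdeg hf hgen x
    exact ⟨⟨_, pow_mem_lcm hf a i⟩, Proj.basicOpen 𝒜 (f i), hi,
      isFrame_sec (pow_mem_lcm hf a i) fun y hy => TwistX.notMem_pow hy _⟩

theorem compactSpace_proj (hdeg : ∀ i, 0 < deg i) (hf : ∀ i, f i ∈ 𝒜 (deg i))
    (hgen : Algebra.adjoin R (Set.range f) = ⊤) : CompactSpace (Proj 𝒜) := by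
  refine ⟨?_⟩
  have : (Set.univ : Set (Proj 𝒜)) = ⋃ i, (Proj.basicOpen 𝒜 (f i) : Set (Proj 𝒜)) := by
    symm
    refine Set.eq_univ_of_forall fun x => ?_
    obtain ⟨i, hi⟩ := exists_notMem hdeg hf hgen x
    exact Set.mem_iUnion.2 ⟨i, hi⟩
  rw [this]
  exact isCompact_iUnion fun i => (Proj.isAffineOpen_basicOpen 𝒜 (f i) (hf i) (hdeg i)).isCompact

theorem isAmple_mul_lcm (hdeg : ∀ i, 0 < deg i) (hf : ∀ i, f i ∈ 𝒜 (deg i))
    (hgen : Algebra.adjoin R (Set.range f) = ⊤) {a : ℕ} (ha : 0 < a) :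
    CohB1.IsAmple (Twist.twist 𝒜 ((a * Finset.univ.lcm deg : ℕ) : ℤ)) := by
  have := compactSpace_proj hdeg hf hgen
  have hn : 0 < a * Finset.univ.lcm deg :=
    Nat.mul_pos ha (Nat.pos_of_ne_zero (Finset.lcm_ne_zero_iff.2 fun i _ => (hdeg i).ne'))
  have hcov : (⨆ g : 𝒜 (a * Finset.univ.lcm deg), Proj.basicOpen 𝒜 (g : A)) = ⊤ := by
    refine eq_top_iff.2 fun x _ => Opens.mem_iSup.2 ?_
    obtain ⟨i, hi⟩ := exists_notMem hdeg hf hgen x
    exact ⟨⟨_, pow_mem_lcm hf a i⟩, TwistX.notMem_pow hi _⟩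
  have hL : PicF.IsInvertible (Twist.twist 𝒜 ((a * Finset.univ.lcm deg : ℕ) : ℤ)) :=
    InvX.isInvertible_of_frames fun x => by
      obtain ⟨g, hg⟩ := Opens.mem_iSup.1 (hcov.ge (trivial : x ∈ (⊤ : (Proj 𝒜).Opens)))
      exact ⟨_, hg, _, isFrame_sec g.2 le_rfl⟩
  refine ⟨hL, inferInstance, fun x => ?_⟩
  obtain ⟨g, hg⟩ := Opens.mem_iSup.1 (hcov.ge (trivial : x ∈ (⊤ : (Proj 𝒜).Opens)))
  refine ⟨0, InvX.powHom (InvX.ofSect (sec g.2)) 1, ?_⟩
  rw [InvX.genLocus_powHom hL _ 0, genLocus_sec hcov g.2]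
  exact ⟨hg, Proj.isAffineOpen_basicOpen 𝒜 (g : A) g.2 hn⟩

/-! ## Generation in large degree -/

theorem germ_twist_eq {n : ℤ} {x : Proj 𝒜} {U V : (Proj 𝒜).Opens} (hU : x ∈ U) (hV : x ∈ V)
    (z : Γ(Twist.twist 𝒜 n, U)) (w : Γ(Twist.twist 𝒜 n, V))
    (h : ∀ (y : Proj 𝒜) (hy : y ∈ U) (hy' : y ∈ V),
      ((show Twist.sectN (𝒜 := 𝒜) n (op U) from z).1 ⟨y, hy⟩).1 =
        ((show Twist.sectN (𝒜 := 𝒜) n (op V) from w).1 ⟨y, hy'⟩).1) :
    (Twist.twist 𝒜 n).presheaf.germ U x hU z = (Twist.twist 𝒜 n).presheaf.germ V x hV w := by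
  refine TopCat.Presheaf.germ_ext (Twist.twist 𝒜 n).presheaf (U ⊓ V) ⟨hU, hV⟩
    (homOfLE inf_le_left) (homOfLE inf_le_right) ?_
  exact Subtype.ext (funext fun y => Subtype.ext (h y.1 y.2.1 y.2.2))

theorem exists_monomial_sum (hf : ∀ i, f i ∈ 𝒜 (deg i)) (hgen : Algebra.adjoin R (Set.range f) = ⊤) {i : ℕ} {a : A} (ha : a ∈ 𝒜 i) :
    ∃ (t : Finset (Fin s →₀ ℕ)) (c : (Fin s →₀ ℕ) → R), (∀ e ∈ t, ∑ k, e k * deg k = i) ∧
      a = ∑ e ∈ t, algebraMap R A (c e) * ∏ k, f k ^ e k := by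
  classical
  obtain ⟨p, hp⟩ : a ∈ (MvPolynomial.aeval (R := R) f).range := by
    rw [← Algebra.adjoin_range_eq_range_aeval, hgen]; trivial
  have hm : ∀ e : Fin s →₀ ℕ, ∏ k, f k ^ e k ∈ 𝒜 (∑ k, e k * deg k) := fun e =>
    SetLike.prod_mem_graded (A := 𝒜) (fun k => e k * deg k) (fun k => f k ^ e k) fun k _ => by
      simpa [smul_eq_mul] using SetLike.pow_mem_graded (e k) (hf k)
  have hmr : ∀ (r : R) (e : Fin s →₀ ℕ), algebraMap R A r * ∏ k, f k ^ e k ∈ 𝒜 (∑ k, e k * deg k) :=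
    fun r e => zero_add (∑ k, e k * deg k) ▸
      SetLike.mul_mem_graded (SetLike.algebraMap_mem_graded 𝒜 r) (hm e)
  refine ⟨p.support.filter fun e => ∑ k, e k * deg k = i, fun e => MvPolynomial.coeff e p,
    fun e he => (Finset.mem_filter.1 he).2, ?_⟩
  conv_lhs => rw [← DirectSum.decompose_of_mem_same 𝒜 ha, ← hp]
  show GradedRing.proj 𝒜 i (MvPolynomial.aeval f p) = _
  rw [MvPolynomial.aeval_def, MvPolynomial.eval₂_eq', map_sum, Finset.sum_filter]
  refine Finset.sum_congr rfl fun e _ => ?_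
  rw [GradedRing.proj_apply]
  split_ifs with h
  · exact DirectSum.decompose_of_mem_same 𝒜 (h ▸ hmr _ e)
  · exact DirectSum.decompose_of_mem_ne 𝒜 (hmr _ e) h

set_option synthInstance.maxHeartbeats 200000 in
theorem generatedBy_of_ge (hdeg : ∀ i, 0 < deg i) (hf : ∀ i, f i ∈ 𝒜 (deg i)) (hgen : Algebra.adjoin R (Set.range f) = ⊤) (n : ℕ)
    (hn : (s - 1) * (Finset.univ.lcm deg - 1) ≤ n) :
    ProjUP.GeneratedBy (Twist.twist 𝒜 (n : ℤ))
      (fun b : 𝒜 n => (Twist.globalOf 𝒜 b : ProjUP.Γm (Twist.twist 𝒜 (n : ℤ)))) := by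
  classical
  intro x
  obtain ⟨i₀, hi₀⟩ := exists_notMem hdeg hf hgen x
  set S := Submodule.span ((Proj 𝒜).presheaf.stalk x)
    (Set.range fun b : 𝒜 n => ((Twist.twist 𝒜 (n : ℤ)).presheaf.germ ⊤ x trivial).hom
      (Twist.globalOf 𝒜 b)) with hS
  refine eq_top_iff.2 fun y _ => ?_
  obtain ⟨V₀, hxV₀, z₀, rfl⟩ := TopCat.Presheaf.exists_germ_eq (Twist.twist 𝒜 (n : ℤ)).presheaf y
  obtain ⟨V, hxV, iV, i, j, ⟨a, ha⟩, ⟨v, hv⟩, nin, hij, w⟩ :=
    (show Twist.sectN (𝒜 := 𝒜) (n : ℤ) (op V₀) from z₀).2 ⟨x, hxV₀⟩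
  replace hij : (i : ℤ) = j + (n : ℤ) ∨ a = 0 := hij
  set d₀ := deg i₀ with hd₀
  set l := Finset.univ.lcm deg with hl
  let W : (Proj 𝒜).Opens := V ⊓ Proj.basicOpen 𝒜 (f i₀)
  have hW : W ≤ V := inf_le_left
  have hxW : x ∈ W := ⟨hxV, hi₀⟩
  have hvd : ∀ y : W, v ^ d₀ ∉ y.1.asHomogeneousIdeal := fun y =>
    TwistX.notMem_pow (nin ⟨y.1, hW y.2⟩) _
  have hterm : ∀ (e : Fin s →₀ ℕ) (r : R), ∑ k, e k * deg k = d₀ * j + n →
      ∃ z : Twist.sectN (𝒜 := 𝒜) (n : ℤ) (op W),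
        (∀ y : W, (z.1 y).1 = Localization.mk (algebraMap R A r * ∏ k, f k ^ e k) ⟨v ^ d₀, hvd y⟩) ∧
        (Twist.twist 𝒜 (n : ℤ)).presheaf.germ W x hxW z ∈ S := by
    intro e r he
    let L : Fin s → ℕ := fun k => if k = i₀ then 1 else l / deg k
    let q : Fin s → ℕ := fun k => e k / L k
    let ρ : Fin s → ℕ := fun k => e k % L k
    have hLl : ∀ k, k ≠ i₀ → L k * deg k = l := fun k hk => by
      simp only [L, if_neg hk]
      exact Nat.div_mul_cancel (Finset.dvd_lcm (Finset.mem_univ k))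
    have hlpos : 0 < l := Nat.pos_of_ne_zero (Finset.lcm_ne_zero_iff.2 fun k _ => (hdeg k).ne')
    have hρ : ∑ k, ρ k * deg k ≤ n := by
      refine le_trans ?_ hn
      rw [← Finset.add_sum_erase _ _ (Finset.mem_univ i₀),
        show ρ i₀ = 0 by simp [ρ, L, Nat.mod_one], zero_mul, zero_add]
      refine (Finset.sum_le_card_nsmul _ _ (l - 1) fun k hk => ?_).trans (le_of_eq ?_)
      · have hk' := (Finset.mem_erase.1 hk).1
        have hLpos : 0 < L k := by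
          rcases Nat.eq_zero_or_pos (L k) with h | h
          · have := hLl k hk'; rw [h, zero_mul] at this; omega
          · exact h
        have h1 : ρ k * deg k < L k * deg k :=
          Nat.mul_lt_mul_of_pos_right (Nat.mod_lt _ hLpos) (hdeg k)
        rw [hLl k hk'] at h1
        omega
      · simp
    have hsplit : ∑ k, e k * deg k = (∑ k, ρ k * deg k) + ∑ k, q k * L k * deg k := by
      rw [← Finset.sum_add_distrib]
      refine Finset.sum_congr rfl fun k _ => ?_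
      rw [← add_mul]
      congr 1
      exact (Nat.mod_add_div' (e k) (L k)).symm
    have hdvd : d₀ ∣ ∑ k, q k * L k * deg k := Finset.dvd_sum fun k _ => by
      by_cases hk : k = i₀
      · subst hk; exact dvd_mul_left _ _
      · rw [mul_assoc, hLl k hk]
        exact (Finset.dvd_lcm (Finset.mem_univ i₀)).trans (dvd_mul_left _ _)
    obtain ⟨Q, hQ⟩ := hdvd
    obtain ⟨t, ht⟩ : d₀ ∣ n - ∑ k, ρ k * deg k := by
      have : n - ∑ k, ρ k * deg k = d₀ * Q - d₀ * j := by omega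
      rw [this, ← Nat.mul_sub]
      exact dvd_mul_right _ _
    let b : A := (∏ k, f k ^ ρ k) * f i₀ ^ t
    have hb : b ∈ 𝒜 n := by
      have := SetLike.mul_mem_graded
        (SetLike.prod_mem_graded (A := 𝒜) (fun k => ρ k * deg k) (fun k => f k ^ ρ k) (F := Finset.univ)
          fun k _ => by simpa [smul_eq_mul] using SetLike.pow_mem_graded (ρ k) (hf k))
        (SetLike.pow_mem_graded t (hf i₀))
      rwa [smul_eq_mul, ← hd₀, show (∑ k, ρ k * deg k) + t * d₀ = n by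
        rw [mul_comm t]; omega] at this
    let num : A := algebraMap R A r * ∏ k, f k ^ (q k * L k)
    let den : A := v ^ d₀ * f i₀ ^ t
    have hnum : num ∈ 𝒜 (d₀ * Q) := by
      have := SetLike.mul_mem_graded (SetLike.algebraMap_mem_graded 𝒜 r)
        (SetLike.prod_mem_graded (A := 𝒜) (fun k => q k * L k * deg k) (fun k => f k ^ (q k * L k)) (F := Finset.univ)
          fun k _ => by simpa [smul_eq_mul] using SetLike.pow_mem_graded (q k * L k) (hf k))
      rwa [zero_add, hQ] at this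
    have hden : den ∈ 𝒜 (d₀ * Q) := by
      have := SetLike.mul_mem_graded (SetLike.pow_mem_graded d₀ hv) (SetLike.pow_mem_graded t (hf i₀))
      rwa [smul_eq_mul, smul_eq_mul, show d₀ * j + t * deg i₀ = d₀ * Q by
        rw [← hd₀, mul_comm t]; omega] at this
    have hden' : ∀ y : W, den ∉ y.1.asHomogeneousIdeal := fun y =>
      TwistX.mul_notMem (hvd y) (TwistX.notMem_pow y.2.2 _)
    let c : Twist.O (𝒜 := 𝒜) (op W) :=
      ⟨fun y => HomogeneousLocalization.mk ⟨d₀ * Q, ⟨num, hnum⟩, ⟨den, hden⟩, hden' y⟩,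
        fun y => ⟨W, y.2, 𝟙 _, d₀ * Q, ⟨num, hnum⟩, ⟨den, hden⟩, hden', fun _ => rfl⟩⟩
    refine ⟨c • Twist.resN (n : ℤ) (homOfLE (le_top : W ≤ ⊤)).op (Twist.globalOf 𝒜 ⟨b, hb⟩), fun y => ?_, ?_⟩
    · refine (Twist.coe_smul_val (n : ℤ) y.1 _ _).trans ?_
      show (HomogeneousLocalization.mk (x := y.1.asHomogeneousIdeal.toIdeal.primeCompl)
        ⟨d₀ * Q, ⟨num, hnum⟩, ⟨den, hden⟩, hden' y⟩).val * Localization.mk b _ = _
      rw [HomogeneousLocalization.val_mk, Localization.mk_mul, Localization.mk_eq_mk_iff,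
        Localization.r_iff_exists]
      refine ⟨1, ?_⟩
      have hprod : ∏ k, f k ^ e k = (∏ k, f k ^ (q k * L k)) * ∏ k, f k ^ ρ k := by
        rw [← Finset.prod_mul_distrib]
        refine Finset.prod_congr rfl fun k _ => ?_
        rw [← pow_add, Nat.div_add_mod']
      simp only [OneMemClass.coe_one, one_mul, Submonoid.coe_mul, num, den, b, hprod]
      ring
    · show (Twist.twist 𝒜 (n : ℤ)).presheaf.germ W x hxW
        ((show Γ(Proj 𝒜, W) from c) •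
          AModX.res (Twist.twist 𝒜 (n : ℤ)) (le_top : W ≤ ⊤) (sec hb)) ∈ S
      rw [QCoh.germ_smul']
      refine S.smul_mem _ (Submodule.subset_span ⟨⟨b, hb⟩, ?_⟩)
      exact ((Twist.twist 𝒜 (n : ℤ)).presheaf.germ_res_apply (homOfLE le_top) x hxW (sec hb)).symm
  obtain ⟨a', ha', haa'⟩ : ∃ a' ∈ 𝒜 (d₀ * j + n), a' = a * v ^ (d₀ - 1) := by
    refine ⟨_, ?_, rfl⟩
    rcases hij with h | h
    · have := SetLike.mul_mem_graded ha (SetLike.pow_mem_graded (d₀ - 1) hv)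
      have hpos : 0 < d₀ := hdeg i₀
      obtain ⟨m, hm⟩ : ∃ m, d₀ = m + 1 := ⟨d₀ - 1, by omega⟩
      rwa [smul_eq_mul, show i + (d₀ - 1) * j = d₀ * j + n by
        rw [hm, Nat.add_sub_cancel]; push_cast [add_mul] at *; omega] at this
    · rw [h, zero_mul]; exact zero_mem _
  obtain ⟨t, c, hc, hsum⟩ := exists_monomial_sum hf hgen ha'
  have hall : ∀ u ⊆ t, ∃ z : Twist.sectN (𝒜 := 𝒜) (n : ℤ) (op W),
        (∀ y : W, (z.1 y).1 =
          Localization.mk (∑ e ∈ u, algebraMap R A (c e) * ∏ k, f k ^ e k) ⟨v ^ d₀, hvd y⟩) ∧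
        (Twist.twist 𝒜 (n : ℤ)).presheaf.germ W x hxW z ∈ S := by
    intro u
    induction u using Finset.induction_on with
    | empty => exact fun _ => ⟨0, fun y => by simp [Localization.mk_zero], (map_zero
        ((Twist.twist 𝒜 (n : ℤ)).presheaf.germ W x hxW).hom).symm ▸ S.zero_mem⟩
    | insert e u he ih =>
      intro hsub
      obtain ⟨z, hz, hzS⟩ := ih ((Finset.subset_insert _ _).trans hsub)
      obtain ⟨z', hz', hz'S⟩ := hterm e (c e) (hc e (hsub (Finset.mem_insert_self _ _)))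
      refine ⟨z' + z, fun y => ?_, ?_⟩
      · show (z'.1 y).1 + (z.1 y).1 = _
        rw [hz, hz', Finset.sum_insert he, Localization.add_mk_self]
      · exact (map_add ((Twist.twist 𝒜 (n : ℤ)).presheaf.germ W x hxW).hom z' z).symm ▸ add_mem hz'S hzS
  obtain ⟨z, hz, hzS⟩ := hall t subset_rfl
  have heq := germ_twist_eq hxV₀ hxW z₀ z fun y hy hy' => ?_
  · exact Eq.mpr (congrArg (· ∈ S) heq) hzS
  refine ((w ⟨y, hW hy'⟩).trans ?_).trans (hz ⟨y, hy'⟩).symm
  show Localization.mk a _ = _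
  rw [← hsum, haa', Localization.mk_eq_mk_iff, Localization.r_iff_exists]
  refine ⟨1, ?_⟩
  have hpow : v ^ d₀ = v ^ (d₀ - 1) * v := by rw [← pow_succ, Nat.sub_add_cancel (hdeg i₀ : 0 < d₀)]
  simp only [OneMemClass.coe_one, one_mul, hpow]
  ring

/-! ## Tensor products with an invertible twist -/

variable {a : ℤ} {U : Opens (ProjectiveSpectrum.top 𝒜)}

/-- The inverse fraction. -/
def inv (φ : TwistX.UnitFrac (𝒜 := 𝒜) a U) : TwistX.UnitFrac (𝒜 := 𝒜) (-a) U where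
  i := φ.j
  j := φ.i
  num := φ.den
  den := φ.num
  num_mem := φ.den_mem
  den_mem := φ.num_mem
  deg := by have := φ.deg; omega
  num_ne := φ.den_ne
  den_ne := φ.num_ne

theorem frac_mul_inv (φ : TwistX.UnitFrac (𝒜 := 𝒜) a U) (y : U) :
    ((TwistX.fracSect (inv φ)).1 y).1 * ((TwistX.fracSect φ).1 y).1 = 1 := by
  show Localization.mk φ.den _ * Localization.mk φ.num _ = _
  rw [Localization.mk_mul, ← Localization.mk_one, Localization.mk_eq_mk_iff, Localization.r_iff_exists]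
  exact ⟨1, by simp [inv, mul_comm]⟩

theorem exists_sect_eq {n m : ℤ} {U : (Opens (ProjectiveSpectrum.top 𝒜))ᵒᵖ} (h : n = m)
    (z : Twist.sectN (𝒜 := 𝒜) n U) :
    ∃ z' : Twist.sectN (𝒜 := 𝒜) m U, ∀ y : U.unop, (z'.1 y).1 = (z.1 y).1 := by
  subst h; exact ⟨z, fun _ => rfl⟩

theorem mulFrac_bijective (φ : TwistX.UnitFrac (𝒜 := 𝒜) a U) (n : ℤ) :
    Function.Bijective fun z : Twist.sectN (𝒜 := 𝒜) n (op U) =>
      PnCoh.Finite.mulSect a n (TwistX.fracSect φ) z := by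
  constructor
  · intro z z' h
    refine Subtype.ext (funext fun y => Subtype.ext ?_)
    have := congrArg (fun q => ((TwistX.fracSect (inv φ)).1 y).1 * (q.1 y).1) h
    simpa [PnCoh.Finite.mulSect, ← mul_assoc, frac_mul_inv] using this
  · intro w
    obtain ⟨z, hz⟩ := exists_sect_eq (neg_add_cancel_left a n)
      (PnCoh.Finite.mulSect (-a) (a + n) (TwistX.fracSect (inv φ)) w)
    refine ⟨z, Subtype.ext (funext fun y => Subtype.ext ?_)⟩
    show ((TwistX.fracSect φ).1 y).1 * (z.1 y).1 = _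
    rw [hz y]
    show _ * (((TwistX.fracSect (inv φ)).1 y).1 * (w.1 y).1) = _
    rw [← mul_assoc, mul_comm ((TwistX.fracSect φ).1 y).1, frac_mul_inv, one_mul]

open Groth.Agent.PnCoh.Finite in
theorem isIso_stalk_mulPre {x : Proj 𝒜} {U : (Proj 𝒜).Opens} (hx : x ∈ U)
    (φ : TwistX.UnitFrac (𝒜 := 𝒜) a U) (n : ℤ) :
    IsIso ((stalkP x).map (mulPre (𝒜 := 𝒜) a n)) := by
  rw [ConcreteCategory.isIso_iff_bijective]
  let P := DCoh.toP.obj (Twist.twist 𝒜 a)
  let Q := DCoh.toP.obj (Twist.twist 𝒜 n)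
  let P' := DCoh.toP.obj (Twist.twist 𝒜 (a + n))
  let e : stalkMod x P := germP P U hx (TwistX.fracSect φ)
  let ea := LinearEquiv.ofBijective (LinearMap.toSpanSingleton ((Proj 𝒜).presheaf.stalk x) (stalkMod x P) e)
    ((TwistX.isFrame_fracSect φ).germ_bijective hx)
  let L : (stalkMod x (P ⊗ Q) : Type u) →ₗ[(Proj 𝒜).presheaf.stalk x] (stalkMod x P' : Type u) :=
    ((stalkP x).map (mulPre a n)).hom
  let T : (stalkMod x Q : Type u) →ₗ[(Proj 𝒜).presheaf.stalk x] (stalkMod x (P ⊗ Q) : Type u) :=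
    (((TensorProduct.lid _ _).symm.trans (TensorProduct.congr ea (LinearEquiv.refl _ _))).trans
      (tensorStalkEquiv P Q)).toLinearMap
  have hTb : Function.Bijective T := LinearEquiv.bijective _
  have key : ∀ (W : (Proj 𝒜).Opens) (hW : W ≤ U) (hxW : x ∈ W)
      (z : Twist.sectN (𝒜 := 𝒜) n (op W)),
      L (T (germP Q W hxW z)) = germP P' W hxW
        (mulSect a n (TwistX.fracSect (φ.res hW)) z) := by
    intro W hW hxW z
    have hT : T (germP Q W hxW z) =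
        tensorStalkEquiv P Q (germP P W hxW (TwistX.fracSect (φ.res hW)) ⊗ₜ germP Q W hxW z) := by
      show tensorStalkEquiv P Q (TensorProduct.congr ea (LinearEquiv.refl _ _)
        ((TensorProduct.lid _ _).symm (germP Q W hxW z))) = _
      rw [TensorProduct.lid_symm_apply, TensorProduct.congr_tmul]
      show tensorStalkEquiv P Q (((1 : (Proj 𝒜).presheaf.stalk x) • e) ⊗ₜ germP Q W hxW z) = _
      rw [one_smul]
      refine congrArg (fun w => tensorStalkEquiv P Q (w ⊗ₜ germP Q W hxW z)) ?_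
      exact (germP_res (P := P) (homOfLE hW) hxW _).symm
    rw [hT]
    refine Eq.trans (congrArg _ (ofTensor_germ W hxW _ _)) ?_
    exact (stalkModMap_germ (mulPre a n) W hxW _).trans rfl
  have hcomp : Function.Bijective (fun q => L (T q)) := by
    refine ⟨fun q q' h => ?_, fun w => ?_⟩
    · obtain ⟨W, hxW, z, z', rfl, rfl⟩ : ∃ (W : (Proj 𝒜).Opens) (hxW : x ∈ W)
          (z z' : Twist.sectN (𝒜 := 𝒜) n (op W)), germP Q W hxW z = q ∧ germP Q W hxW z' = q' := by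
        obtain ⟨W₁, h₁, z, rfl⟩ := exists_germP q
        obtain ⟨W₂, h₂, z', rfl⟩ := exists_germP q'
        exact ⟨W₁ ⊓ W₂, ⟨h₁, h₂⟩, res Q (homOfLE inf_le_left) z, res Q (homOfLE inf_le_right) z',
          germP_res _ _ _, germP_res _ _ _⟩
      have hxWU : x ∈ W ⊓ U := ⟨hxW, hx⟩
      have e1 : germP Q (W ⊓ U) hxWU (res Q (homOfLE inf_le_left) z) = germP Q W hxW z :=
        germP_res _ _ _
      have e2 : germP Q (W ⊓ U) hxWU (res Q (homOfLE inf_le_left) z') = germP Q W hxW z' :=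
        germP_res _ _ _
      rw [← e1, ← e2]
      replace h : L (T (germP Q (W ⊓ U) hxWU (res Q (homOfLE inf_le_left) z))) =
          L (T (germP Q (W ⊓ U) hxWU (res Q (homOfLE inf_le_left) z'))) :=
        (congrArg (fun q => L (T q)) e1).trans (h.trans (congrArg (fun q => L (T q)) e2).symm)
      replace h := (key _ inf_le_right hxWU _).symm.trans (h.trans (key _ inf_le_right hxWU _))
      obtain ⟨W', hW', i, j, hij⟩ := TopCat.Presheaf.germ_eq (C := AddCommGrpCat.{u})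
        P'.presheaf x hxWU hxWU _ _ h
      have hz : res Q i (res Q (homOfLE inf_le_left) z) = res Q i (res Q (homOfLE inf_le_left) z') := by
        apply (mulFrac_bijective (φ.res (i.le.trans inf_le_right)) n).1
        exact hij
      exact (germP_res (P := Q) i hW' _).symm.trans ((congrArg _ hz).trans (germP_res (P := Q) i hW' _))
    · obtain ⟨W, hxW, v, rfl⟩ := exists_germP w
      have hxWU : x ∈ W ⊓ U := ⟨hxW, hx⟩
      obtain ⟨z, hz⟩ := (mulFrac_bijective (φ.res (inf_le_right : W ⊓ U ≤ U)) n).2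
        (res P' (homOfLE (inf_le_left : W ⊓ U ≤ W)) v)
      refine ⟨germP Q _ hxWU z, ?_⟩
      show L (T _) = _
      exact (key _ inf_le_right hxWU z).trans ((congrArg _ hz).trans
        (germP_res (P := P') (homOfLE (inf_le_left : W ⊓ U ≤ W)) hxWU v))
  show Function.Bijective ⇑L
  exact (Function.Bijective.of_comp_iff _ hTb).1 hcomp

open Groth.Agent.PnCoh.Finite in
theorem nonempty_tensor_iso (hcov : ∀ x : Proj 𝒜, ∃ (U : (Proj 𝒜).Opens) (_ : x ∈ U),
    Nonempty (TwistX.UnitFrac (𝒜 := 𝒜) a U)) (n : ℤ) :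
    Nonempty (CohB1.tensorMod (Twist.twist 𝒜 a) (Twist.twist 𝒜 n) ≅ Twist.twist 𝒜 (a + n)) := by
  have : IsIso (mulHom (𝒜 := 𝒜) a n) := by
    apply isIso_of_stalk
    intro x
    obtain ⟨U, hx, ⟨φ⟩⟩ := hcov x
    have h : unitShP (DCoh.toP.obj (Twist.twist 𝒜 a) ⊗ DCoh.toP.obj (Twist.twist 𝒜 n)) ≫
        DCoh.toP.map (mulHom (𝒜 := 𝒜) a n) = mulPre a n :=
      ((PresheafOfModules.sheafificationAdjunction (𝟙 (Proj 𝒜).ringCatSheaf.obj)).homEquiv_unit
        (f := mulHom a n)).symm.trans (Equiv.apply_symm_apply _ _)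
    have : IsIso ((stalkP x).map (DCoh.toP.map (mulHom (𝒜 := 𝒜) a n))) :=
      @IsIso.of_isIso_fac_left _ _ _ _ _
        ((stalkP x).map (unitShP (DCoh.toP.obj (Twist.twist 𝒜 a) ⊗ DCoh.toP.obj (Twist.twist 𝒜 n))))
        _ ((stalkP x).map (mulPre a n)) (isIso_stalk_unitShP _) (isIso_stalk_mulPre hx φ n)
        (((stalkP x).map_comp _ _).symm.trans (congrArg (fun φ => (stalkP x).map φ) h))
    exact (NatIso.isIso_map_iff (stalkToPIso x) (mulHom (𝒜 := 𝒜) a n)).2 this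
  exact ⟨asIso (mulHom a n)⟩

theorem exists_unitFrac (hgen : Algebra.adjoin R (Set.range f) = ⊤) (hdeg : ∀ i, 0 < deg i)
    (hf : ∀ i, f i ∈ 𝒜 (deg i)) (a : ℤ) (x : Proj 𝒜) :
    ∃ (U : (Proj 𝒜).Opens) (_ : x ∈ U),
      Nonempty (TwistX.UnitFrac (𝒜 := 𝒜) (a * (Finset.univ.lcm deg : ℕ)) U) := by
  obtain ⟨i, hi⟩ := exists_notMem hdeg hf hgen x
  refine ⟨Proj.basicOpen 𝒜 (f i), hi, ⟨TwistX.powFrac (pow_mem_lcm hf 1 i) SetLike.GradedOne.one_mem
    (d := Finset.univ.lcm deg) (by simp) a (fun y => TwistX.notMem_pow y.2 _)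
    (fun y h => y.1.isPrime.ne_top ((Ideal.eq_top_iff_one _).mpr h))⟩⟩

end Groth.Agent.IntTh85.TwistLcm
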