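import Groth.Agent.SGA1Q.Residue
import Mathlib.AlgebraicGeometry.Morphisms.ClosedImmersion
import Mathlib.AlgebraicGeometry.Morphisms.IsIso

/-!
# Criteria on the sections over an affine cover of the target
-/

set_option autoImplicit false
universe u

open CategoryTheory CategoryTheory.Limits AlgebraicGeometry TopologicalSpace

namespace Groth.Agent.IntTh85.AppCrit

variable {A B : Scheme.{u}} (m : A ⟶ B)

theorem isClosedImmersion_of_app_surjective [IsAffineHom m]
    (h : ∀ y : B, ∃ U : B.Opens, IsAffineOpen U ∧ y ∈ U ∧ Function.Surjective (m.app U).hom) :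
    IsClosedImmersion m := by
  choose U hU hy hs using h
  rw [IsZariskiLocalAtTarget.iff_of_iSup_eq_top (P := @IsClosedImmersion.{u}) U
    (eq_top_iff.2 fun y _ => Opens.mem_iSup.2 ⟨y, hy y⟩)]
  intro y
  haveI : IsAffine (U y).toScheme := hU y
  haveI : IsAffine (m ⁻¹ᵁ U y).toScheme := (hU y).preimage m
  refine IsClosedImmersion.of_surjective_of_isAffine _ ?_
  have key : ∀ W : B.Opens, W = U y → Function.Surjective (m.app W).hom := fun W e => by
    subst e; exact hs y
  rw [morphismRestrict_appTop]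
  exact ((ConcreteCategory.bijective_of_isIso (A.presheaf.map
    (eqToHom (image_morphismRestrict_preimage m (U y) ⊤)).op)).2).comp (key _ (U y).ι_image_top)

theorem isIso_of_app_bijective [IsAffineHom m]
    (h : ∀ y : B, ∃ U : B.Opens, IsAffineOpen U ∧ y ∈ U ∧ Function.Bijective (m.app U).hom) :
    IsIso m := by
  choose U hU hy hs using h
  show MorphismProperty.isomorphisms Scheme.{u} m
  rw [IsZariskiLocalAtTarget.iff_of_iSup_eq_top (P := MorphismProperty.isomorphisms Scheme.{u}) U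
    (eq_top_iff.2 fun y _ => Opens.mem_iSup.2 ⟨y, hy y⟩)]
  intro y
  haveI : IsAffine (U y).toScheme := hU y
  haveI : IsAffine (m ⁻¹ᵁ U y).toScheme := (hU y).preimage m
  suffices IsIso (m ∣_ U y).appTop from
    (MorphismProperty.arrow_mk_iso_iff (MorphismProperty.isomorphisms Scheme.{u})
      (arrowIsoSpecΓOfIsAffine (m ∣_ U y))).mpr (inferInstanceAs (IsIso (Spec.map (m ∣_ U y).appTop)))
  have key : ∀ W : B.Opens, W = U y → Function.Bijective (m.app W).hom := fun W e => by
    subst e; exact hs y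
  rw [morphismRestrict_appTop]
  exact (ConcreteCategory.isIso_iff_bijective _).2 ((ConcreteCategory.bijective_of_isIso (A.presheaf.map
    (eqToHom (image_morphismRestrict_preimage m (U y) ⊤)).op)).comp (key _ (U y).ι_image_top))

/-- The residue field extension at `y` is trivial if every function near `y` is, at `y`, a fraction of
functions from the target. -/
theorem isIso_residueFieldMap (y : A) {O : B.Opens} (hyO : y ∈ m ⁻¹ᵁ O) (hA : IsAffineOpen (m ⁻¹ᵁ O))
    (h : ∀ u : Γ(A, m ⁻¹ᵁ O), ∃ a b : Γ(B, O),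
      A.evaluation (m ⁻¹ᵁ O) y hyO ((m.app O).hom b) ≠ 0 ∧
      A.evaluation (m ⁻¹ᵁ O) y hyO ((m.app O).hom b * u - (m.app O).hom a) = 0) :
    IsIso (m.residueFieldMap y) := by
  rw [ConcreteCategory.isIso_iff_bijective]
  refine ⟨RingHom.injective _, fun z => ?_⟩
  have hev : ∀ a : Γ(B, O), A.evaluation (m ⁻¹ᵁ O) y hyO ((m.app O).hom a) =
      m.residueFieldMap y (B.evaluation O (m y) hyO a) := fun a =>
    (Scheme.evaluation_naturality_apply m y hyO a).symm
  have hin : ∀ u : Γ(A, m ⁻¹ᵁ O),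
      A.evaluation (m ⁻¹ᵁ O) y hyO u ∈ (m.residueFieldMap y).hom.fieldRange := fun u => by
    obtain ⟨a, b, hb, hab⟩ := h u
    rw [map_sub, map_mul, sub_eq_zero] at hab
    have : A.evaluation (m ⁻¹ᵁ O) y hyO u =
        A.evaluation (m ⁻¹ᵁ O) y hyO ((m.app O).hom a) / A.evaluation (m ⁻¹ᵁ O) y hyO ((m.app O).hom b) :=
      (eq_div_iff hb).2 ((mul_comm _ _).trans hab)
    rw [this, hev, hev]
    exact (m.residueFieldMap y).hom.fieldRange.div_mem ⟨_, rfl⟩ ⟨_, rfl⟩
  letI := (RingHom.kerLift (A.evaluation (m ⁻¹ᵁ O) y hyO).hom).toAlgebra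
  haveI := SGA1Q.isFractionRing_evaluation hA y hyO
  obtain ⟨u, v, -, rfl⟩ := IsFractionRing.div_surjective
    (A := Γ(A, m ⁻¹ᵁ O) ⧸ RingHom.ker (A.evaluation (m ⁻¹ᵁ O) y hyO).hom) z
  obtain ⟨u, rfl⟩ := Ideal.Quotient.mk_surjective u
  obtain ⟨v, rfl⟩ := Ideal.Quotient.mk_surjective v
  exact (m.residueFieldMap y).hom.fieldRange.div_mem (hin u) (hin v)

end Groth.Agent.IntTh85.AppCrit
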