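import Groth.Agent.H23.FFDescent
import Groth.Agent.Hensel.Henselization
import Groth.Agent.Hensel.HenselizationProps
import Groth.Agent.Hensel.IntegralStrict
import Mathlib.AlgebraicGeometry.Morphisms.Proper
import Mathlib.AlgebraicGeometry.Morphisms.Integral
import Mathlib.AlgebraicGeometry.Limits
import Mathlib.AlgebraicGeometry.Morphisms.Flat
import Mathlib.AlgebraicGeometry.Morphisms.Affine

/-!
# The image of an integral morphism with finite fibres is affine

If `q : W ⟶ Z` is surjective, `g : Z ⟶ S` is separated and `q ≫ g` is integral with finite fibres, then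
`g` is integral. Proof: `IsAffineHom` descends along a flat surjective (not necessarily quasi-compact) morphism,
here the disjoint union of the henselizations of all local rings of `S`; over a henselian local base the scheme
`Z` splits into finitely many open and closed pieces, each with a unique closed point, hence each affine.
-/

set_option linter.style.haveILetI false
set_option backward.isDefEq.respectTransparency false
set_option backward.isDefEq.respectTransparency.types false

universe u

open CategoryTheory CategoryTheory.Limits AlgebraicGeometry TopologicalSpace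

noncomputable section

namespace Groth.Agent.IntTh85.ChevFin

/-- An open and closed subset of an affine open is affine. -/
theorem isAffineOpen_of_isClosed {Z : Scheme.{u}} {U V : Z.Opens} (hU : IsAffineOpen U) (hVU : V ≤ U)
    (hV : IsClosed (V : Set Z)) : IsAffineOpen V := by
  haveI : IsClosedImmersion V.ι := .of_isPreimmersion V.ι (by rw [Scheme.Opens.range_ι]; exact hV)
  have h := (hU.preimage V.ι).image_of_isOpenImmersion V.ι
  rwa [Scheme.Hom.image_preimage_eq_opensRange_inf, Scheme.Opens.opensRange_ι, inf_eq_left.2 hVU] at h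

/-- Over a henselian local ring: a scheme dominated by an integral affine scheme with finite closed fibre is
affine. -/
theorem isAffine_of_henselian (H A : CommRingCat.{u}) [HenselianLocalRing H] (φ : H ⟶ A)
    (hφ : φ.hom.IsIntegral) {Z : Scheme.{u}} (g : Z ⟶ Spec H) [IsSeparated g] (q : Spec A ⟶ Z)
    [Surjective q] (hq : q ≫ g = Spec.map φ)
    (hfin : ((Spec.map φ) ⁻¹' {IsLocalRing.closedPoint H}).Finite) : IsAffine Z := by
  haveI : IsIntegralHom (q ≫ g) := hq ▸ (IsIntegralHom.SpecMap_iff (φ := φ)).2 hφ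
  haveI : UniversallyClosed q := MorphismProperty.of_postcomp (W := @UniversallyClosed) (W' := @IsSeparated)
    q g ‹_› inferInstance
  letI : Algebra H A := φ.hom.toAlgebra
  haveI : Algebra.IsIntegral H A := ⟨hφ⟩
  have hmax : Finite (MaximalSpectrum A) := by
    haveI := hfin.to_subtype
    refine Finite.of_injective (β := ((Spec.map φ) ⁻¹' {IsLocalRing.closedPoint H} : Set (Spec A)))
      (fun M => ⟨M.toPrimeSpectrum, ?_⟩) (fun M M' h => MaximalSpectrum.toPrimeSpectrum_injective (congrArg Subtype.val h))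
    have := Ideal.isMaximal_comap_of_isIntegral_of_isMaximal (R := H) M.asIdeal
    exact PrimeSpectrum.ext (IsLocalRing.eq_maximalIdeal this)
  have huniq : ∀ (p : PrimeSpectrum A) (M M' : MaximalSpectrum A),
      p.asIdeal ≤ M.asIdeal → p.asIdeal ≤ M'.asIdeal → M = M' := by
    intro p M M' h h'
    haveI := Hensel.isLocalRing_of_isIntegral_domain H (A ⧸ p.asIdeal)
    have key : ∀ N : MaximalSpectrum A, p.asIdeal ≤ N.asIdeal →
        N.asIdeal = (IsLocalRing.maximalIdeal (A ⧸ p.asIdeal)).comap (Ideal.Quotient.mk p.asIdeal) := by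
      intro N hN
      have hNm : (N.asIdeal.map (Ideal.Quotient.mk p.asIdeal)).IsMaximal :=
        (Ideal.map_eq_top_or_isMaximal_of_surjective _ Ideal.Quotient.mk_surjective N.isMaximal).resolve_left
          fun e => N.isMaximal.ne_top (by rw [← Ideal.comap_map_mk hN, e, Ideal.comap_top])
      rw [← IsLocalRing.eq_maximalIdeal hNm, Ideal.comap_map_mk hN]
    exact MaximalSpectrum.ext ((key M h).trans (key M' h').symm)
  let C : MaximalSpectrum A → Set (Spec A) := fun M => {p | p.asIdeal ≤ M.asIdeal}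
  have hC : ∀ M, IsClosed (C M) := by
    intro M
    have hr : Set.range (PrimeSpectrum.comap (algebraMap A (Localization.AtPrime M.asIdeal))) = C M := by
      rw [PrimeSpectrum.localization_comap_range (Localization.AtPrime M.asIdeal) M.asIdeal.primeCompl]
      ext p
      exact Set.disjoint_compl_left_iff_subset
    have : StableUnderSpecialization (C M) := by
      intro p p' hpp' hp
      obtain ⟨M', hM', hle⟩ := Ideal.exists_le_maximal p'.asIdeal p'.isPrime.ne_top
      have := huniq p M ⟨M', hM'⟩ hp ((show p.asIdeal ≤ p'.asIdeal from (PrimeSpectrum.le_iff_specializes p p').2 hpp').trans hle)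
      subst this
      exact hle
    rw [← hr] at this ⊢
    exact PrimeSpectrum.isClosed_range_of_stableUnderSpecialization _ this
  let c : MaximalSpectrum A → Z := fun M => q M.toPrimeSpectrum
  have hcc : ∀ M, IsClosed ({c M} : Set Z) := fun M => by
    have h := q.isClosedMap _ ((PrimeSpectrum.isClosed_singleton_iff_isMaximal M.toPrimeSpectrum).2 M.isMaximal)
    simpa only [Set.image_singleton] using h
  have hcov : ∀ z : Z, ∃ M p, q p = z ∧ p ∈ C M := fun z => by
    obtain ⟨p, rfl⟩ := q.surjective z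
    obtain ⟨M, hM, hle⟩ := Ideal.exists_le_maximal p.asIdeal p.isPrime.ne_top
    exact ⟨⟨M, hM⟩, p, rfl, hle⟩
  have hspec : ∀ (M : MaximalSpectrum A) (p : Spec A), p ∈ C M → q p ⤳ c M := fun M p hp =>
    ((PrimeSpectrum.le_iff_specializes p M.toPrimeSpectrum).1 hp).map q.continuous
  let T : Z → Set Z := fun z₀ => ⋃ M ∈ {M | c M = z₀}, q '' C M
  have hT : ∀ z₀, IsClosed (T z₀) := fun z₀ =>
    (Set.toFinite _).isClosed_biUnion fun M _ => q.isClosedMap _ (hC M)
  have hdisj : ∀ (M₁ M₂ : MaximalSpectrum A) (p₁ p₂ : Spec A), p₁ ∈ C M₁ → p₂ ∈ C M₂ → q p₁ = q p₂ →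
      c M₁ = c M₂ := by
    intro M₁ M₂ p₁ p₂ h₁ h₂ he
    have h : c M₂ ∈ q '' closure {p₁} := by
      have hcl : IsClosed (q '' closure ({p₁} : Set (Spec A))) := q.isClosedMap _ isClosed_closure
      have hsub : ({q p₁} : Set Z) ⊆ q '' closure ({p₁} : Set (Spec A)) :=
        Set.singleton_subset_iff.2 (Set.mem_image_of_mem q (subset_closure (Set.mem_singleton p₁)))
      have hsp : q p₁ ⤳ c M₂ := by rw [he]; exact hspec M₂ p₂ h₂
      exact hcl.closure_subset_iff.2 hsub (specializes_iff_mem_closure.1 hsp)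
    obtain ⟨p', hp', he'⟩ := h
    have hle : p₁.asIdeal ≤ p'.asIdeal :=
      (PrimeSpectrum.le_iff_specializes p₁ p').2 (specializes_iff_mem_closure.2 hp')
    obtain ⟨M', hM', hle'⟩ := Ideal.exists_le_maximal p'.asIdeal p'.isPrime.ne_top
    have := huniq p₁ M₁ ⟨M', hM'⟩ h₁ (hle.trans hle')
    subst this
    have h2 := hspec ⟨M', hM'⟩ p' hle'
    rw [he'] at h2
    have := (hcc M₂).closure_eq ▸ specializes_iff_mem_closure.1 h2
    exact this
  have hopen : ∀ M, IsOpen (T (c M)) := by
    intro M
    have he : T (c M) = (⋃ M' ∈ {M' | c M' ≠ c M}, T (c M'))ᶜ := by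
      ext z
      obtain ⟨M₁, p₁, rfl, hp₁⟩ := hcov z
      simp only [T, Set.mem_iUnion, Set.mem_ofPred_eq, Set.mem_compl_iff, Set.mem_image, exists_prop]
      constructor
      · rintro ⟨M₂, hM₂, p₂, hp₂, he⟩ ⟨M', hne, M₃, hM₃, p₃, hp₃, he'⟩
        exact hne (hM₃ ▸ hM₂ ▸ hdisj M₃ M₂ p₃ p₂ hp₃ hp₂ (he'.trans he.symm))
      · intro h
        exact ⟨M₁, by_contra fun hne => h ⟨M₁, hne, M₁, rfl, p₁, hp₁, rfl⟩, p₁, hp₁, rfl⟩
    rw [he]
    exact ((Set.toFinite _).isClosed_biUnion fun M' _ => hT _).isOpen_compl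
  let ι := Set.range c
  haveI : Finite ι := (Set.finite_range c).to_subtype
  let V : ι → Z.Opens := fun i => ⟨T i.1, by obtain ⟨M, hM⟩ := i.2; rw [← hM]; exact hopen M⟩
  have haff : ∀ i, IsAffineOpen (V i) := by
    rintro ⟨_, M, rfl⟩
    obtain ⟨_, ⟨U, hU, rfl⟩, hzU, -⟩ := Z.isBasis_affineOpens.exists_subset_of_mem_open
      (Set.mem_univ (c M)) isOpen_univ
    refine isAffineOpen_of_isClosed hU ?_ (hT _)
    intro z hz
    obtain ⟨M', hM', p, hp, rfl⟩ : ∃ M', c M' = c M ∧ ∃ p ∈ C M', q p = z := by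
      simpa [V, T] using hz
    exact (hM' ▸ hspec M' p hp).mem_open U.isOpen hzU
  have hdis : Pairwise fun i j => Disjoint (V i) (V j) := by
    intro i j hij
    refine disjoint_iff_inf_le.2 fun z hz => ?_
    obtain ⟨hi, hj⟩ : z ∈ T i.1 ∧ z ∈ T j.1 := hz
    simp only [T, Set.mem_iUnion, Set.mem_ofPred_eq, Set.mem_image, exists_prop] at hi hj
    obtain ⟨M₁, h1, p₁, hp₁, e1⟩ := hi
    obtain ⟨M₂, h2, p₂, hp₂, e2⟩ := hj
    exact absurd (Subtype.ext (h1.symm.trans ((hdisj M₁ M₂ p₁ p₂ hp₁ hp₂ (e1.trans e2.symm)).trans h2))) hij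
  have htop : ⨆ i, V i = ⊤ := by
    refine top_le_iff.1 fun z _ => Opens.mem_iSup.2 ?_
    obtain ⟨M, p, rfl, hp⟩ := hcov z
    exact ⟨⟨c M, M, rfl⟩, Set.mem_biUnion (show M ∈ {M' | c M' = c M} from rfl) ⟨p, hp, rfl⟩⟩
  have h := IsAffineOpen.iSup_of_disjoint haff hdis
  rw [htop] at h
  exact IsAffine.of_isIso Z.topIso.inv (h := h)

section
variable (R : Type u) [CommRing R] [IsLocalRing R]

/-- The map from the henselization. -/
def henzHom : CommRingCat.of R ⟶ CommRingCat.of (Hensel.LocalHenz R) :=
  CommRingCat.ofHom (algebraMap R (Hensel.LocalHenz R))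

theorem flat_henzHom : Flat (Spec.map (henzHom R)) :=
  (HasRingHomProperty.Spec_iff (P := @Flat)).2 (RingHom.flat_algebraMap_iff.2
    (haveI := Hensel.faithfullyFlat_of_isHenselization R (Hensel.LocalHenz R); inferInstance))

instance isLocalHom_henzHom : IsLocalHom (henzHom R).hom :=
  inferInstanceAs (IsLocalHom (algebraMap R (Hensel.LocalHenz R)))

theorem henzHom_closedPoint :
    Spec.map (henzHom R) (IsLocalRing.closedPoint (Hensel.LocalHenz R)) = IsLocalRing.closedPoint R :=
  IsLocalRing.comap_closedPoint _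

theorem isClosedImmersion_residue_henz :
    IsClosedImmersion (Spec.map (henzHom R ≫ CommRingCat.ofHom (IsLocalRing.residue (Hensel.LocalHenz R)))) := by
  refine IsClosedImmersion.spec_of_surjective _ fun x => ?_
  obtain ⟨y, hy⟩ := (Hensel.bijective_residueFieldMap_of_isHenselization R (Hensel.LocalHenz R)).2 x
  obtain ⟨y, rfl⟩ := IsLocalRing.residue_surjective y
  exact ⟨y, hy⟩

theorem range_residue :
    Set.range (Spec.map (CommRingCat.ofHom (IsLocalRing.residue R))) = {IsLocalRing.closedPoint R} := by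
  haveI : Unique (Spec (CommRingCat.of (IsLocalRing.ResidueField R))) :=
    inferInstanceAs (Unique (PrimeSpectrum (IsLocalRing.ResidueField R)))
  rw [Set.range_unique]
  congr 1
  exact (congrArg _ (Subsingleton.elim _ (IsLocalRing.closedPoint (IsLocalRing.ResidueField R)))).trans
    (IsLocalRing.comap_closedPoint (IsLocalRing.residue R))

end

/-- The map to `S` from the henselization of a local ring. -/
def henzMap (S : Scheme.{u}) (s : S) : Spec (CommRingCat.of (Hensel.LocalHenz (S.presheaf.stalk s))) ⟶ S :=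
  Spec.map (henzHom (S.presheaf.stalk s)) ≫ S.fromSpecStalk s

instance flat_henzMap (S : Scheme.{u}) (s : S) : Flat (henzMap S s) := by
  haveI := flat_henzHom (S.presheaf.stalk s)
  haveI : Flat (S.fromSpecStalk s) := GrpSchLib.flat_fromSpecStalk s
  unfold henzMap
  infer_instance

theorem henzMap_closedPoint (S : Scheme.{u}) (s : S) :
    henzMap S s (IsLocalRing.closedPoint (Hensel.LocalHenz (S.presheaf.stalk s))) = s := by
  show S.fromSpecStalk s (Spec.map (henzHom (S.presheaf.stalk s)) _) = s
  rw [henzHom_closedPoint]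
  exact Scheme.fromSpecStalk_closedPoint

/-- `g` is affine if some `q ≫ g` is integral with finite fibres and `q` is surjective. -/
theorem isAffineHom_of_surjective_comp {W Z S : Scheme.{u}} (q : W ⟶ Z) (g : Z ⟶ S) [Surjective q]
    [IsSeparated g] [IsIntegralHom (q ≫ g)] (hfin : ∀ s : S, ((q ≫ g) ⁻¹' {s}).Finite) :
    IsAffineHom g := by
  haveI : UniversallyClosed g := UniversallyClosed.of_comp_surjective q g
  let Hs : S → CommRingCat.{u} := fun s => CommRingCat.of (Hensel.LocalHenz (S.presheaf.stalk s))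
  let m : ∀ s, Spec (Hs s) ⟶ S := fun s => henzMap S s
  haveI : Flat (Sigma.desc m) :=
    IsZariskiLocalAtSource.sigmaDesc (P := @Flat.{u}) fun s => flat_henzMap S s
  have hcl := henzMap_closedPoint S
  haveI : Surjective (Sigma.desc m) := ⟨fun s => ⟨Sigma.ι (fun s => Spec (Hs s)) s (IsLocalRing.closedPoint _), by
    exact (Scheme.Hom.comp_apply (Sigma.ι (fun s => Spec (Hs s)) s) (Sigma.desc m) _).symm.trans
      ((congrArg (fun h => (h : Spec (Hs s) ⟶ S) (IsLocalRing.closedPoint _)) (Sigma.ι_desc m s)).trans (hcl s))⟩⟩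
  suffices IsAffineHom (pullback.snd g (Sigma.desc m)) from H23.FFDescent.isAffineHom_of_baseChange g (Sigma.desc m)
  refine IsZariskiLocalAtTarget.of_openCover (P := @IsAffineHom.{u}) (sigmaOpenCover _) fun s => ?_
  show IsAffineHom (pullback.snd (pullback.snd g (Sigma.desc m)) (Sigma.ι _ s))
  rw [← pullbackLeftPullbackSndIso_hom_snd g (Sigma.desc m) (Sigma.ι (fun s => Spec (Hs s)) s)]
  refine (MorphismProperty.cancel_left_of_respectsIso (P := @IsAffineHom.{u}) _ _).mpr ?_
  suffices key : IsAffineHom (pullback.snd g (m s)) by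
    have tr : ∀ (T : Scheme.{u}) (a b : T ⟶ S), a = b → IsAffineHom (pullback.snd g a) →
        IsAffineHom (pullback.snd g b) := by rintro T a b rfl h; exact h
    exact tr _ _ _ (Sigma.ι_desc m s).symm key
  let gH := pullback.snd g (m s)
  let W' := pullback q (pullback.fst g (m s))
  let qH : W' ⟶ pullback g (m s) := pullback.snd _ _
  let e : W' ≅ pullback (q ≫ g) (m s) := pullbackRightPullbackFstIso g (m s) q
  have he : qH ≫ gH = e.hom ≫ pullback.snd (q ≫ g) (m s) := (pullbackRightPullbackFstIso_hom_snd _ _ _).symm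
  haveI : IsIntegralHom (qH ≫ gH) := by rw [he]; infer_instance
  haveI : IsAffine W' := isAffine_of_isAffineHom (qH ≫ gH)
  haveI : IsSeparated gH := MorphismProperty.pullback_snd _ _ inferInstance
  haveI : HenselianLocalRing (Hs s) :=
    Hensel.IsHenselization.henselian (R := S.presheaf.stalk s) (S := Hensel.LocalHenz (S.presheaf.stalk s))
  obtain ⟨ψ, hψ⟩ := Spec.map_surjective (W'.isoSpec.inv ≫ qH ≫ gH)
  have hψi : ψ.hom.IsIntegral := by
    rw [← IsIntegralHom.SpecMap_iff, hψ]; infer_instance
  haveI : Surjective (W'.isoSpec.inv ≫ qH) := by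
    haveI : Surjective qH := MorphismProperty.pullback_snd _ _ ‹Surjective q›
    infer_instance
  suffices IsAffine (pullback g (m s)) by
    exact isAffineHom_of_isAffine gH
  refine isAffine_of_henselian (Hs s) _ ψ hψi gH (W'.isoSpec.inv ≫ qH) (by rw [hψ, Category.assoc]) ?_
  -- finiteness of the closed fibre
  let κ := CommRingCat.of (IsLocalRing.ResidueField (Hensel.LocalHenz (S.presheaf.stalk s)))
  let i : Spec κ ⟶ Spec (Hs s) := Spec.map (CommRingCat.ofHom (IsLocalRing.residue _))
  have hi : Set.range i = {IsLocalRing.closedPoint (Hensel.LocalHenz (S.presheaf.stalk s))} := range_residue _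
  haveI : IsPreimmersion (i ≫ m s) := by
    haveI := isClosedImmersion_residue_henz (S.presheaf.stalk s)
    show IsPreimmersion (i ≫ Spec.map (henzHom (S.presheaf.stalk s)) ≫ S.fromSpecStalk s)
    rw [← Category.assoc, ← Spec.map_comp]
    infer_instance
  have h1 : ((pullback.snd (q ≫ g) (m s)) ⁻¹' {IsLocalRing.closedPoint (Hensel.LocalHenz (S.presheaf.stalk s))}).Finite := by
    let j := pullback.fst (pullback.snd (q ≫ g) (m s)) i
    have hj : Set.range j = (pullback.snd (q ≫ g) (m s)) ⁻¹' {IsLocalRing.closedPoint (Hensel.LocalHenz (S.presheaf.stalk s))} := by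
      rw [← hi]; exact Scheme.Pullback.range_fst _ _
    rw [← hj]
    let e' := pullbackLeftPullbackSndIso (q ≫ g) (m s) i
    have he' : e'.hom ≫ pullback.fst (q ≫ g) (i ≫ m s) = j ≫ pullback.fst _ _ :=
      pullbackLeftPullbackSndIso_hom_fst _ _ _
    haveI : IsPreimmersion (pullback.fst (q ≫ g) (i ≫ m s)) :=
      MorphismProperty.pullback_fst _ _ inferInstance
    have hinj : Function.Injective (j ≫ pullback.fst (q ≫ g) (m s)) := by
      rw [← he']; exact (e'.hom ≫ pullback.fst (q ≫ g) (i ≫ m s)).isEmbedding.injective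
    refine Set.Finite.of_finite_image (f := pullback.fst (q ≫ g) (m s)) ((hfin s).subset ?_) ?_
    · rintro _ ⟨_, ⟨x, rfl⟩, rfl⟩
      show (q ≫ g) _ = s
      have hx : pullback.snd (q ≫ g) (m s) (j x) = IsLocalRing.closedPoint (Hensel.LocalHenz (S.presheaf.stalk s)) :=
        (hj ▸ Set.mem_range_self x : j x ∈ _)
      rw [← Scheme.Hom.comp_apply, pullback.condition, Scheme.Hom.comp_apply, hx]
      exact hcl s
    · rintro _ ⟨x, rfl⟩ _ ⟨y, rfl⟩ h
      exact congrArg j (hinj h)
  rw [hψ, he]
  exact (h1.preimage (W'.isoSpec.inv ≫ e.hom).isEmbedding.injective.injOn).subset fun x hx => by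
    exact hx

theorem isIntegralHom_of_surjective_comp {W Z S : Scheme.{u}} (q : W ⟶ Z) (g : Z ⟶ S) [Surjective q]
    [IsSeparated g] [IsIntegralHom (q ≫ g)] (hfin : ∀ s : S, ((q ≫ g) ⁻¹' {s}).Finite) :
    IsIntegralHom g :=
  haveI : UniversallyClosed g := UniversallyClosed.of_comp_surjective q g
  IsIntegralHom.iff_universallyClosed_and_isAffineHom.2 ⟨inferInstance, isAffineHom_of_surjective_comp q g hfin⟩

end Groth.Agent.IntTh85.ChevFin
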