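import Groth.Agent.ProjUPX.Sections
import Groth.Agent.InvX.Tensor
import Groth.Agent.ZetaLib.ProjPoints
import Groth.Agent.S10867
import Groth.Agent.PnCoh.Chow.Proper
import Mathlib.AlgebraicGeometry.AlgClosed.Basic

/-!
# Closed immersions into projective space: separation of points and tangent vectors
-/

noncomputable section

set_option linter.style.haveILetI false
set_option linter.unusedSectionVars false
set_option backward.isDefEq.respectTransparency false
set_option backward.isDefEq.respectTransparency.types false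

universe u

open CategoryTheory CategoryTheory.Limits AlgebraicGeometry TopologicalSpace Opposite
open HomogeneousLocalization (Away)

namespace Groth.Agent.IntTh85.ClosedImmCrit

open Groth.Agent

variable (n : ℕ) (k : Type u) [Field k]

local notation "𝒢" => CohB1.polyGrading n k
local notation "T" => (MvPolynomial.X : Fin (n + 1) → MvPolynomial (Fin (n + 1)) k)
local notation "ℙ" => CohB1.ProjSpace n k
local notation "𝔭" => CohB1.ProjSpace.toSpec n k

/-- The chart. -/
abbrev D (j : Fin (n + 1)) : (ℙ).Opens := Proj.basicOpen 𝒢 (T j)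

/-- The coordinate `T_i / T_j`. -/
def x (j i : Fin (n + 1)) : Γ(ℙ, D n k j) := (Proj.awayToSection 𝒢 (T j)).hom (ZetaLib.coord n k j i)

/-- The function of a linear form on a chart. -/
def r (j : Fin (n + 1)) (c : Fin (n + 1) → k) : Γ(ℙ, D n k j) :=
  ∑ i, AModX.resR (le_top : D n k j ≤ ⊤) (ProjUP.toGlobal 𝔭 (c i)) * x n k j i

variable {k} in
/-- A constant in a stalk. -/
abbrev cst {Y : Scheme.{u}} (q : Y ⟶ Spec (CommRingCat.of k)) (y : Y) : k →+* Y.presheaf.stalk y :=
  (Y.presheaf.germ ⊤ y trivial).hom.comp (ProjUP.toGlobal q)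

theorem exists_sub_mem {k : Type u} [Field k] [IsAlgClosed k] {Y : Scheme.{u}} (q : Y ⟶ Spec (CommRingCat.of k))
    [LocallyOfFiniteType q] {y : Y} (hy : IsClosed ({y} : Set Y)) (a : Y.presheaf.stalk y) :
    ∃ c : k, a - cst q y c ∈ IsLocalRing.maximalIdeal (Y.presheaf.stalk y) := by
  let e := residueFieldIsoBase q y hy
  have hspec : Spec.map (CommRingCat.ofHom ((Y.residue y).hom.comp (cst q y))) = Y.fromSpecResidueField y ≫ q := by
    have h1 : q = Y.toSpecΓ ≫ Spec.map (CommRingCat.ofHom (ProjUP.toGlobal q)) := by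
      have := Scheme.toSpecΓ_naturality q
      rw [show CommRingCat.ofHom (ProjUP.toGlobal q) = (Scheme.ΓSpecIso (CommRingCat.of k)).inv ≫ q.appTop from rfl,
        Spec.map_comp, ← Category.assoc, ← this, Category.assoc,
        ← SpecMap_ΓSpecIso_hom, ← Spec.map_comp, Iso.inv_hom_id, Spec.map_id, Category.comp_id]
    conv_rhs => rw [h1]
    rw [Scheme.fromSpecResidueField, Category.assoc, Scheme.fromSpecStalk_toSpecΓ_assoc, ← Spec.map_comp,
      ← Spec.map_comp]
    rfl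
  have h : e.inv = CommRingCat.ofHom ((Y.residue y).hom.comp (cst q y)) :=
    Spec.map_injective (by rw [SpecMap_residueFieldIsoBase_inv, hspec])
  refine ⟨e.hom (Y.residue y a), Ideal.Quotient.eq.1 ?_⟩
  have h2 : e.inv (e.hom (Y.residue y a)) = (Y.residue y).hom (cst q y (e.hom (Y.residue y a))) :=
    ConcreteCategory.congr_hom h _
  rw [Iso.hom_inv_id_apply] at h2
  exact h2

theorem toSpec_appLE_chart (j : Fin (n + 1)) (c : k) :
    (𝔭).appLE ⊤ (D n k j) le_top ((Scheme.ΓSpecIso (CommRingCat.of k)).inv c) =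
      (Proj.awayToSection 𝒢 (T j)).hom (ZetaLib.base n k j c) := by
  let D : (Proj 𝒢).Opens := Proj.basicOpen 𝒢 (T j)
  have h : D.ι ≫ CohB1.ProjSpace.toSpec n k =
      Proj.basicOpenToSpec 𝒢 (T j) ≫ Spec.map (CommRingCat.ofHom (ZetaLib.base n k j)) := by
    rw [← ZetaLib.chart_toSpec, ← Proj.basicOpenIsoSpec_hom 𝒢 (T j) (ZetaLib.X_mem_one n k j) Nat.one_pos]
    simp [ZetaLib.chart, Proj.awayι]
    rfl
  apply (ConcreteCategory.bijective_of_isIso D.topIso.inv).1
  have h2 := ConcreteCategory.congr_hom (congrArg Scheme.Hom.appTop h) ((Scheme.ΓSpecIso (CommRingCat.of k)).inv c)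
  have e1 : Scheme.Hom.appTop (D.ι ≫ CohB1.ProjSpace.toSpec n k) =
      (CohB1.ProjSpace.toSpec n k).appLE ⊤ D le_top ≫ D.topIso.inv := by
    simp [Scheme.Hom.appLE, Scheme.Hom.comp_app, Scheme.Opens.topIso, D, ← Functor.map_comp]
    rfl
  have e2 : Scheme.Hom.appTop (Proj.basicOpenToSpec 𝒢 (T j) ≫ Spec.map (CommRingCat.ofHom (ZetaLib.base n k j))) =
      (Scheme.ΓSpecIso (CommRingCat.of k)).hom ≫ CommRingCat.ofHom (ZetaLib.base n k j) ≫
        Proj.awayToSection 𝒢 (T j) ≫ D.topIso.inv := by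
    rw [Scheme.Hom.comp_appTop, show (Proj.basicOpenToSpec 𝒢 (T j)).appTop = _ from Proj.basicOpenToSpec_app_top 𝒢 (T j)]
    simp [D]
  rw [e1, e2] at h2
  simp at h2 ⊢
  exact h2

theorem const_eq (j : Fin (n + 1)) (c : k) :
    AModX.resR (le_top : D n k j ≤ ⊤) (ProjUP.toGlobal 𝔭 c) =
      (Proj.awayToSection 𝒢 (T j)).hom (ZetaLib.base n k j c) := by
  rw [← toSpec_appLE_chart]
  show _ = ((𝔭).appTop ≫ (ℙ).presheaf.map (homOfLE (le_top : D n k j ≤ ⊤)).op) _
  rfl

theorem x_self (j : Fin (n + 1)) : x n k j j = 1 := by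
  have : ZetaLib.coord n k j j = 1 := HomogeneousLocalization.val_injective _ (by
    rw [HomogeneousLocalization.val_one]
    have hu : IsUnit (algebraMap (MvPolynomial (Fin (n + 1)) k) (Localization (Submonoid.powers (T j))) (T j)) :=
      IsLocalization.map_units _ (⟨T j, 1, pow_one _⟩ : Submonoid.powers (T j))
    exact hu.mul_left_injective ((ZetaLib.val_coord n k j j).trans (_root_.one_mul _).symm))
  rw [x, this, map_one]

theorem subring_eq_top (j : Fin (n + 1)) (S : Subring Γ(ℙ, D n k j))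
    (hc : ∀ c : k, AModX.resR (le_top : D n k j ≤ ⊤) (ProjUP.toGlobal 𝔭 c) ∈ S)
    (hl : ∀ l, x n k j l ∈ S) : S = ⊤ := by
  haveI : IsIso (Proj.awayToSection 𝒢 (T j)) :=
    inferInstanceAs (IsIso (Proj.basicOpenIsoAway 𝒢 (T j) (ZetaLib.X_mem_one n k j) Nat.one_pos).hom)
  refine top_le_iff.1 fun z hz => ?_
  clear hz
  obtain ⟨y, rfl⟩ := (ConcreteCategory.bijective_of_isIso (Proj.awayToSection 𝒢 (T j))).2 z
  obtain ⟨p, rfl⟩ := ZetaLib.surjective_dehom n k j y
  show p ∈ S.comap ((Proj.awayToSection 𝒢 (T j)).hom.comp (ZetaLib.dehom n k j))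
  induction p using MvPolynomial.induction_on with
  | C c =>
    show (Proj.awayToSection 𝒢 (T j)).hom (ZetaLib.dehom n k j (MvPolynomial.C c)) ∈ S
    rw [ZetaLib.dehom, MvPolynomial.eval₂Hom_C, ← const_eq]
    exact hc c
  | add p q hp hq => exact add_mem hp hq
  | mul_X p l hp =>
    refine mul_mem hp ?_
    show (Proj.awayToSection 𝒢 (T j)).hom (ZetaLib.dehom n k j (MvPolynomial.X l)) ∈ S
    rw [ZetaLib.dehom, MvPolynomial.eval₂Hom_X']
    exact hl l

theorem germ_r {j : Fin (n + 1)} {y : ℙ} (hy : y ∈ D n k j) (c : Fin (n + 1) → k) :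
    (ℙ).presheaf.germ (D n k j) y hy (r n k j c) =
      ∑ i, cst 𝔭 y (c i) * (ℙ).presheaf.germ (D n k j) y hy (x n k j i) := by
  rw [r, map_sum]
  refine Finset.sum_congr rfl fun i _ => ?_
  rw [map_mul]
  exact congrArg (· * _) ((ℙ).presheaf.germ_res_apply (homOfLE le_top) y hy (ProjUP.toGlobal 𝔭 (c i)))

/-- The coefficients of `T_l - a T_j`. -/
def cf (j l : Fin (n + 1)) (a : k) : Fin (n + 1) → k := Pi.single l (1 : k) - Pi.single j a

theorem germ_r_cf {j : Fin (n + 1)} {y : ℙ} (hy : y ∈ D n k j) (l : Fin (n + 1)) (a : k) :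
    (ℙ).presheaf.germ (D n k j) y hy (r n k j (cf n k j l a)) =
      (ℙ).presheaf.germ (D n k j) y hy (x n k j l) - cst 𝔭 y a := by
  classical
  rw [germ_r]
  simp only [cf, Pi.sub_apply, map_sub, sub_mul, Finset.sum_sub_distrib]
  rw [Finset.sum_eq_single l (by intro i _ hi; rw [Pi.single_eq_of_ne hi, map_zero, zero_mul]) (by simp),
    Finset.sum_eq_single j (by intro i _ hi; rw [Pi.single_eq_of_ne hi, map_zero, zero_mul]) (by simp),
    Pi.single_eq_same, Pi.single_eq_same, map_one, one_mul, x_self, map_one, mul_one]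

theorem germ_r_single {j : Fin (n + 1)} {y : ℙ} (hy : y ∈ D n k j) (l : Fin (n + 1)) :
    (ℙ).presheaf.germ (D n k j) y hy (r n k j (Pi.single l 1)) =
      (ℙ).presheaf.germ (D n k j) y hy (x n k j l) := by
  classical
  rw [germ_r, Finset.sum_eq_single l (by intro i _ hi; rw [Pi.single_eq_of_ne hi, map_zero, zero_mul]) (by simp),
    Pi.single_eq_same, map_one, one_mul]

instance isProper_p : IsProper (CohB1.ProjSpace.toSpec n k) := PnCoh.Chow.isProper_toSpec n k

variable [IsAlgClosed k]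

/-- The maximal ideal of a closed point is generated by linear forms. -/
theorem maximalIdeal_le_span {j : Fin (n + 1)} {y : ℙ} (hy : y ∈ D n k j) (hc : IsClosed ({y} : Set ℙ)) :
    IsLocalRing.maximalIdeal ((ℙ).presheaf.stalk y) ≤ Ideal.span
      {v | ∃ c : Fin (n + 1) → k, v = (ℙ).presheaf.germ (D n k j) y hy (r n k j c) ∧
        v ∈ IsLocalRing.maximalIdeal ((ℙ).presheaf.stalk y)} := by
  set N := Ideal.span {v | ∃ c : Fin (n + 1) → k, v = (ℙ).presheaf.germ (D n k j) y hy (r n k j c) ∧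
        v ∈ IsLocalRing.maximalIdeal ((ℙ).presheaf.stalk y)} with hNdef
  have hN : N ≤ IsLocalRing.maximalIdeal _ := Ideal.span_le.2 fun v ⟨_, _, hv⟩ => hv
  let q : Γ(ℙ, D n k j) →+* (ℙ).presheaf.stalk y ⧸ N :=
    (Ideal.Quotient.mk N).comp ((ℙ).presheaf.germ _ y hy).hom
  have htop := subring_eq_top n k j (((Ideal.Quotient.mk N).comp (cst 𝔭 y)).range.comap q)
    (fun c => ⟨c, by
      show Ideal.Quotient.mk N _ = Ideal.Quotient.mk N ((ℙ).presheaf.germ _ y hy _)
      exact congrArg _ ((ℙ).presheaf.germ_res_apply (homOfLE le_top) y hy (ProjUP.toGlobal 𝔭 c)).symm⟩)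
    (fun l => by
      obtain ⟨a, ha⟩ := exists_sub_mem 𝔭 hc ((ℙ).presheaf.germ _ y hy (x n k j l))
      have hmem : (ℙ).presheaf.germ _ y hy (x n k j l) - cst 𝔭 y a ∈ N :=
        Ideal.subset_span ⟨cf n k j l a, (germ_r_cf n k hy l a).symm, ha⟩
      exact ⟨a, (Ideal.Quotient.eq.2 hmem).symm⟩)
  intro v hv
  have haff : IsAffineOpen (D n k j) := Proj.isAffineOpen_basicOpen 𝒢 (T j) (ProjPt.X_mem j) one_pos
  letI : Algebra Γ(ℙ, D n k j) ((ℙ).presheaf.stalk y) :=
    TopCat.Presheaf.algebra_section_stalk (ℙ).presheaf ⟨y, hy⟩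
  haveI := haff.isLocalization_stalk ⟨y, hy⟩
  obtain ⟨⟨f, g⟩, hfg⟩ := IsLocalization.surj (haff.primeIdealOf ⟨y, hy⟩).asIdeal.primeCompl v
  have hgu : IsUnit ((ℙ).presheaf.germ _ y hy (g : Γ(ℙ, D n k j))) :=
    IsLocalization.map_units ((ℙ).presheaf.stalk y) g
  have hfm : (ℙ).presheaf.germ _ y hy f ∈ IsLocalRing.maximalIdeal ((ℙ).presheaf.stalk y) :=
    (show (ℙ).presheaf.germ _ y hy f = _ from hfg.symm) ▸ Ideal.mul_mem_right _ _ hv
  obtain ⟨c, hc'⟩ := (htop ▸ Subring.mem_top f :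
    f ∈ ((Ideal.Quotient.mk N).comp (cst 𝔭 y)).range.comap q)
  have hcN : (ℙ).presheaf.germ _ y hy f - cst 𝔭 y c ∈ N := Ideal.Quotient.eq.1 hc'.symm
  have hcm : cst 𝔭 y c ∈ IsLocalRing.maximalIdeal ((ℙ).presheaf.stalk y) := by
    simpa using sub_mem hfm (hN hcN)
  have hc0 : c = 0 := by
    by_contra h
    exact (IsLocalRing.mem_maximalIdeal _).1 hcm ((isUnit_iff_ne_zero.2 h).map _)
  rw [hc0, map_zero, sub_zero] at hcN
  exact (Ideal.mul_unit_mem_iff_mem _ hgu).1
    ((show v * (ℙ).presheaf.germ _ y hy (g : Γ(ℙ, D n k j)) = _ from hfg) ▸ hcN)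

theorem exists_chart (y : ℙ) : ∃ j, y ∈ D n k j := ProjUPX.cov_X y

/-- Linear forms separate closed points. -/
theorem exists_form_separating {y y' : ℙ} (hc : IsClosed ({y} : Set ℙ)) (hne : y ≠ y') :
    ∃ c : Fin (n + 1) → k,
      (∀ (j : Fin (n + 1)) (hy : y ∈ D n k j),
        (ℙ).presheaf.germ (D n k j) y hy (r n k j c) ∈ IsLocalRing.maximalIdeal _) ∧
      ∃ (j : Fin (n + 1)) (hy' : y' ∈ D n k j),
        (ℙ).presheaf.germ (D n k j) y' hy' (r n k j c) ∉ IsLocalRing.maximalIdeal _ := by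
  obtain ⟨j, hy'⟩ := exists_chart n k y'
  by_cases hy : y ∈ D n k j
  · suffices h : ∃ c : Fin (n + 1) → k, (ℙ).presheaf.germ (D n k j) y hy (r n k j c) ∈ IsLocalRing.maximalIdeal _ ∧
        (ℙ).presheaf.germ (D n k j) y' hy' (r n k j c) ∉ IsLocalRing.maximalIdeal _ by
      obtain ⟨c, h1, h2⟩ := h
      exact ⟨c, fun j' hj' => change_chart y hy hj' c h1, j, hy', h2⟩
    by_contra! hall
    let q := ((IsLocalRing.residue _).comp ((ℙ).presheaf.germ _ y hy).hom).prod
      ((IsLocalRing.residue _).comp ((ℙ).presheaf.germ _ y' hy').hom)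
    let κ := ((IsLocalRing.residue _).comp (cst 𝔭 y)).prod ((IsLocalRing.residue _).comp (cst 𝔭 y'))
    have htop := subring_eq_top n k j (κ.range.comap q)
      (fun c => ⟨c, Prod.ext
        (congrArg (IsLocalRing.residue _) ((ℙ).presheaf.germ_res_apply (homOfLE le_top) y hy (ProjUP.toGlobal 𝔭 c)).symm)
        (congrArg (IsLocalRing.residue _) ((ℙ).presheaf.germ_res_apply (homOfLE le_top) y' hy' (ProjUP.toGlobal 𝔭 c)).symm)⟩)
      (fun l => by
        obtain ⟨a, ha⟩ := exists_sub_mem 𝔭 hc ((ℙ).presheaf.germ _ y hy (x n k j l))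
        have ha' := hall (cf n k j l a) (by rw [germ_r_cf]; exact ha)
        rw [germ_r_cf] at ha'
        exact ⟨a, Prod.ext (Ideal.Quotient.eq.2 ha).symm (Ideal.Quotient.eq.2 ha').symm⟩)
    have haff : IsAffineOpen (D n k j) := Proj.isAffineOpen_basicOpen 𝒢 (T j) (ProjPt.X_mem j) one_pos
    obtain ⟨f, hf, hy'f⟩ := haff.exists_basicOpen_le (V := ⟨({y} : Set ℙ)ᶜ, hc.isOpen_compl⟩)
      ⟨y', fun h => hne h.symm⟩ hy'
    have hyf : y ∉ (ℙ).basicOpen f := fun h => hf h rfl
    obtain ⟨c, hcq⟩ := (htop ▸ Subring.mem_top f : f ∈ κ.range.comap q)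
    rw [(ℙ).mem_basicOpen _ y hy] at hyf
    rw [(ℙ).mem_basicOpen _ y' hy'] at hy'f
    have h1 : IsLocalRing.residue _ (cst 𝔭 y c) = 0 :=
      (congrArg Prod.fst hcq).trans ((IsLocalRing.residue_eq_zero_iff _).2 ((IsLocalRing.mem_maximalIdeal _).2 hyf))
    have hc0 : c = 0 := ((IsLocalRing.residue _).comp (cst 𝔭 y)).injective (h1.trans (map_zero _).symm)
    have h2 : IsLocalRing.residue _ ((ℙ).presheaf.germ _ y' hy' f) = 0 :=
      (congrArg Prod.snd hcq).symm.trans (by
        show IsLocalRing.residue _ (cst 𝔭 y' c) = 0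
        rw [hc0, map_zero, map_zero])
    exact (IsLocalRing.mem_maximalIdeal _).1 ((IsLocalRing.residue_eq_zero_iff _).1 h2) hy'f
  · refine ⟨Pi.single j 1, fun j' hj' => ?_, j, hy', ?_⟩
    · rw [germ_r_single]
      by_contra h
      rw [IsLocalRing.mem_maximalIdeal] at h
      have hu : y ∈ (ℙ).basicOpen (x n k j' j) := ((ℙ).mem_basicOpen _ y hj').2 (not_not.1 h)
      exact hy (basicOpen_x_le j' j hu)
    · rw [germ_r_single, x_self, map_one]
      exact fun h => (IsLocalRing.mem_maximalIdeal _).1 h isUnit_one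
where
  basicOpen_x_le (j' l : Fin (n + 1)) : (ℙ).basicOpen (x n k j' l) ≤ D n k l := by
    have h := ProjUPX.le_preimage_of_isUnit (X := ℙ) (𝟙 _) (W := (ℙ).basicOpen (x n k j' l))
      (ProjPt.X_mem l) (ProjPt.X_mem j') ((ℙ).basicOpen_le _) (by
        unfold ProjUPX.ratioOf
        rw [Scheme.Hom.appLE]
        simp only [Scheme.Hom.id_app, Category.id_comp]
        exact AModX.isUnit_resR _ _ le_rfl)
    exact h
  change_chart (y : ℙ) {j j' : Fin (n + 1)} (hy : y ∈ D n k j) (hy' : y ∈ D n k j') (c : Fin (n + 1) → k)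
      (h : (ℙ).presheaf.germ (D n k j) y hy (r n k j c) ∈ IsLocalRing.maximalIdeal _) :
      (ℙ).presheaf.germ (D n k j') y hy' (r n k j' c) ∈ IsLocalRing.maximalIdeal _ := by
    have hxx : ∀ i, (ℙ).presheaf.germ (D n k j') y hy' (x n k j' i) =
        (ℙ).presheaf.germ (D n k j) y hy (x n k j i) * (ℙ).presheaf.germ (D n k j') y hy' (x n k j' j) := by
      intro i
      let e : Γ(Twist.twist 𝒢 1, D n k j') := AModX.res _ le_top (ProjUPX.sec 𝒢 (ProjPt.X_mem j'))
      have hb := ((ProjUPX.isFrame_sec 𝒢 (ProjPt.X_mem (R := k) j')).germ_bijective hy').1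
      apply hb
      have key : ∀ (a b : Fin (n + 1)) (ha : y ∈ D n k a),
          (Twist.twist 𝒢 1).presheaf.germ ⊤ y trivial (ProjUPX.sec 𝒢 (ProjPt.X_mem b)) =
            (ℙ).presheaf.germ (D n k a) y ha (x n k a b) •
              (Twist.twist 𝒢 1).presheaf.germ ⊤ y trivial (ProjUPX.sec 𝒢 (ProjPt.X_mem a)) := by
        intro a b ha
        rw [← InvX.germ_res' (le_top : D n k a ≤ ⊤) ha, ProjUPX.sec_eq_smul 𝒢 (ProjPt.X_mem b) (ProjPt.X_mem a),
          QCoh.germ_smul', InvX.germ_res']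
        rfl
      show _ • _ = _ • _
      rw [InvX.germ_res' (le_top : D n k j' ≤ ⊤) hy', ← key j' i hy', mul_smul, ← key j' j hy', ← key j i hy]
    rw [germ_r, Finset.sum_congr rfl (fun i _ => (congrArg (cst 𝔭 y (c i) * ·) (hxx i)).trans (mul_assoc _ _ _).symm),
      ← Finset.sum_mul, ← germ_r]
    exact Ideal.mul_mem_right _ _ h

variable {n k} {X : Scheme.{u}} (pX : X ⟶ Spec (CommRingCat.of k)) (f : X ⟶ (CohB1.ProjSpace n k)) (hf : f ≫ (CohB1.ProjSpace.toSpec n k) = pX)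

/-- The pulled back `O(1)`. -/
abbrev Lm : X.Modules := (Scheme.Modules.pullback f).obj (Twist.twistProjSpace n k 1)

/-- The section of a linear form. -/
def sig (c : Fin (n + 1) → k) : ProjUP.Γm (Lm f) :=
  ∑ i, ProjUP.toGlobal pX (c i) • ProjUP.pullSec f (Twist.twistProjSpace n k 1) (ProjUP.coord n k i)

/-- The frame at a point. -/
def E (P : X) (j : Fin (n + 1)) : (Lm f).presheaf.stalk P :=
  (Lm f).presheaf.germ ⊤ P trivial (ProjUPX.pullG f (ProjPt.X_mem (R := k) j))

omit [IsAlgClosed k] in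
theorem E_bijective {P : X} {j : Fin (n + 1)} (hP : f P ∈ D n k j) :
    Function.Bijective fun a : X.presheaf.stalk P => a • E f P j := by
  have h := (ProjUPX.isFrame_pullG f (ProjPt.X_mem (R := k) j)).germ_bijective (x := P) hP
  rw [InvX.germ_res'] at h
  exact h

include hf in
omit [IsAlgClosed k] in
theorem germ_sig {P : X} {j : Fin (n + 1)} (hP : f P ∈ D n k j) (c : Fin (n + 1) → k) :
    ((Lm f).presheaf.germ ⊤ P trivial).hom (sig pX f c) =
      f.stalkMap P ((CohB1.ProjSpace n k).presheaf.germ (D n k j) (f P) hP (r n k j c)) • E f P j := by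
  rw [sig, map_sum, germ_r, map_sum, Finset.sum_smul]
  refine Finset.sum_congr rfl fun i _ => ?_
  rw [map_mul, mul_smul]
  have hc : f.stalkMap P (cst (CohB1.ProjSpace.toSpec n k) (f P) (c i)) = X.presheaf.germ ⊤ P trivial (ProjUP.toGlobal pX (c i)) := by
    subst hf
    show f.stalkMap P ((CohB1.ProjSpace n k).presheaf.germ ⊤ (f P) trivial _) = _
    rw [Scheme.Hom.germ_stalkMap_apply]
    show _ = X.presheaf.germ ⊤ P trivial ((f ≫ (CohB1.ProjSpace.toSpec n k)).appTop _)
    rw [Scheme.Hom.comp_appTop]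
    rfl
  rw [hc]
  refine (QCoh.germ_smul' (Lm f) (U := ⊤) (hx := (trivial : P ∈ (⊤ : X.Opens))) _ _).trans (congrArg (_ • ·) ?_)
  show (Lm f).presheaf.germ ⊤ P trivial (ProjUPX.pullG f (ProjPt.X_mem (R := k) i)) = _
  refine (InvX.germ_res' (le_top : f ⁻¹ᵁ D n k j ≤ ⊤) hP _).symm.trans ?_
  refine (congrArg ((Lm f).presheaf.germ (f ⁻¹ᵁ D n k j) P hP)
    (ProjUPX.res_pullG f (ProjPt.X_mem (R := k) i) (ProjPt.X_mem (R := k) j) le_rfl)).trans ?_
  refine (QCoh.germ_smul' _ (U := f ⁻¹ᵁ D n k j) (hx := (hP : P ∈ f ⁻¹ᵁ D n k j)) _ _).trans ?_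
  refine (congrArg (_ • ·) (InvX.germ_res' (le_top : f ⁻¹ᵁ D n k j ≤ ⊤) hP _)).trans ?_
  refine congrArg (· • _) ?_
  rw [Scheme.Hom.germ_stalkMap_apply]
  unfold ProjUPX.ratioOf
  rw [Scheme.Hom.appLE_eq_app]
  rfl

omit [IsAlgClosed k] in
theorem smul_E_mem_iff {P : X} {j : Fin (n + 1)} (hP : f P ∈ D n k j) (I : Ideal (X.presheaf.stalk P))
    (a : X.presheaf.stalk P) :
    a • E f P j ∈ I • (⊤ : Submodule (X.presheaf.stalk P) ((Lm f).presheaf.stalk P)) ↔ a ∈ I := by
  refine ⟨fun h => ?_, fun h => Submodule.smul_mem_smul h trivial⟩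
  have : (⊤ : Submodule (X.presheaf.stalk P) ((Lm f).presheaf.stalk P)) =
      Submodule.span (X.presheaf.stalk P) {E f P j} := by
    refine (eq_top_iff.2 fun z _ => ?_).symm
    obtain ⟨b, rfl⟩ := (E_bijective f hP).2 z
    exact Submodule.smul_mem _ _ (Submodule.mem_span_singleton_self _)
  rw [this, Submodule.mem_smul_span_singleton] at h
  obtain ⟨b, hb, hba⟩ := h
  rwa [← (E_bijective f hP).1 hba]

include hf in
omit [IsAlgClosed k] in
theorem sig_mem_iff {P : X} {j : Fin (n + 1)} (hP : f P ∈ D n k j) (c : Fin (n + 1) → k) :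
    ((Lm f).presheaf.germ ⊤ P trivial).hom (sig pX f c) ∈
        IsLocalRing.maximalIdeal (X.presheaf.stalk P) • (⊤ : Submodule (X.presheaf.stalk P) ((Lm f).presheaf.stalk P)) ↔
      (CohB1.ProjSpace n k).presheaf.germ (D n k j) (f P) hP (r n k j c) ∈ IsLocalRing.maximalIdeal _ := by
  rw [germ_sig pX f hf hP, smul_E_mem_iff f hP, IsLocalRing.mem_maximalIdeal, IsLocalRing.mem_maximalIdeal]
  exact not_congr (isUnit_map_iff (f.stalkMap P).hom _)

/-- Separation of closed points. -/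
def Sep : Prop := ∀ P Q : X, IsClosed ({P} : Set X) → IsClosed ({Q} : Set X) → P ≠ Q →
  ∃ c : Fin (n + 1) → k,
    ((Lm f).presheaf.germ ⊤ P trivial).hom (sig pX f c) ∈
        IsLocalRing.maximalIdeal (X.presheaf.stalk P) • (⊤ : Submodule (X.presheaf.stalk P) ((Lm f).presheaf.stalk P)) ∧
    ((Lm f).presheaf.germ ⊤ Q trivial).hom (sig pX f c) ∉
        IsLocalRing.maximalIdeal (X.presheaf.stalk Q) • (⊤ : Submodule (X.presheaf.stalk Q) ((Lm f).presheaf.stalk Q))

/-- Separation of closed points in either order. -/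
def Sep' : Prop := ∀ P Q : X, IsClosed ({P} : Set X) → IsClosed ({Q} : Set X) → P ≠ Q →
  ∃ c : Fin (n + 1) → k,
    (((Lm f).presheaf.germ ⊤ P trivial).hom (sig pX f c) ∈
        IsLocalRing.maximalIdeal (X.presheaf.stalk P) • (⊤ : Submodule (X.presheaf.stalk P) ((Lm f).presheaf.stalk P)) ∧
    ((Lm f).presheaf.germ ⊤ Q trivial).hom (sig pX f c) ∉
        IsLocalRing.maximalIdeal (X.presheaf.stalk Q) • (⊤ : Submodule (X.presheaf.stalk Q) ((Lm f).presheaf.stalk Q))) ∨
    (((Lm f).presheaf.germ ⊤ Q trivial).hom (sig pX f c) ∈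
        IsLocalRing.maximalIdeal (X.presheaf.stalk Q) • (⊤ : Submodule (X.presheaf.stalk Q) ((Lm f).presheaf.stalk Q)) ∧
    ((Lm f).presheaf.germ ⊤ P trivial).hom (sig pX f c) ∉
        IsLocalRing.maximalIdeal (X.presheaf.stalk P) • (⊤ : Submodule (X.presheaf.stalk P) ((Lm f).presheaf.stalk P)))

/-- Separation of tangent vectors. -/
def Tan : Prop := ∀ P : X, IsClosed ({P} : Set X) →
  (IsLocalRing.maximalIdeal (X.presheaf.stalk P) • (⊤ : Submodule (X.presheaf.stalk P) ((Lm f).presheaf.stalk P))) ≤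
    Submodule.span (X.presheaf.stalk P)
        {v | ∃ c : Fin (n + 1) → k, v = ((Lm f).presheaf.germ ⊤ P trivial).hom (sig pX f c) ∧
          v ∈ IsLocalRing.maximalIdeal (X.presheaf.stalk P) • (⊤ : Submodule (X.presheaf.stalk P) ((Lm f).presheaf.stalk P))} ⊔
      (IsLocalRing.maximalIdeal (X.presheaf.stalk P) ^ 2 • (⊤ : Submodule (X.presheaf.stalk P) ((Lm f).presheaf.stalk P)))

include hf in
theorem isClosedImmersion_of_sep_tan [IsProper pX] (hs : Sep' pX f) (ht : Tan pX f) : IsClosedImmersion f := by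
  haveI : IsProper (f ≫ (CohB1.ProjSpace.toSpec n k)) := by rw [hf]; infer_instance
  haveI : IsProper f := IsProper.of_comp f (CohB1.ProjSpace.toSpec n k)
  refine S10867.result k f (CohB1.ProjSpace.toSpec n k) (fun P hP Q hQ hPQ => ?_) fun P hP => ?_
  · by_contra hne
    obtain ⟨c, hc⟩ := hs P Q hP hQ hne
    obtain ⟨j, hj⟩ := exists_chart n k (f P)
    have hj' : f Q ∈ D n k j := (show f P = f Q from hPQ) ▸ hj
    rw [sig_mem_iff pX f hf hj, sig_mem_iff pX f hf hj'] at hc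
    have heq : ∀ (y y' : (CohB1.ProjSpace n k)) (h : y = y') (hy : y ∈ D n k j) (hy' : y' ∈ D n k j),
        ((CohB1.ProjSpace n k).presheaf.germ (D n k j) y hy (r n k j c) ∈ IsLocalRing.maximalIdeal _ ↔
          (CohB1.ProjSpace n k).presheaf.germ (D n k j) y' hy' (r n k j c) ∈ IsLocalRing.maximalIdeal _) := by
      rintro y _ rfl hy hy'; rfl
    have := heq (f P) (f Q) hPQ hj hj'
    tauto
  · refine le_antisymm (sup_le ?_ (Ideal.pow_le_self two_ne_zero)) fun a ha => ?_
    · rw [Ideal.map_le_iff_le_comap]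
      intro b hb
      exact (IsLocalRing.mem_maximalIdeal _).2 fun h =>
        (IsLocalRing.mem_maximalIdeal _).1 hb ((isUnit_map_iff (f.stalkMap P).hom b).1 h)
    · obtain ⟨j, hj⟩ := exists_chart n k (f P)
      set M := Ideal.map (f.stalkMap P).hom (IsLocalRing.maximalIdeal ((CohB1.ProjSpace n k).presheaf.stalk (f P))) ⊔
        IsLocalRing.maximalIdeal (X.presheaf.stalk P) ^ 2 with hM
      suffices h : IsLocalRing.maximalIdeal (X.presheaf.stalk P) • (⊤ : Submodule (X.presheaf.stalk P) ((Lm f).presheaf.stalk P)) ≤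
          M • (⊤ : Submodule (X.presheaf.stalk P) ((Lm f).presheaf.stalk P)) from
        (smul_E_mem_iff f hj M a).1 (h ((smul_E_mem_iff f hj _ a).2 ha))
      refine (ht P hP).trans (sup_le (Submodule.span_le.2 ?_) (Submodule.smul_mono_left le_sup_right))
      rintro _ ⟨c, rfl, hc⟩
      rw [sig_mem_iff pX f hf hj] at hc
      rw [SetLike.mem_coe, germ_sig pX f hf hj, smul_E_mem_iff f hj]
      exact Ideal.mem_sup_left (Ideal.mem_map_of_mem _ hc)

include hf in
theorem sep_of_isClosedImmersion [IsClosedImmersion f] : Sep pX f := by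
  intro P Q hP hQ hne
  have hy : IsClosed ({f P} : Set (CohB1.ProjSpace n k)) := by
    rw [← Set.image_singleton]; exact f.isClosedMap _ hP
  obtain ⟨c, h1, j', hj', h2⟩ := exists_form_separating n k hy (y' := f Q) (fun h => hne (f.isClosedEmbedding.injective h))
  obtain ⟨j, hj⟩ := exists_chart n k (f P)
  exact ⟨c, (sig_mem_iff pX f hf hj c).2 (h1 j hj), fun h => h2 ((sig_mem_iff pX f hf hj' c).1 h)⟩

include hf in
theorem tan_of_isClosedImmersion [IsClosedImmersion f] : Tan pX f := by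
  intro P hP
  have hy : IsClosed ({f P} : Set (CohB1.ProjSpace n k)) := by
    rw [← Set.image_singleton]; exact f.isClosedMap _ hP
  obtain ⟨j, hj⟩ := exists_chart n k (f P)
  refine le_trans (Submodule.smul_le.2 fun a ha z _ => ?_) le_sup_left
  obtain ⟨b, rfl⟩ := (E_bijective f hj).2 z
  obtain ⟨a', ha'⟩ := f.stalkMap_surjective P a
  have ha'm : a' ∈ IsLocalRing.maximalIdeal _ := (IsLocalRing.mem_maximalIdeal _).2 fun hu =>
    (IsLocalRing.mem_maximalIdeal _).1 ha (ha' ▸ hu.map (f.stalkMap P).hom)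
  rw [← mul_smul, mul_comm, mul_smul]
  refine Submodule.smul_mem _ _ ?_
  rw [← ha']
  clear ha ha'
  have hmem := maximalIdeal_le_span n k hj hy ha'm
  clear ha'm
  induction hmem using Submodule.span_induction with
  | mem v hv =>
    obtain ⟨c, rfl, hv⟩ := hv
    refine Submodule.subset_span ⟨c, (germ_sig pX f hf hj c).symm, ?_⟩
    exact (smul_E_mem_iff f hj _ _).2 ((IsLocalRing.mem_maximalIdeal _).2 fun h =>
      (IsLocalRing.mem_maximalIdeal _).1 hv ((isUnit_map_iff (f.stalkMap P).hom _).1 h))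
  | zero => rw [map_zero, zero_smul]; exact zero_mem _
  | add u v _ _ hu hv => rw [map_add, add_smul]; exact add_mem hu hv
  | smul u v _ hv => rw [smul_eq_mul, map_mul, mul_smul]; exact Submodule.smul_mem _ _ hv

include hf in
theorem isClosedImmersion_iff [IsProper pX] : IsClosedImmersion f ↔ Sep pX f ∧ Tan pX f :=
  ⟨fun _ => ⟨sep_of_isClosedImmersion pX f hf, tan_of_isClosedImmersion pX f hf⟩,
    fun h => isClosedImmersion_of_sep_tan pX f hf
      (fun P Q a b c => (h.1 P Q a b c).imp fun _ => Or.inl) h.2⟩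

include hf in
theorem isClosedImmersion_iff' [IsProper pX] : IsClosedImmersion f ↔ Sep' pX f ∧ Tan pX f :=
  ⟨fun _ => ⟨fun P Q a b c => ((sep_of_isClosedImmersion pX f hf) P Q a b c).imp fun _ => Or.inl,
      tan_of_isClosedImmersion pX f hf⟩,
    fun h => isClosedImmersion_of_sep_tan pX f hf h.1 h.2⟩

theorem isProper_of_projective {Z : Scheme.{u}} (pZ : Z ⟶ Spec (CommRingCat.of k))
    (h : ∃ (N : ℕ) (ι : Z ⟶ CohB1.ProjSpace N k), IsClosedImmersion ι ∧ ι ≫ CohB1.ProjSpace.toSpec N k = pZ) :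
    IsProper pZ := by
  obtain ⟨N, ι, hι, rfl⟩ := h
  infer_instance

end Groth.Agent.IntTh85.ClosedImmCrit
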