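import Groth.Agent.IntTh85.GrHilbApp
import Groth.Agent.LA96.WReg
import Mathlib.Algebra.Module.Submodule.Union
import Mathlib.RingTheory.IntegralClosure.Algebra.Basic

/-!
# The Hilbert function of a zero-dimensional complete intersection in projective space
-/

set_option autoImplicit false
set_option linter.style.haveILetI false

universe u

open MvPolynomial Order Module
open Groth.Agent.VarDim Groth.Agent.VarDim.ProjN Groth.Agent.IntTh85
open Groth.Agent.IntTh85.GrHilbPoly Groth.Agent.LA96

namespace Groth.Agent.IntTh85.CompleteInter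

variable {k : Type u} [Field k] {n : ℕ}

local notation "𝒜" => CohB1.polyGrading n k
local notation "A" => MvPolynomial (Fin (n + 1)) k

attribute [local instance] MvPolynomial.weightedGradedAlgebra

theorem weighted_eq : weightedHomogeneousSubmodule k (fun _ : Fin (n + 1) => 1) = 𝒜 := rfl

theorem H_eq_finrank_piece (J : Ideal A) (u : ℕ) :
    H J u = (finrank k ↥(GrHilb.piece 𝒜 J u) : ℚ) := by
  let φ : A →ₗ[k] (A ⧸ J) := (Ideal.Quotient.mkₐ k J).toLinearMap
  have h1 := LinearMap.finrank_range_add_finrank_ker (φ.domRestrict (𝒜 u))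
  rw [LinearMap.range_domRestrict, LinearMap.ker_domRestrict] at h1
  have h2 : finrank k ↥(Submodule.comap (𝒜 u).subtype (LinearMap.ker φ)) =
      finrank k ↥(Submodule.restrictScalars k J ⊓ 𝒜 u) := by
    have hker : LinearMap.ker φ = Submodule.restrictScalars k J := by
      ext x; exact Ideal.Quotient.eq_zero_iff_mem
    rw [hker, ← Submodule.finrank_map_subtype_eq, Submodule.map_comap_subtype, inf_comm]
  rw [h2] at h1
  rw [H, ← h1]
  push_cast
  ring

set_option maxHeartbeats 800000 in
theorem hilbert_eq_prod [Infinite k] (f : Fin n → A) (d : Fin n → ℕ) (hd : ∀ i, 1 ≤ d i)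
    (hf : ∀ i, (f i).IsHomogeneous (d i))
    (hdim : ringKrullDim (A ⧸ Ideal.span (Set.range f)) = 1) :
    ∃ m₀ : ℕ, ∀ m ≥ m₀, H (Ideal.span (Set.range f)) m = ∏ i : Fin n, (d i : ℚ) := by
  classical
  set I := Ideal.span (Set.range f) with hIdef
  have hIh : I.IsHomogeneous 𝒜 := Ideal.homogeneous_span _ _ (by rintro _ ⟨i, rfl⟩; exact ⟨d i, hf i⟩)
  have hB : Below I 0 := fun x hx => by
    have h2 := ringKrullDim_le_of_surjective (Ideal.Quotient.factor hx) (Ideal.Quotient.factor_surjective hx)
    rw [← coheight_eq_ringKrullDim_quotient (pp x), coheight_pp_eq, hdim] at h2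
    have : pdim x + 1 ≤ 1 := by exact_mod_cast h2
    omega
  obtain ⟨S, hS⟩ := exists_finset_points hIh hB
  let p : S → Submodule k ↥(𝒜 1) := fun x =>
    Submodule.comap (𝒜 1).subtype ((pp x.1).asIdeal.restrictScalars k)
  have hp : ∀ x, p x ≠ ⊤ := fun x h => by
    obtain ⟨i, hi⟩ := exists_X_notMem x.1
    exact hi (show (⟨X i, isHomogeneous_X k i⟩ : 𝒜 1) ∈ p x from h ▸ Submodule.mem_top)
  obtain ⟨⟨L, hL1⟩, hL⟩ := Submodule.exists_forall_notMem_of_forall_ne_top p hp
  let g : Fin (n + 1) → A := Fin.snoc f L
  let ε : Fin (n + 1) → ℕ := Fin.snoc d 1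
  have hg : ∀ i, IsWeightedHomogeneous (fun _ : Fin (n + 1) => 1) (g i) (ε i) := fun i => by
    refine Fin.lastCases ?_ (fun i => ?_) i
    · simp only [g, ε, Fin.snoc_last]; exact hL1
    · simp only [g, ε, Fin.snoc_castSucc]; exact hf i
  have hε : ∀ i, 0 < ε i := fun i => by
    refine Fin.lastCases ?_ (fun i => ?_) i
    · simp [ε]
    · simp only [ε, Fin.snoc_castSucc]; exact hd i
  set J := Ideal.span (Set.range g) with hJdef
  have hJI : J = I ⊔ Ideal.span {L} := by
    rw [hJdef, Fin.range_snoc, Ideal.span_insert, sup_comm]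
  have hempty : ∀ x : ProjectiveSpectrum 𝒜, ¬ J ≤ (pp x).asIdeal := fun x hx => by
    have hxI : I ≤ (pp x).asIdeal := le_sup_left.trans (hJI ▸ hx)
    have hxS : x ∈ S := (hS x).2 ⟨hxI, Nat.le_zero.1 (hB x hxI)⟩
    exact hL ⟨x, hxS⟩ ((hJI ▸ hx : I ⊔ Ideal.span {L} ≤ _) (Ideal.mem_sup_right (Ideal.subset_span rfl)))
  have hJh : J.IsHomogeneous 𝒜 := hJI ▸ isHomogeneous_sup hIh hL1
  have hrad : ∀ i : Fin (n + 1), (X i : A) ∈ J.radical := fun i => by
    rw [← Ideal.sInf_minimalPrimes, Submodule.mem_sInf]
    intro q hq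
    by_cases hv : q = vertex k n
    · subst hv; exact constantCoeff_X k i
    · obtain ⟨x, hx⟩ := exists_point_minimal hJh hq hv
      exact absurd (hx ▸ hq.1.2) (hempty x)
  haveI hfin : Module.Finite k (A ⧸ J) := by
    haveI : Algebra.IsIntegral k (A ⧸ J) := ⟨fun x => by
      obtain ⟨a, rfl⟩ := Ideal.Quotient.mk_surjective x
      induction a using MvPolynomial.induction_on with
      | C c => exact isIntegral_algebraMap
      | add a b ha hb => rw [map_add]; exact ha.add hb
      | mul_X a i ha =>
        rw [map_mul]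
        refine ha.mul ?_
        obtain ⟨N, hN⟩ := hrad i
        refine IsIntegral.of_pow (Nat.succ_pos N) ?_
        rw [pow_succ, ← map_pow, Ideal.Quotient.eq_zero_iff_mem.2 hN, zero_mul]
        exact isIntegral_zero⟩
    exact Algebra.IsIntegral.finite
  have hreg := WReg.weaklyRegular_of_finite (F := k) (δ := fun _ : Fin (n + 1) => 1)
    (fun _ => one_pos) g ε hg hε hfin
  obtain ⟨hnum, -, -⟩ := WHilb.numerics (fun _ => one_pos) g ε hg hreg hε hfin
  obtain ⟨N, hN, hsum⟩ := GrHilb.exists_bound 𝒜 hJh
  -- the linear form is regular modulo `I`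
  have hcol : col I L = I := by
    refine le_antisymm (fun a ha => ?_) (le_col _ _)
    rw [RingTheory.Sequence.isWeaklyRegular_iff] at hreg
    have hn : n < (List.ofFn g).length := by simp
    have h2 := hreg n hn
    have hgL : (List.ofFn g)[n] = L := by
      rw [List.getElem_ofFn]
      exact Fin.snoc_last (α := fun _ => A) L f
    have htake : Ideal.ofList ((List.ofFn g).take n) = I := by
      have : (List.ofFn g).take n = List.ofFn f := by
        refine List.ext_getElem (by simp) fun i h1 h2 => ?_
        rw [List.getElem_take, List.getElem_ofFn, List.getElem_ofFn]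
        have hi : i < n := by simpa using h2
        exact Fin.snoc_castSucc (α := fun _ => A) L f ⟨i, hi⟩
      rw [this, hIdef]
      exact congrArg Ideal.span (by ext x; simp)
    rw [hgL, htake] at h2
    have h3 : (Submodule.Quotient.mk a : A ⧸ (I • ⊤ : Submodule A A)) = 0 := by
      refine h2 ?_
      show L • _ = L • _
      rw [smul_zero, ← Submodule.Quotient.mk_smul, Submodule.Quotient.mk_eq_zero, smul_eq_mul, smul_eq_mul,
        Ideal.mul_top]
      exact ha
    rwa [Submodule.Quotient.mk_eq_zero, smul_eq_mul, Ideal.mul_top] at h3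
  have hstep : ∀ m, H I m = ∑ u ∈ Finset.range (m + 1), H J u := by
    intro m
    induction m with
    | zero =>
      rw [Finset.sum_range_one, H, H]
      have hz : Submodule.restrictScalars k J ⊓ 𝒜 0 = Submodule.restrictScalars k I ⊓ 𝒜 0 := by
        have hbot : ∀ K : Ideal A, K ≤ vertex k n → Submodule.restrictScalars k K ⊓ 𝒜 0 = ⊥ := fun K hK => by
          refine (Submodule.eq_bot_iff _).2 fun a ha => ?_
          have h1 : a = C (coeff 0 a) := totalDegree_eq_zero_iff_eq_C.1 (Nat.le_zero.1
            (IsHomogeneous.totalDegree_le ha.2))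
          have h2 : constantCoeff a = 0 := hK ha.1
          rw [constantCoeff_eq] at h2
          rw [h1, h2, C_0]
        have hv : J ≤ vertex k n := Ideal.span_le.2 (by
          rintro _ ⟨i, rfl⟩
          exact le_of_eq WReg.idealOfVars_eq (WReg.mem_idealOfVars (hε i) (hg i)))
        rw [hbot J hv, hbot I ((hJI ▸ le_sup_left : I ≤ J).trans hv)]
      rw [hz]
    | succ m ih =>
      have hL0 : L ≠ 0 := by
        intro h
        have hVne : ∃ x : ProjectiveSpectrum 𝒜, I ≤ (pp x).asIdeal := by
          by_contra! hV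
          obtain ⟨-, h2, -⟩ := hp_spec hIh
          have hle : ringKrullDim (A ⧸ I) ≤ 0 := by
            rw [ringKrullDim_quotient]
            refine iSup_le fun l => ?_
            obtain ⟨P', hP', hle⟩ := Ideal.exists_minimalPrimes_le (J := (l.head.1).asIdeal) l.head.2
            by_cases hv : P' = vertex k n
            · subst hv
              have h1 : (l.length : ℕ∞) ≤ coheight (vertexPoint k n) :=
                (length_le_coheight (p := l.map Subtype.val (Subtype.strictMono_coe _)) le_rfl).trans
                  (coheight_anti (show vertexPoint k n ≤ l.head.1 from hle))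
              rw [coheight_vertexPoint] at h1
              exact WithBot.coe_le_coe.2 h1
            · obtain ⟨z, hz⟩ := exists_point_minimal hIh hP' hv
              exact absurd (hz ▸ hP'.1.2) (hV z)
          rw [hdim] at hle
          exact absurd hle (by norm_num)
        obtain ⟨x, hx⟩ := hVne
        have hxS : x ∈ S := (hS x).2 ⟨hx, Nat.le_zero.1 (hB x hx)⟩
        exact hL ⟨x, hxS⟩ (show L ∈ (pp x).asIdeal by rw [h]; exact zero_mem _)
      rw [H_split hIh hL1 hL0 m, hcol, ← hJI, ih, Finset.sum_range_succ _ (m + 1)]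
      ring
  refine ⟨N, fun m hm => ?_⟩
  rw [hstep]
  have hprod : ∏ i : Fin (n + 1), ε i = ∏ i : Fin n, d i := by
    rw [Fin.prod_univ_castSucc]
    simp [ε]
  have htot : finrank k (A ⧸ J) = ∏ i : Fin n, d i := by
    rw [← hprod, ← hnum, Finset.prod_const_one, mul_one]
  rw [← Nat.cast_prod, ← htot, hsum, Nat.cast_sum]
  refine Eq.trans (Finset.sum_congr rfl fun u _ => H_eq_finrank_piece J u) ?_
  refine (Finset.sum_subset (Finset.range_mono (by omega)) fun u _ hu => ?_).symm
  rw [hN u (not_lt.1 fun h => hu (Finset.mem_range.2 h)), finrank_bot, Nat.cast_zero]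

end Groth.Agent.IntTh85.CompleteInter
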