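import Groth.Agent.DimFormula.ClosedSub
import Groth.Agent.FibDim.Basic
import Groth.Agent.FibDim.GenerizeDim
import Mathlib.AlgebraicGeometry.Morphisms.UniversallyOpen

/-!
# Equidimensionality of an irreducible component at a point (condition (T))

No noetherian hypothesis: an irreducible component `closure {η}` is equidimensional over the base at
`x` iff `f η` is maximal and the fibre of the component at `x` has dimension at most `rd f η`.
-/

set_option autoImplicit false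
set_option linter.style.haveILetI false

open AlgebraicGeometry CategoryTheory Topology

namespace Groth.Agent.IntTh85.CondT

open Groth.Agent

universe u

variable {X S : Scheme.{u}} (f : X ⟶ S) [LocallyOfFiniteType f]

/-- Condition (T) at `x`, for the component of the maximal point `η`. -/
theorem component_equidim {x η : X} (hη : η ⤳ x) (hmax : ∀ z, z ⤳ η → z = η)
    (hS : ∀ s, s ⤳ f η → s = f η)
    (hrd : ∀ z, η ⤳ z → z ⤳ x → f z = f x → FibDim.rd f z ≤ FibDim.rd f η) :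
    ∃ W : TopologicalSpace.Closeds X, (W : Set X) ∈ irreducibleComponents (X : Type u) ∧
      ∃ w : ↥((Scheme.IdealSheafData.vanishingIdeal W).subscheme),
        (Scheme.IdealSheafData.vanishingIdeal W).subschemeι.base w = x ∧
        EGA43.IsEquidimAt ((Scheme.IdealSheafData.vanishingIdeal W).subschemeι ≫ f) w := by
  let W : TopologicalSpace.Closeds X := ⟨closure {η}, isClosed_closure⟩
  let j := (Scheme.IdealSheafData.vanishingIdeal W).subschemeι
  have hrange : Set.range j = closure {η} := DimFormula.range_vanishingIdeal W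
  obtain ⟨w, hw⟩ : x ∈ Set.range j := hrange ▸ specializes_iff_mem_closure.1 hη
  obtain ⟨η', hη'⟩ : η ∈ Set.range j := hrange ▸ subset_closure rfl
  have hgen : ∀ a, η' ⤳ a := fun a => j.isClosedEmbedding.isInducing.specializes_iff.1
    (hη'.symm ▸ specializes_iff_mem_closure.2 (hrange ▸ Set.mem_range_self a))
  refine ⟨W, FDescent.closure_mem_irreducibleComponents hmax, w, hw, ?_⟩
  change EGA43.IsEquidimAt (j ≫ f) w
  have hle : FlatMor.fibreDimAt (j ≫ f) w ≤ (FibDim.rd f η : ℕ) := by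
    refine (FibDim.fibreDimAt_le_iff (j ≫ f) w _).2 fun z hz hfz => ?_
    rw [DimFormula.rd_closedSub]
    exact hrd (j z) (hη' ▸ (hgen z).map j.continuous) (hw ▸ hz.map j.continuous) (hw ▸ hfz)
  obtain ⟨U, hwU, hU⟩ := FibDim.exists_nhd_rd_le (j ≫ f) w _ hle
  refine (FibDim.isEquidimAt_iff (j ≫ f) w).2
    ⟨FibDim.rd f η, U, hwU, fun a _ ham => ?_, fun z hz hzm => le_antisymm (hU z hz) ?_⟩
  · obtain rfl : η' = a := ham η' (hgen a)
    refine ⟨?_, (hgen w).map (j ≫ f).continuous⟩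
    intro y hy
    simp only [Scheme.Hom.comp_apply, hη'] at hy ⊢
    exact hS y hy
  · obtain ⟨v, -, hvz, hfv, hr⟩ := FibDim.exists_rd_ge (j ≫ f) (hgen z)
    rw [hzm v hvz hfv, DimFormula.rd_closedSub, hη'] at hr
    exact hr

/-- The converse of `component_equidim`. -/
theorem of_component_equidim {x : X}
    (h : ∃ W : TopologicalSpace.Closeds X, (W : Set X) ∈ irreducibleComponents (X : Type u) ∧
      ∃ w : ↥((Scheme.IdealSheafData.vanishingIdeal W).subscheme),
        (Scheme.IdealSheafData.vanishingIdeal W).subschemeι.base w = x ∧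
        EGA43.IsEquidimAt ((Scheme.IdealSheafData.vanishingIdeal W).subschemeι ≫ f) w) :
    ∃ η, η ⤳ x ∧ (∀ z, z ⤳ η → z = η) ∧ (∀ s, s ⤳ f η → s = f η) ∧
      ∀ z, η ⤳ z → z ⤳ x → f z = f x → FibDim.rd f z ≤ FibDim.rd f η := by
  obtain ⟨W, hW, w, hw, heq⟩ := h
  obtain ⟨η, hWη, hmax⟩ := FDescent.exists_maximal_of_mem_irreducibleComponents hW
  let j := (Scheme.IdealSheafData.vanishingIdeal W).subschemeι
  change j w = x at hw
  change EGA43.IsEquidimAt (j ≫ f) w at heq
  have hrange : Set.range j = closure {η} := (DimFormula.range_vanishingIdeal W).trans hWη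
  obtain ⟨η', hη'⟩ : η ∈ Set.range j := hrange ▸ subset_closure rfl
  have hgen : ∀ a, η' ⤳ a := fun a => j.isClosedEmbedding.isInducing.specializes_iff.1
    (hη'.symm ▸ specializes_iff_mem_closure.2 (hrange ▸ Set.mem_range_self a))
  have hηx : η ⤳ x := hη' ▸ hw ▸ (hgen w).map j.continuous
  have hmax' : ∀ a, a ⤳ η' → a = η' := fun a ha =>
    j.isClosedEmbedding.injective ((hmax _ (hη' ▸ ha.map j.continuous)).trans hη'.symm)
  obtain ⟨e, U, hwU, h1, h2⟩ := (FibDim.isEquidimAt_iff (j ≫ f) w).1 heq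
  have hη'U : η' ∈ U := (hgen w).mem_open U.isOpen hwU
  have hS := (h1 η' hη'U hmax').1
  have he := h2 η' hη'U (FibDim.fibMax_of_maximal _ hmax')
  rw [DimFormula.rd_closedSub, hη'] at he
  simp only [Scheme.Hom.comp_apply, hη'] at hS
  refine ⟨η, hηx, hmax, hS, fun z hηz hzx hfz => ?_⟩
  obtain ⟨z', rfl⟩ : z ∈ Set.range j := hrange ▸ specializes_iff_mem_closure.1 hηz
  have hz'w : z' ⤳ w := j.isClosedEmbedding.isInducing.specializes_iff.1 (hw ▸ hzx)
  obtain ⟨v, hvz, hfv, hvm, hd⟩ := FibDim.exists_fibMax_generization (j ≫ f) z'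
  have hv := h2 v ((hvz.trans hz'w).mem_open U.isOpen hwU) hvm
  have hle := FibDim.rd_le_fibreDimAt (j ≫ f) (x := z') specializes_rfl rfl
  rw [hd, hv, DimFormula.rd_closedSub, ← he] at hle
  exact_mod_cast hle

theorem isUnivOpenAt (f : X ⟶ S) [UniversallyOpen f] (x : X) : EGA43.IsUnivOpenAt f x := by
  intro Y' g x' _ N hN
  exact (Limits.pullback.snd f g).isOpenMap.image_mem_nhds hN

/-- EGA IV 14.2: a universally open morphism satisfies condition (T). -/
theorem of_univOpen [UniversallyOpen f] (x : X) :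
    ∃ η, η ⤳ x ∧ (∀ z, z ⤳ η → z = η) ∧ (∀ s, s ⤳ f η → s = f η) ∧
      ∀ z, η ⤳ z → z ⤳ x → f z = f x → FibDim.rd f z ≤ FibDim.rd f η := by
  obtain ⟨z, hzx, hfz, hzm, hd⟩ := FibDim.exists_fibMax_generization f x
  obtain ⟨s, hs, hsmax⟩ := FibDim.exists_maximal_generization (f z)
  obtain ⟨ζ, hζ, hfζ, hr, -⟩ := FibDim.exists_generization_of_dim_ge f hzm hs fun U hzU => by
    obtain ⟨v, hv, hfv, hle⟩ :=
      FibDim.exists_rd_ge_of_univOpenAt f (isUnivOpenAt f z) U hzU hs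
    rw [FibDim.dim_open_inter_eq_iSup f s U.isOpen, FibDim.fibreDimAt_eq_rd f hzm]
    exact le_iSup_of_le ⟨v, hv, hfv⟩ (by exact_mod_cast hle)
  obtain ⟨η, hη, hmax⟩ := FibDim.exists_maximal_generization ζ
  have hfη : f η = s := hsmax _ (hfζ ▸ hη.map f.continuous)
  refine ⟨η, (hη.trans hζ).trans hzx, hmax, hfη.symm ▸ hsmax, fun v _ hvx hfv => ?_⟩
  have h1 := FibDim.rd_le_fibreDimAt f hvx hfv
  rw [hd] at h1
  calc FibDim.rd f v ≤ FibDim.rd f z := by exact_mod_cast h1
    _ = FibDim.rd f ζ := hr.symm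
    _ ≤ FibDim.rd f η := FibDim.rd_le_of_specializes f hη (hfη.trans hfζ.symm)

/-- A morphism equidimensional everywhere satisfies condition (T). -/
theorem of_forall_equidim (h : ∀ x, EGA43.IsEquidimAt f x) (x : X) :
    ∃ η, η ⤳ x ∧ (∀ z, z ⤳ η → z = η) ∧ (∀ s, s ⤳ f η → s = f η) ∧
      ∀ z, η ⤳ z → z ⤳ x → f z = f x → FibDim.rd f z ≤ FibDim.rd f η := by
  obtain ⟨e, U, hxU, h1, h2⟩ := (FibDim.isEquidimAt_iff f x).1 (h x)
  obtain ⟨η, hη, hmax⟩ := FibDim.exists_maximal_generization x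
  refine ⟨η, hη, hmax, (h1 η (hη.mem_open U.isOpen hxU) hmax).1, fun z _ hzx hfz => ?_⟩
  obtain ⟨v, hvx, -, hvm, hd⟩ := FibDim.exists_fibMax_generization f x
  have hle := FibDim.rd_le_fibreDimAt f hzx hfz
  rw [hd, h2 v (hvx.mem_open U.isOpen hxU) hvm,
    ← h2 η (hη.mem_open U.isOpen hxU) (FibDim.fibMax_of_maximal f hmax)] at hle
  exact_mod_cast hle

/-- Condition (T) at the maximal points of the fibres gives it everywhere. -/
theorem of_fibMax {x : X}
    (h : ∀ z, FibDim.FibMax f z → ∃ η, η ⤳ z ∧ (∀ v, v ⤳ η → v = η) ∧ (∀ s, s ⤳ f η → s = f η) ∧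
      ∀ v, η ⤳ v → v ⤳ z → f v = f z → FibDim.rd f v ≤ FibDim.rd f η) :
    ∃ η, η ⤳ x ∧ (∀ z, z ⤳ η → z = η) ∧ (∀ s, s ⤳ f η → s = f η) ∧
      ∀ z, η ⤳ z → z ⤳ x → f z = f x → FibDim.rd f z ≤ FibDim.rd f η := by
  obtain ⟨z, hzx, hfz, hzm, hd⟩ := FibDim.exists_fibMax_generization f x
  obtain ⟨η, hη, hmax, hS, hrd⟩ := h z hzm
  refine ⟨η, hη.trans hzx, hmax, hS, fun v _ hvx hfv => ?_⟩
  have hle := FibDim.rd_le_fibreDimAt f hvx hfv
  rw [hd] at hle
  have h2 : FibDim.rd f v ≤ FibDim.rd f z := by exact_mod_cast hle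
  exact h2.trans (hrd z hη specializes_rfl rfl)

end Groth.Agent.IntTh85.CondT
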