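import Groth.Agent.IntTh85.UnibOpenAlg
import Groth.Agent.UnivOpen.AffineSpaceUnibranch
import Groth.Agent.UnivOpen.Chevalley
import Groth.Agent.FibDim.AffineSpaceFibre
import Groth.Agent.FibDim.Open
import Mathlib.AlgebraicGeometry.ZariskisMainTheorem
import Mathlib.RingTheory.ZariskisMainTheorem

/-!
# Quasi-finite morphisms over geometrically unibranch points, locally of finite type only

`g : U ⟶ T` locally of finite type, `U` integral, the closure of the image of the generic point a
neighbourhood of `g x`: then `g` is (universally) open at `x` if `T` is (geometrically) unibranch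
there.
-/

set_option autoImplicit false
set_option linter.style.haveILetI false

open AlgebraicGeometry CategoryTheory Limits Topology

namespace Groth.Agent.IntTh85.UnibOpen

open Groth.Agent

universe u

variable {U T : Scheme.{u}}

/-- The openness statement. -/
theorem isOpenAt_qf [IsIntegral U] (g : U ⟶ T) [LocallyOfFiniteType g] (x : U) (hqf : g.QuasiFiniteAt x)
    (hT : CAlg2.IsUnibranch (T.presheaf.stalk (g x)))
    (hcl : closure {g (genericPoint U)} ∈ 𝓝 (g x)) : EGA43.IsOpenAt g.base x := by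
  intro N hN
  obtain ⟨O, hO, hOo, htO⟩ := mem_nhds_iff.1 hcl
  obtain ⟨N', hN'N, hN'o, hxN'⟩ := mem_nhds_iff.1 hN
  obtain ⟨V, hV, htV, hVO⟩ := exists_isAffineOpen_mem_and_subset (x := g x) (U := ⟨O, hOo⟩) htO
  obtain ⟨W, hW, hxW, hWsub⟩ := exists_isAffineOpen_mem_and_subset (x := x)
    (U := g ⁻¹ᵁ V ⊓ ⟨N', hN'o⟩) ⟨htV, hxN'⟩
  have hWV : W ≤ g ⁻¹ᵁ V := fun z hz => (hWsub hz).1
  haveI : Nonempty W := ⟨⟨x, hxW⟩⟩
  haveI : IsDomain Γ(U, W) := IsIntegral.component_integral W
  let φ : Γ(T, V) →+* Γ(U, W) := (g.appLE V W hWV).hom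
  -- the generic point
  have hgen : genericPoint U = hW.fromSpec (⟨⊥, Ideal.isPrime_bot⟩ : PrimeSpectrum Γ(U, W)) := by
    obtain ⟨Q, hQ⟩ := VarDim.exists_fromSpec_eq hW
      (((genericPoint_spec U).specializes (Set.mem_univ x)).mem_open W.isOpen hxW)
    have h1 : hW.fromSpec Q ⤳ hW.fromSpec (⟨⊥, Ideal.isPrime_bot⟩ : PrimeSpectrum Γ(U, W)) := by
      rw [hQ]; exact (genericPoint_spec U).specializes (Set.mem_univ _)
    rw [← hQ]
    exact congrArg _ (PrimeSpectrum.ext (le_bot_iff.1 ((VarDim.fromSpec_specializes_iff hW _ _).1 h1)))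
  have hker : RingHom.ker φ ≤ nilradical Γ(T, V) := by
    rw [nilradical_eq_sInf]
    refine le_sInf fun Q hQ => ?_
    have h1 : g (genericPoint U) ⤳ hV.fromSpec (⟨Q, hQ⟩ : PrimeSpectrum Γ(T, V)) :=
      specializes_iff_mem_closure.2 (hO (hVO (VarDim.fromSpec_mem hV _)))
    rw [hgen, FibDim.fromSpec_comm g hV hW hWV] at h1
    exact fun a ha => (VarDim.fromSpec_specializes_iff hV _ _).1 h1
      (show φ a ∈ (⊥ : Ideal Γ(U, W)) from ha)
  haveI : (RingHom.ker φ).IsPrime := RingHom.ker_isPrime φ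
  let A := Γ(T, V) ⧸ RingHom.ker φ
  letI algA : Algebra A Γ(U, W) := (RingHom.kerLift φ).toAlgebra
  letI alg0 : Algebra Γ(T, V) Γ(U, W) := φ.toAlgebra
  haveI : IsScalarTower Γ(T, V) A Γ(U, W) :=
    IsScalarTower.of_algebraMap_eq fun a => (RingHom.kerLift_mk φ a).symm
  haveI : Algebra.FiniteType Γ(T, V) Γ(U, W) :=
    HasRingHomProperty.appLE (P := @LocallyOfFiniteType) g inferInstance ⟨V, hV⟩ ⟨W, hW⟩ hWV
  -- Zariski's main theorem
  let q := hW.primeIdealOf ⟨x, hxW⟩
  haveI : Algebra.QuasiFiniteAt Γ(T, V) q.asIdeal := hqf.quasiFiniteAt hW hV hWV hxW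
  obtain ⟨r, hr, hri, hrx⟩ := Algebra.zariskisMainProperty_iff.1
    (Algebra.ZariskisMainProperty.of_finiteType (R := Γ(T, V)) q.asIdeal)
  let C := integralClosure A Γ(U, W)
  let rC : C := ⟨r, hri.tower_top⟩
  let qC : Ideal C := q.asIdeal.comap C.val.toRingHom
  let pA : Ideal A := qC.comap (algebraMap A C)
  let p0 : PrimeSpectrum Γ(T, V) := PrimeSpectrum.comap φ q
  have hp0 : pA.comap (Ideal.Quotient.mk (RingHom.ker φ)) = p0.asIdeal := Ideal.ext fun a => Iff.rfl
  have hgx : g x = hV.fromSpec p0 := by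
    rw [← FibDim.fromSpec_comm g hV hW hWV, hW.fromSpec_primeIdealOf]
  rw [hgx] at hT
  have hmem : hV.fromSpec p0 ∈ V := VarDim.fromSpec_mem hV p0
  letI algS : Algebra Γ(T, V) (T.presheaf.stalk (hV.fromSpec p0)) :=
    TopCat.Presheaf.algebra_section_stalk T.presheaf ⟨hV.fromSpec p0, hmem⟩
  haveI : IsLocalization.AtPrime (T.presheaf.stalk (hV.fromSpec p0)) p0.asIdeal :=
    hV.isLocalization_stalk' p0 hmem
  let O' := T.presheaf.stalk (hV.fromSpec p0)
  letI algR : Algebra A (CAlg2.red O') := (Ideal.Quotient.lift (RingHom.ker φ)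
    ((Ideal.Quotient.mk (nilradical O')).comp (algebraMap Γ(T, V) O')) fun a ha =>
      Ideal.Quotient.eq_zero_iff_mem.2 (IsNilpotent.map (hker ha) (algebraMap Γ(T, V) O'))).toAlgebra
  haveI : IsLocalization.AtPrime (CAlg2.red O') pA :=
    { map_units := by
        rintro ⟨a, ha⟩
        obtain ⟨a, rfl⟩ := Ideal.Quotient.mk_surjective a
        show IsUnit (Ideal.Quotient.mk (nilradical O') (algebraMap Γ(T, V) O' a))
        exact (IsLocalization.map_units (M := p0.asIdeal.primeCompl) O'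
          ⟨a, fun h => ha (hp0.ge h)⟩).map _
      surj := fun z => by
        obtain ⟨z, rfl⟩ := Ideal.Quotient.mk_surjective z
        obtain ⟨⟨a, s⟩, h⟩ := IsLocalization.surj p0.asIdeal.primeCompl z
        exact ⟨⟨Ideal.Quotient.mk _ a, ⟨Ideal.Quotient.mk _ s.1, fun h' => s.2 (hp0.le h')⟩⟩,
          (map_mul _ _ _).symm.trans (congrArg (Ideal.Quotient.mk (nilradical O')) h)⟩
      exists_of_eq := by
        intro a b hab
        obtain ⟨a, rfl⟩ := Ideal.Quotient.mk_surjective a
        obtain ⟨b, rfl⟩ := Ideal.Quotient.mk_surjective b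
        refine ⟨1, ?_⟩
        rw [OneMemClass.coe_one, one_mul, one_mul, Ideal.Quotient.eq]
        have h1 : algebraMap Γ(T, V) O' (a - b) ∈ nilradical O' := by
          rw [← Ideal.Quotient.eq_zero_iff_mem, map_sub, map_sub, sub_eq_zero]
          exact hab
        obtain ⟨k, hk⟩ := mem_nilradical.1 h1
        rw [← map_pow, IsLocalization.map_eq_zero_iff p0.asIdeal.primeCompl] at hk
        obtain ⟨s, hs⟩ := hk
        have h2 : (s : Γ(T, V)) * (a - b) ^ k ∈ RingHom.ker φ := by rw [hs]; exact zero_mem _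
        rcases (inferInstance : (RingHom.ker φ).IsPrime).mem_or_mem h2 with h3 | h3
        · exact absurd ((hker.trans (nilradical_le_prime _)) h3) s.2
        · exact (inferInstance : (RingHom.ker φ).IsPrime).mem_of_pow_mem k h3 }
  obtain ⟨K, _, _, _, huniq⟩ := eq_of_over_unibranch (A := A) pA hT
  obtain ⟨s, hs, hP⟩ := exists_basicOpen_subset_image (A := A) (B := C)
    (fun a b h => RingHom.kerLift_injective φ (congrArg Subtype.val h)) qC huniq (g := rC) hr
  obtain ⟨s₀, rfl⟩ := Ideal.Quotient.mk_surjective s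
  have hs0 : hV.fromSpec p0 ∈ T.basicOpen s₀ := by
    rw [← hV.fromSpec_image_basicOpen]
    exact ⟨p0, fun h => hs (hp0.ge h), rfl⟩
  rw [show g.base x = hV.fromSpec p0 from hgx]
  refine Filter.mem_of_superset ((T.basicOpen s₀).isOpen.mem_nhds hs0) fun y hy => ?_
  rw [SetLike.mem_coe, ← hV.fromSpec_image_basicOpen] at hy
  obtain ⟨Q₀, hQ₀, rfl⟩ := hy
  have hQ₀k : RingHom.ker φ ≤ Q₀.asIdeal := hker.trans (nilradical_le_prime _)
  haveI : (Q₀.asIdeal.map (Ideal.Quotient.mk (RingHom.ker φ))).IsPrime :=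
    Ideal.map_isPrime_of_surjective Ideal.Quotient.mk_surjective (by rwa [Ideal.mk_ker])
  have hback : (Q₀.asIdeal.map (Ideal.Quotient.mk (RingHom.ker φ))).comap (Ideal.Quotient.mk _) = Q₀.asIdeal := by
    rw [Ideal.comap_map_of_surjective _ Ideal.Quotient.mk_surjective, ← RingHom.ker_eq_comap_bot,
      Ideal.mk_ker, sup_eq_left]
    exact hQ₀k
  obtain ⟨q', hq', hrq', hq'P⟩ := hP _ inferInstance fun h => hQ₀ (hback.le (Ideal.mem_comap.2 h))
  haveI := hq'
  obtain ⟨Q', hQ', hQ'q⟩ := exists_prime_over_of_den C.val.toRingHom Subtype.val_injective q' fun b => by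
    obtain ⟨k, hk⟩ := hrx b
    exact ⟨rC ^ k, fun h => hrq' (hq'.mem_of_pow_mem k h), ⟨r ^ k * b, hk.tower_top⟩, by
      show r ^ k * b = ((rC ^ k : C) : Γ(U, W)) * b
      rw [SubmonoidClass.coe_pow]⟩
  refine ⟨hW.fromSpec ⟨Q', hQ'⟩, hN'N (hWsub (VarDim.fromSpec_mem hW _)).2, ?_⟩
  show g (hW.fromSpec ⟨Q', hQ'⟩) = hV.fromSpec Q₀
  rw [FibDim.fromSpec_comm g hV hW hWV]
  refine congrArg _ (PrimeSpectrum.ext ?_)
  show Q'.comap φ = Q₀.asIdeal
  have e : φ = (C.val.toRingHom.comp (algebraMap A C)).comp (Ideal.Quotient.mk (RingHom.ker φ)) :=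
    RingHom.ext fun a => (RingHom.kerLift_mk φ a).symm
  rw [e, ← Ideal.comap_comap, ← Ideal.comap_comap, hQ'q, hq'P, hback]

/-- Universal openness. -/
theorem isUnivOpenAt_qf [IsIntegral U] (g : U ⟶ T) [LocallyOfFiniteType g] [LocallyQuasiFinite g] (x : U)
    (hT : CAlg2.IsGeomUnibranch (T.presheaf.stalk (g x)))
    (hcl : closure {g (genericPoint U)} ∈ 𝓝 (g x)) : EGA43.IsUnivOpenAt g x := by
  refine UnivOpen.isUnivOpenAt_of_affineSpace g x fun m y hy => ?_
  let σ := ULift.{u} (Fin m)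
  let π := 𝔸(σ; T) ↘ T
  let pr := pullback.fst g π
  let sn := pullback.snd g π
  let e : 𝔸(σ; U) ≅ pullback g π := (AffineSpace.isPullback_map (n := σ) g).flip.isoPullback
  haveI : IsReduced (pullback g π) := isReduced_of_isOpenImmersion e.inv
  haveI : IrreducibleSpace ↥(pullback g π) := by
    let π' := 𝔸(σ; U) ↘ U
    have hf : ∀ z, IsIrreducible (π' ⁻¹' {z}) := fun z => by
      haveI := (FibDim.affineSpace_fibre (Y := U) m z).1
      rw [← Scheme.Hom.range_fiberι, ← Set.image_univ]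
      exact (IrreducibleSpace.isIrreducible_univ _).image _ (π'.fiberι z).continuous.continuousOn
    obtain ⟨z, -⟩ := (hf (genericPoint U)).nonempty
    have h := (IrreducibleSpace.isIrreducible_univ U).preimage_of_isPreirreducible_fiber π'
      (AffineSpace.isOpenMap_over (n := σ) U) (fun w => (hf w).2) ⟨π' z, trivial, z, rfl⟩
    rw [Set.preimage_univ] at h
    haveI : IrreducibleSpace ↥𝔸(σ; U) := irreducibleSpace_def _ |>.2 h
    exact e.hom.homeomorph.surjective.irreducibleSpace e.hom.homeomorph.continuous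
  haveI : IsIntegral (pullback g π) := isIntegral_of_irreducibleSpace_of_isReduced _
  have hxy : π (sn y) = g x := by
    rw [← hy]
    show (sn ≫ π) y = (pr ≫ g) y
    rw [pullback.condition]
  refine isOpenAt_qf sn y (sn.quasiFiniteAt y) ?_ ?_
  · have h1 : CAlg2.IsGeomUnibranch (T.presheaf.stalk (π (sn y))) := by rw [hxy]; exact hT
    exact (UnivOpen.isGeomUnibranch_affineSpace σ (sn y) h1).1
  · -- the generic point of the source is sent to the generic point over the generic point
    let η := genericPoint ↥(pullback g π)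
    have hsub : π ⁻¹' {g (genericPoint U)} ⊆ closure {sn η} := fun z hz => by
      obtain ⟨w, -, hw⟩ := Scheme.Pullback.exists_preimage_pullback (f := g) (g := π)
        (genericPoint U) z hz.symm
      rw [← hw]
      exact specializes_iff_mem_closure.1
        (((genericPoint_spec ↥(pullback g π)).specializes (Set.mem_univ w)).map sn.continuous)
    have hopen : IsOpenMap π := AffineSpace.isOpenMap_over T
    have h2 : π ⁻¹' closure {g (genericPoint U)} ⊆ closure {sn η} := by
      rw [hopen.preimage_closure_eq_closure_preimage π.continuous]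
      exact closure_minimal hsub isClosed_closure
    exact Filter.mem_of_superset (π.continuous.continuousAt.preimage_mem_nhds
      (show closure {g (genericPoint U)} ∈ 𝓝 (π (sn y)) from hxy.symm ▸ hcl)) h2

end Groth.Agent.IntTh85.UnibOpen
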