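import Groth.Agent.IntTh85.CondT
import Groth.Agent.IntTh85.UnibOpenQf
import Groth.Agent.S3386

/-!
# Chevalley's criterion: condition (T) over a geometrically unibranch base gives universal openness

No noetherian or finite presentation hypothesis; finitely many components of the base.
-/

set_option autoImplicit false
set_option linter.style.haveILetI false

open AlgebraicGeometry CategoryTheory Limits Topology

namespace Groth.Agent.IntTh85.CondTOpen

open Groth.Agent

universe u

variable {X S : Scheme.{u}}

/-- Near a unibranch point a space with finitely many components is the closure of a single point. -/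
theorem closure_mem_nhds (hfin : (irreducibleComponents (S : Type u)).Finite) {s a : S}
    (hs : CAlg2.IsUnibranch (S.presheaf.stalk s)) (ha : a ⤳ s) (ham : ∀ b, b ⤳ a → b = a) :
    closure {a} ∈ 𝓝 s := by
  classical
  let T := {Z ∈ irreducibleComponents (S : Type u) | s ∉ Z}
  have hT : T.Finite := hfin.subset fun Z hZ => hZ.1
  have hcl : IsClosed (⋃ Z ∈ T, Z) :=
    hT.isClosed_biUnion fun Z hZ => isClosed_of_mem_irreducibleComponents Z hZ.1
  refine Filter.mem_of_superset (hcl.isOpen_compl.mem_nhds fun h => ?_) fun p hp => ?_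
  · obtain ⟨Z, hZ, hsZ⟩ := Set.mem_iUnion₂.1 h
    exact hZ.2 hsZ
  · obtain ⟨c, hc, hcm⟩ := FibDim.exists_maximal_generization p
    have hcs : c ⤳ s := by
      by_contra hne
      exact hp (Set.mem_iUnion₂.2 ⟨closure {c},
        ⟨FDescent.closure_mem_irreducibleComponents hcm, fun h => hne (specializes_iff_mem_closure.2 h)⟩,
        specializes_iff_mem_closure.1 hc⟩)
    rw [← UnivOpen.maximal_unique hs hcs hcm ha ham]
    exact specializes_iff_mem_closure.1 hc

/-- An integral scheme equidimensional over a geometrically unibranch point, no finiteness. -/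
theorem isUnivOpenAt_of_integral {Z : Scheme.{u}} [IsIntegral Z]
    (hfin : (irreducibleComponents (S : Type u)).Finite) (f : Z ⟶ S) [LocallyOfFiniteType f] (x : Z)
    (hf : EGA43.IsEquidimAt f x) (hy : CAlg2.IsGeomUnibranch (S.presheaf.stalk (f x))) :
    EGA43.IsUnivOpenAt f x := by
  obtain ⟨e, U, g, hxU, hg, hqf, hcomp⟩ := (S3386.result f x).1 hf
  haveI := hqf
  let π := (𝔸(ULift.{u} (Fin e); S) ↘ S)
  haveI : LocallyOfFiniteType g := by
    haveI : LocallyOfFiniteType (g ≫ π) := by rw [hg]; infer_instance
    exact locallyOfFiniteType_of_comp g π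
  haveI : Nonempty (U : Scheme.{u}) := ⟨⟨x, hxU⟩⟩
  haveI : IsIntegral (U : Scheme.{u}) := isIntegral_of_isOpenImmersion U.ι
  let x' : (U : Scheme.{u}) := ⟨x, hxU⟩
  let a := g (genericPoint ↥(U : Scheme.{u}))
  have hmax : ∀ b, b ⤳ a → b = a := by
    have h1 : closure (g '' closure {genericPoint ↥(U : Scheme.{u})}) ∈
        irreducibleComponents ↥𝔸(ULift.{u} (Fin e); S) := by
      rw [(genericPoint_spec ↥(U : Scheme.{u})).def]
      exact hcomp _ ((irreducibleComponents_eq_singleton (X := ↥(U : Scheme.{u}))).symm ▸ Set.mem_singleton _)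
    rw [closure_image_closure g.continuous] at h1
    erw [Set.image_singleton] at h1
    exact fun b hb => FDescent.maximal_of_closure_mem_irreducibleComponents h1 hb
  have hopen : IsOpenMap π := AffineSpace.isOpenMap_over S
  have hπx : π (g x') = f x := by
    show (g ≫ π) x' = _
    rw [hg]; rfl
  have hπmax : ∀ b, b ⤳ π a → b = π a := fun b hb => by
    obtain ⟨ζ, hζ, hfζ⟩ := FibDim.exists_generization_of_isOpenAt π
      (fun V hV => hopen.image_mem_nhds hV) hb
    rw [← hfζ, hmax ζ hζ]
  have hax : π a ⤳ f x := by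
    rw [← hπx]
    exact (((genericPoint_spec ↥(U : Scheme.{u})).specializes (Set.mem_univ x')).map g.continuous).map π.continuous
  have hfib : π ⁻¹' {π a} ⊆ closure {a} := fun z hz =>
    specializes_iff_mem_closure.1 (FibDim.fibMax_affineSpace e (FibDim.fibMax_of_maximal π hmax) hz)
  have hpre : π ⁻¹' closure {π a} ⊆ closure {a} := by
    rw [hopen.preimage_closure_eq_closure_preimage π.continuous]
    exact closure_minimal hfib isClosed_closure
  have hcl : closure {a} ∈ 𝓝 (g x') :=
    Filter.mem_of_superset (π.continuous.continuousAt.preimage_mem_nhds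
      (show closure {π a} ∈ 𝓝 (π (g x')) from hπx.symm ▸ closure_mem_nhds hfin hy.1 hax hπmax)) hpre
  have hy' : CAlg2.IsGeomUnibranch (S.presheaf.stalk (π (g x'))) := by rw [hπx]; exact hy
  have h1 := UnibOpen.isUnivOpenAt_qf g x' (UnivOpen.isGeomUnibranch_affineSpace _ _ hy') hcl
  haveI := UnivOpen.universallyOpen_affineSpace (Y := S) (ULift.{u} (Fin e))
  have h2 := QHomeo.univOpenAt_comp h1 ((UnivOpen.universallyOpen_iff_forall π).1 inferInstance (g x'))
  rw [hg] at h2
  exact QHomeo.univOpenAt_of_comp h2

/-- EGA IV 14.4.4 without noetherian hypotheses. -/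
theorem universallyOpen (hS : ∀ s : S, CAlg2.IsGeomUnibranch (S.presheaf.stalk s))
    (hfin : (irreducibleComponents (S : Type u)).Finite) (f : X ⟶ S) [LocallyOfFiniteType f]
    (hT : ∀ x : X, ∃ W : TopologicalSpace.Closeds X, (W : Set X) ∈ irreducibleComponents (X : Type u) ∧
      ∃ w : ↥((Scheme.IdealSheafData.vanishingIdeal W).subscheme),
        (Scheme.IdealSheafData.vanishingIdeal W).subschemeι.base w = x ∧
        EGA43.IsEquidimAt ((Scheme.IdealSheafData.vanishingIdeal W).subschemeι ≫ f) w) :
    UniversallyOpen f := by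
  refine (UnivOpen.universallyOpen_iff_forall f).2 fun x => ?_
  obtain ⟨W, hW, w, hw, heq⟩ := hT x
  let j := (Scheme.IdealSheafData.vanishingIdeal W).subschemeι
  haveI : IsReduced (Scheme.IdealSheafData.vanishingIdeal W).subscheme := H23.RedSub.isReduced_vanishingIdeal W
  haveI : IrreducibleSpace ↥(Scheme.IdealSheafData.vanishingIdeal W).subscheme := by
    haveI : IrreducibleSpace ↥(Set.range j) := by
      rw [DimFormula.range_vanishingIdeal W]; exact Subtype.irreducibleSpace hW.1
    exact j.isClosedEmbedding.isEmbedding.toHomeomorph.symm.surjective.irreducibleSpace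
      j.isClosedEmbedding.isEmbedding.toHomeomorph.symm.continuous
  haveI : IsIntegral (Scheme.IdealSheafData.vanishingIdeal W).subscheme :=
    isIntegral_of_irreducibleSpace_of_isReduced _
  rw [← hw]
  exact QHomeo.univOpenAt_of_comp (isUnivOpenAt_of_integral hfin (j ≫ f) w heq (hS _))

end Groth.Agent.IntTh85.CondTOpen
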