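import Groth.Agent.PolLib.FlatTS
import Mathlib.RingTheory.Nilpotent.Lemmas
import Mathlib.RingTheory.TensorProduct.Maps
import Mathlib.RingTheory.TensorProduct.Free

/-!
# Symmetric tensors of flat algebras with geometrically reduced fibres
-/

set_option autoImplicit false
set_option linter.style.haveILetI false
set_option linter.unusedSectionVars false

universe u

open scoped TensorProduct
open Groth.Agent.PolLib

namespace Groth.Agent.IntTh85.GammaRed

variable {A : Type u} [CommRing A] {B : Type u} [CommRing B] [Algebra A B] {d : ℕ}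

/-- Symmetric tensors of a flat algebra form a pure submodule. -/
theorem val_lTensor_injective [Module.Flat A B] (M : Type u) [AddCommGroup M] [Module A M] :
    Function.Injective ((SymTen.TS A B d).val.toLinearMap.lTensor M) := by
  classical
  rw [injective_iff_map_eq_zero]
  intro z hz
  obtain ⟨l, s, w, rfl⟩ : ∃ (l : ℕ) (s : Fin l → M) (w : Fin l → SymTen.TS A B d), z = ∑ a, s a ⊗ₜ[A] w a := by
    clear hz
    induction z using TensorProduct.induction_on with
    | zero => exact ⟨0, Fin.elim0, Fin.elim0, by simp⟩
    | tmul x y => exact ⟨1, fun _ => x, fun _ => y, by simp⟩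
    | add x y hx hy =>
      obtain ⟨l, s, w, rfl⟩ := hx
      obtain ⟨l', s', w', rfl⟩ := hy
      exact ⟨l + l', Fin.append s s', Fin.append w w', by simp [Fin.sum_univ_add]⟩
  obtain ⟨n, g, t, ht, hgt⟩ := exists_invariant_lift_family (fun a => (w a).1) fun a σ => (w a).2 σ
  have h0 : (tp d g).lTensor M (∑ a, s a ⊗ₜ[A] t a) = 0 := by
    rw [← hz, map_sum, map_sum]
    exact Finset.sum_congr rfl fun a _ => by simp [hgt]
  obtain ⟨m, h, g', hg', hh⟩ := kill d M n g _ h0
  let T' := SymTen.TS A (Fin m → A) d
  have hinv : ∀ a, tp d h (t a) ∈ T' := fun a σ => by rw [← tp_reindex, ht]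
  have hy : ∑ a, s a ⊗ₜ[A] (⟨_, hinv a⟩ : T') = 0 := by
    have := congrArg ((retr (Pi.basisFun A (Fin m)) (d := d)).lTensor M) hh
    simp only [map_sum, LinearMap.lTensor_tmul, map_zero] at this
    rw [← this]
    exact Finset.sum_congr rfl fun a _ => congrArg _ (retr_val (Pi.basisFun A (Fin m)) ⟨_, hinv a⟩).symm
  let Ψ : T' →ₗ[A] SymTen.TS A B d :=
    { toFun := fun x => ⟨tp d g' x.1, fun σ => by rw [← tp_reindex, x.2 σ]⟩
      map_add' := fun x y => Subtype.ext (map_add (tp d g') x.1 y.1)
      map_smul' := fun c x => Subtype.ext (map_smul (tp d g') c x.1) }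
  have := congrArg (Ψ.lTensor M) hy
  simp only [map_sum, LinearMap.lTensor_tmul, map_zero] at this
  rw [← this]
  refine Finset.sum_congr rfl fun a _ => congrArg _ (Subtype.ext ?_)
  show (w a).1 = tp d g' (tp d h (t a))
  rw [← LinearMap.comp_apply, ← tp_comp, hg', hgt]

/-- A reduced algebra over a field tensored with a geometrically reduced one is reduced. -/
theorem isReduced_tensor {K R V : Type u} [Field K] [CommRing R] [Algebra K R] [IsReduced R]
    [CommRing V] [Algebra K V] (hV : ∀ (L : Type u) [Field L] [Algebra K L], IsReduced (L ⊗[K] V)) :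
    IsReduced (R ⊗[K] V) := by
  refine ⟨fun z hz => ?_⟩
  let b := Module.Basis.ofVectorSpace K V
  refine (Algebra.TensorProduct.basis R b).ext_elem fun i => ?_
  rw [map_zero, Finsupp.zero_apply]
  refine IsReduced.eq_zero _ (nilpotent_iff_mem_prime.2 fun P hP => ?_)
  let L := FractionRing (R ⧸ P)
  let φ : R →ₐ[K] L := (IsScalarTower.toAlgHom K (R ⧸ P) L).comp (Ideal.Quotient.mkₐ K P)
  haveI := hV L
  have hmap : Algebra.TensorProduct.map φ (AlgHom.id K V) z = 0 :=
    IsReduced.eq_zero _ (hz.map _)
  have hnat : ∀ w : R ⊗[K] V, φ ((Algebra.TensorProduct.basis R b).repr w i) =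
      (Algebra.TensorProduct.basis L b).repr (Algebra.TensorProduct.map φ (AlgHom.id K V) w) i := by
    intro w
    induction w using TensorProduct.induction_on with
    | zero => simp
    | tmul r v => simp [Algebra.TensorProduct.basis_repr_tmul, Finsupp.smul_apply]
    | add x y hx hy => simp [hx, hy]
  have h := hnat z
  rw [hmap, map_zero, Finsupp.zero_apply] at h
  exact Ideal.Quotient.eq_zero_iff_mem.1 ((IsFractionRing.injective (R ⧸ P) L) (h.trans (map_zero _).symm))

theorem join_mul (d : ℕ) (z z' : (⨂[A]^d B) ⊗[A] B) :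
    join A B d (z * z') = join A B d z * join A B d z' := by
  induction z using TensorProduct.induction_on with
  | zero => simp
  | add x y hx hy => simp [add_mul, hx, hy]
  | tmul u x =>
    induction z' using TensorProduct.induction_on with
    | zero => simp
    | add p q hp hq => simp [mul_add, hp, hq]
    | tmul v y =>
      induction u using PiTensorProduct.induction_on with
      | add p q hp hq => simp only [TensorProduct.add_tmul, add_mul, map_add, hp, hq]
      | smul_tprod r a =>
        induction v using PiTensorProduct.induction_on with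
        | add p q hp hq => simp only [TensorProduct.add_tmul, mul_add, map_add, hp, hq]
        | smul_tprod r' a' =>
          simp only [← TensorProduct.smul_tmul', smul_mul_smul_comm, map_smul, smul_mul_assoc,
            mul_smul_comm, smul_smul, Algebra.TensorProduct.tmul_mul_tmul,
            PiTensorProduct.tprod_mul_tprod, join_tmul]
          congr 2
          funext i
          refine Fin.addCases (fun j => ?_) (fun j => ?_) i <;> simp

/-- Field fibres of tensor powers are reduced. -/
theorem isReduced_tensorPower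
    (hred : ∀ (K : Type u) [Field K] [Algebra A K], IsReduced (K ⊗[A] B)) :
    ∀ (d : ℕ) (K : Type u) [Field K] [Algebra A K], IsReduced (K ⊗[A] ⨂[A]^d B) := by
  intro d
  induction d with
  | zero =>
    intro K _ _
    rcases subsingleton_or_nontrivial (K ⊗[A] ⨂[A]^0 B) with h | h
    · exact ⟨fun x _ => Subsingleton.elim _ _⟩
    let ι : K →+* K ⊗[A] ⨂[A]^0 B := Algebra.TensorProduct.includeLeftRingHom
    have hs : Function.Surjective ι := fun z => by
      induction z using TensorProduct.induction_on with
      | zero => exact ⟨0, map_zero _⟩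
      | add x y hx hy =>
        obtain ⟨a, rfl⟩ := hx
        obtain ⟨b, rfl⟩ := hy
        exact ⟨a + b, map_add _ _ _⟩
      | tmul x y =>
        induction y using PiTensorProduct.induction_on with
        | add p q hp hq =>
          obtain ⟨a, ha⟩ := hp
          obtain ⟨b, hb⟩ := hq
          exact ⟨a + b, by rw [map_add, ha, hb, TensorProduct.tmul_add]⟩
        | smul_tprod r f =>
          refine ⟨r • x, ?_⟩
          show (r • x) ⊗ₜ[A] (1 : ⨂[A]^0 B) = _
          rw [TensorProduct.tmul_smul, TensorProduct.smul_tmul', PiTensorProduct.one_def]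
          congr 2
          exact Subsingleton.elim _ _
    refine ⟨fun x hx => ?_⟩
    obtain ⟨a, rfl⟩ := hs x
    obtain ⟨N, hN⟩ := hx
    rw [← map_pow, map_eq_zero] at hN
    rw [eq_zero_of_pow_eq_zero hN, map_zero]
  | succ d ih =>
    intro K _ _
    haveI := ih K
    have hV : ∀ (L : Type u) [Field L] [Algebra K L], IsReduced (L ⊗[K] (K ⊗[A] B)) := by
      intro L _ _
      letI : Algebra A L := ((algebraMap K L).comp (algebraMap A K)).toAlgebra
      haveI : IsScalarTower A K L := IsScalarTower.of_algebraMap_eq fun _ => rfl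
      haveI := hred L
      exact isReduced_of_injective (Algebra.TensorProduct.cancelBaseChange A K L L B)
        (AlgEquiv.injective _)
    haveI h1 : IsReduced ((K ⊗[A] ⨂[A]^d B) ⊗[K] (K ⊗[A] B)) := isReduced_tensor hV
    haveI h2 : IsReduced ((K ⊗[A] ⨂[A]^d B) ⊗[A] B) :=
      isReduced_of_injective (Algebra.TensorProduct.cancelBaseChange A K (K ⊗[A] ⨂[A]^d B)
        (K ⊗[A] ⨂[A]^d B) B).symm (AlgEquiv.injective _)
    let j : (⨂[A]^d B) ⊗[A] B ≃ₐ[A] ⨂[A]^(d + 1) B :=
      AlgEquiv.ofLinearEquiv (join A B d) (by
        show join A B d ((1 : ⨂[A]^d B) ⊗ₜ[A] (1 : B)) = 1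
        rw [PiTensorProduct.one_def, join_tmul, PiTensorProduct.one_def]
        congr 1
        funext i
        refine Fin.addCases (fun j => ?_) (fun j => ?_) i <;> simp) (join_mul d)
    exact isReduced_of_injective
      ((Algebra.TensorProduct.congr (AlgEquiv.refl : K ≃ₐ[A] K) j.symm).trans
        (Algebra.TensorProduct.assoc A A A K (⨂[A]^d B) B).symm) (AlgEquiv.injective _)

open PolLaw in
theorem isReduced_gamma {C : Type u} [CommRing C] [Algebra A C] {γ : MulLaw A B C d} (hγ : IsGammaD γ)
    [Module.Flat A B] (hred : ∀ (K : Type u) [Field K] [Algebra A K], IsReduced (K ⊗[A] B))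
    (K : Type u) [Field K] [Algebra A K] : IsReduced (K ⊗[A] C) := by
  obtain ⟨φ, hφ⟩ := exists_gammaD_tsMap γ hγ
  let e := AlgEquiv.ofBijective φ ⟨phi_injective_of_flat γ φ hφ hγ, phi_surjective_of_flat γ φ hφ⟩
  haveI := isReduced_tensorPower hred d K
  haveI : IsReduced (K ⊗[A] SymTen.TS A B d) :=
    isReduced_of_injective (Algebra.TensorProduct.map (AlgHom.id A K) (SymTen.TS A B d).val) (by
      intro x y h
      exact val_lTensor_injective K h)
  exact isReduced_of_injective (Algebra.TensorProduct.congr (AlgEquiv.refl : K ≃ₐ[A] K) e)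
    (AlgEquiv.injective _)

end Groth.Agent.IntTh85.GammaRed
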