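import Groth.Agent.IntTh85.GrHilbPoly

/-!
# Dimension, degree and the associativity formula
-/

set_option autoImplicit false
set_option linter.style.haveILetI false

universe u

open MvPolynomial Order Module
open Groth.Agent.VarDim Groth.Agent.VarDim.ProjN Groth.Agent.IntTh85
open Groth.Agent.IntTh85.GrHilbPoly

namespace Groth.Agent.IntTh85.GrHilbApp

variable {k : Type u} [Field k] {n : ℕ}

local notation "𝒜" => CohB1.polyGrading n k
local notation "A" => MvPolynomial (Fin (n + 1)) k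

/-- The degree of a variety from its Hilbert polynomial. -/
noncomputable def degP (P : Polynomial ℚ) : ℚ := (P.natDegree.factorial : ℚ) * P.leadingCoeff

theorem eq_zero_or_top {J : Ideal A} (hJ : J.IsHomogeneous 𝒜) {P : Polynomial ℚ} (hP : IsHilb J P) :
    ((∀ x : ProjectiveSpectrum 𝒜, ¬ J ≤ (pp x).asIdeal) ∧ P = 0) ∨
      (P ≠ 0 ∧ Below J P.natDegree ∧ (∃ x : ProjectiveSpectrum 𝒜, J ≤ (pp x).asIdeal ∧ pdim x = P.natDegree) ∧
        Assoc J P P.natDegree) := by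
  classical
  obtain ⟨h1, h2, h3⟩ := hp_spec hJ
  rw [hp_eq hP] at h2 h3
  by_cases hV : ∀ x : ProjectiveSpectrum 𝒜, ¬ J ≤ (pp x).asIdeal
  · exact Or.inl ⟨hV, h2 hV⟩
  push Not at hV
  obtain ⟨x₀, hx₀⟩ := hV
  have hex : ∃ T, Below J T := ⟨n, below_n J⟩
  set T := Nat.find hex with hTdef
  have hT : Below J T := Nat.find_spec hex
  obtain ⟨x, hxJ, hxT⟩ : ∃ x : ProjectiveSpectrum 𝒜, J ≤ (pp x).asIdeal ∧ pdim x = T := by
    by_contra! h
    have hlt : ∀ x : ProjectiveSpectrum 𝒜, J ≤ (pp x).asIdeal → pdim x < T := fun x hx =>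
      lt_of_le_of_ne (hT x hx) (h x hx)
    have h0 := hlt x₀ hx₀
    exact Nat.find_min hex (m := T - 1) (show T - 1 < T by omega) fun x hx => by
      have := hlt x hx; omega
  obtain ⟨S, hS⟩ := exists_finset_points hJ hT
  obtain ⟨hdeg, hA⟩ := h3 T hT
  obtain ⟨ℓ, hℓ, hsum⟩ := hA S fun y h h' => (hS y).2 ⟨h, h'⟩
  have hpos : 0 < P.coeff T := by
    rw [hsum]
    refine Finset.sum_pos' (fun y _ => mul_nonneg (Nat.cast_nonneg _) (cc_pos y).le)
      ⟨x, Finset.mem_filter.2 ⟨(hS x).2 ⟨hxJ, hxT⟩, hxT⟩, mul_pos ?_ (cc_pos x)⟩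
    have h1 : (ℓ x : ℕ∞) ≠ 0 := hℓ x ((hS x).2 ⟨hxJ, hxT⟩) hxT ▸ lenP_pos hxJ
    exact_mod_cast Nat.pos_of_ne_zero (fun h => h1 (by simp [h]))
  have hdegT : P.natDegree = T := le_antisymm hdeg (Polynomial.le_natDegree_of_ne_zero hpos.ne')
  refine Or.inr ⟨fun h => by simp [h] at hpos, ?_, ?_, ?_⟩ <;> rw [hdegT]
  exacts [hT, ⟨x, hxJ, hxT⟩, h3 T hT]

theorem hilb_point {x : ProjectiveSpectrum 𝒜} {Q : Polynomial ℚ} (hQ : IsHilb (pp x).asIdeal Q) :
    Q.natDegree = pdim x ∧ degP Q = (pdim x).factorial * cc x := by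
  obtain ⟨hd, -⟩ : Assoc (pp x).asIdeal Q (pdim x) := by
    have := (hp_spec (isHomogeneous_pp x)).2.2 (pdim x) fun y hy => pdim_anti (pp_le_pp.1 hy)
    rwa [hp_eq hQ] at this
  have hc : Q.coeff (pdim x) = cc x := by rw [cc, hp_eq hQ]
  have hdeg : Q.natDegree = pdim x :=
    le_antisymm hd (Polynomial.le_natDegree_of_ne_zero (hc ▸ (cc_pos x).ne'))
  exact ⟨hdeg, by rw [degP, Polynomial.leadingCoeff, hdeg, hc]⟩

theorem hilb_vertex {Q : Polynomial ℚ} (hQ : IsHilb (vertex k n) Q) : Q = 0 := by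
  refine hQ.unique ⟨1, fun m hm => ?_⟩
  rw [Polynomial.eval_zero, H_eq_zero_of_le]
  intro a ha
  show constantCoeff a = 0
  exact IsHomogeneous.coeff_eq_zero (φ := a) (n := m) ha (by simp; omega)

/-- The associativity formula summed over minimal primes. -/
theorem degP_eq_sum {I : Ideal A} (hIh : I.IsHomogeneous 𝒜) {P : Polynomial ℚ} (hP : IsHilb I P)
    (r : ℕ) (p : Fin r → Ideal A) [hp : ∀ i, (p i).IsPrime] (hpinj : Function.Injective p)
    (hpmin : ∀ q : Ideal A, q ∈ I.minimalPrimes ↔ ∃ i, q = p i) (Qp : Fin r → Polynomial ℚ)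
    (hQp : ∀ i, IsHilb (p i) (Qp i)) :
    degP P = ∑ i : Fin r, if (Qp i).natDegree = P.natDegree then
      degP (Qp i) * ((lenP I (p i)).toNat : ℚ) else 0 := by
  classical
  have hmin : ∀ i, p i ∈ I.minimalPrimes := fun i => (hpmin _).2 ⟨i, rfl⟩
  rcases eq_zero_or_top hIh hP with ⟨hV, rfl⟩ | ⟨hP0, hB, -, hdeg, hA⟩
  · rw [Finset.sum_eq_zero]
    · simp [degP]
    intro i _
    have hv : p i = vertex k n := by
      by_contra hne
      obtain ⟨x, hx⟩ := exists_point_minimal hIh (hmin i) hne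
      exact hV x (hx ▸ (hmin i).1.2)
    have h0 : Qp i = 0 := hilb_vertex (hv ▸ hQp i)
    simp [h0, degP]
  set T := P.natDegree
  obtain ⟨S, hS⟩ := exists_finset_points hIh hB
  obtain ⟨ℓ, hℓ, hsum⟩ := hA S fun y h h' => (hS y).2 ⟨h, h'⟩
  rw [Finset.filter_true_of_mem fun x hx => ((hS x).1 hx).2] at hsum
  have hidx : ∀ x ∈ S, ∃ i, p i = (pp x).asIdeal := fun x hx => by
    obtain ⟨i, hi⟩ := (hpmin _).1 (mem_minimalPrimes_of_minimal hIh ((hS x).1 hx).1 fun d hd hdx => by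
      by_contra hne
      have h1 := pdim_strictAnti (lt_of_le_of_ne hdx hne)
      have h2 := hB d hd
      have h3 := ((hS x).1 hx).2
      omega)
    exact ⟨i, hi.symm⟩
  choose idx hidx using hidx
  have hterm : ∀ x (hx : x ∈ S), (Qp (idx x hx)).natDegree = T ∧
      degP (Qp (idx x hx)) * ((lenP I (p (idx x hx))).toNat : ℚ) = T.factorial * ((ℓ x : ℚ) * cc x) := by
    intro x hx
    obtain ⟨h1, h2⟩ := hilb_point (x := x) (hidx x hx ▸ hQp (idx x hx))
    have h3 := ((hS x).1 hx).2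
    refine ⟨h1.trans h3, ?_⟩
    rw [h2, h3, lenP_congr I (hidx x hx)]
    have h4 : lenP I (pp x).asIdeal = (ℓ x : ℕ∞) := (hℓ x hx h3).symm
    rw [h4, ENat.toNat_coe]
    ring
  rw [degP, Polynomial.leadingCoeff, hsum, Finset.mul_sum, ← Finset.sum_filter]
  refine Finset.sum_bij (fun x hx => idx x hx) (fun x hx => ?_) (fun a ha b hb h => ?_) (fun i hi => ?_)
    (fun x hx => (hterm x hx).2.symm)
  · exact Finset.mem_filter.2 ⟨Finset.mem_univ _, (hterm x hx).1⟩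
  · exact pp_injective (PrimeSpectrum.ext ((hidx a ha).symm.trans ((congrArg p h).trans (hidx b hb))))
  · obtain ⟨-, hi⟩ := Finset.mem_filter.1 hi
    by_cases hv : p i = vertex k n
    · exfalso
      have h0 : Qp i = 0 := hilb_vertex (hv ▸ hQp i)
      rw [h0, Polynomial.natDegree_zero] at hi
      rcases eq_zero_or_top hIh hP with ⟨-, h⟩ | ⟨-, -, ⟨x, hx, -⟩, -⟩
      · exact hP0 h
      · refine (pp_lt_vertexPoint x).not_ge ?_
        show vertex k n ≤ (pp x).asIdeal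
        exact hv ▸ (hmin i).2 ⟨(pp x).2, hx⟩ (hv.symm ▸ (pp_lt_vertexPoint x).le)
    obtain ⟨x, hx⟩ := exists_point_minimal hIh (hmin i) hv
    have hxS : x ∈ S := (hS x).2 ⟨hx ▸ (hmin i).1.2, by
      rw [← hi, (hilb_point (x := x) (hx.symm ▸ hQp i)).1]⟩
    exact ⟨x, hxS, hpinj ((hidx x hxS).trans hx)⟩

/-- The dimension of the cone. -/
theorem ringKrullDim_eq {I : Ideal A} (hIh : I.IsHomogeneous 𝒜) {P : Polynomial ℚ} (hP0 : P ≠ 0)
    (hP : IsHilb I P) : ringKrullDim (A ⧸ I) = (P.natDegree : WithBot ℕ∞) + 1 := by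
  rcases eq_zero_or_top hIh hP with ⟨-, h⟩ | ⟨-, hB, ⟨x, hxI, hxT⟩, -⟩
  · exact absurd h hP0
  refine le_antisymm ?_ ?_
  · rw [ringKrullDim_quotient]
    refine iSup_le fun l => ?_
    obtain ⟨P', hP', hle⟩ := Ideal.exists_minimalPrimes_le (J := (l.head.1).asIdeal) l.head.2
    have h1 : (l.length : ℕ∞) ≤ coheight (⟨P', hP'.1.1⟩ : PrimeSpectrum A) :=
      (length_le_coheight (p := l.map Subtype.val (Subtype.strictMono_coe _)) le_rfl).trans
        (coheight_anti (show (⟨P', hP'.1.1⟩ : PrimeSpectrum A) ≤ l.head.1 from hle))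
    have h2 : coheight (⟨P', hP'.1.1⟩ : PrimeSpectrum A) ≤ ((P.natDegree + 1 : ℕ) : ℕ∞) := by
      by_cases hv : P' = vertex k n
      · subst hv
        rw [show coheight (⟨vertex k n, hP'.1.1⟩ : PrimeSpectrum A) = 0 from coheight_vertexPoint]
        exact zero_le
      obtain ⟨z, hz⟩ := exists_point_minimal hIh hP' hv
      rw [← show pp z = ⟨P', hP'.1.1⟩ from PrimeSpectrum.ext hz, coheight_pp_eq]
      exact_mod_cast Nat.add_le_add_right (hB z (hz ▸ hP'.1.2)) 1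
    exact le_trans (WithBot.coe_le_coe.2 (h1.trans h2)) (le_of_eq (by push_cast; rfl))
  · refine le_trans (le_of_eq ?_) (ringKrullDim_le_of_surjective (Ideal.Quotient.factor hxI)
      (Ideal.Quotient.factor_surjective hxI))
    rw [← coheight_eq_ringKrullDim_quotient (pp x), coheight_pp_eq, hxT]
    push_cast
    rfl

/-- Cutting by a homogeneous element outside a prime. -/
theorem cut_minimal {I : Ideal A} (hIh : I.IsHomogeneous 𝒜) [I.IsPrime] {f : A} {d : ℕ}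
    (hd : 0 < d) (hf : f ∈ 𝒜 d) (hfI : f ∉ I) {P : Polynomial ℚ} (hP : IsHilb I P)
    (hdim : 1 ≤ P.natDegree) {q : Ideal A} (hq : q ∈ (I ⊔ Ideal.span {f}).minimalPrimes) :
    ∃ z : ProjectiveSpectrum 𝒜, (pp z).asIdeal = q ∧ pdim z + 1 = P.natDegree := by
  obtain ⟨x, rfl⟩ := exists_point ‹I.IsPrime› hIh fun h => by
    subst h
    rw [hilb_vertex hP] at hdim
    simp at hdim
  have hx := (hilb_point hP).1
  have hJh := isHomogeneous_sup hIh hf
  have h1 : coheight (pp x) ≤ coheight (⟨q, hq.1.1⟩ : PrimeSpectrum A) + 1 :=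
    le_of_le_of_eq (coheight_le_of_mem_minimalPrimes_sup (k := k) (q := pp x)
      (p := ⟨q, hq.1.1⟩) {f} (by simpa using hq)) (by simp)
  by_cases hv : q = vertex k n
  · exfalso
    subst hv
    rw [coheight_pp_eq, show coheight (⟨vertex k n, hq.1.1⟩ : PrimeSpectrum A) = 0 from coheight_vertexPoint,
      zero_add] at h1
    have : pdim x + 1 ≤ 1 := by exact_mod_cast h1
    omega
  obtain ⟨z, rfl⟩ := exists_point_minimal hJh hq hv
  refine ⟨z, rfl, ?_⟩
  rw [show (⟨(pp z).asIdeal, hq.1.1⟩ : PrimeSpectrum A) = pp z from rfl, coheight_pp_eq, coheight_pp_eq] at h1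
  have h2 : pdim x + 1 ≤ pdim z + 1 + 1 := by exact_mod_cast h1
  have h3 : pdim z < pdim x := pdim_strictAnti (lt_of_le_of_ne (pp_le_pp.1 (le_sup_left.trans hq.1.2))
    fun e => hfI (by rw [e]; exact hq.1.2 (Ideal.mem_sup_right (Ideal.subset_span rfl))))
  omega

/-- The degree of a hypersurface section. -/
theorem hypersurface {I : Ideal A} (hIh : I.IsHomogeneous 𝒜) [I.IsPrime] {f : A} {d : ℕ}
    (hd : 0 < d) (hf : f ∈ 𝒜 d) (hfI : f ∉ I) {P Q : Polynomial ℚ} (hP : IsHilb I P)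
    (hQ : IsHilb (I ⊔ Ideal.span {f}) Q) (hdim : 1 ≤ P.natDegree) :
    Q.natDegree + 1 = P.natDegree ∧ degP Q = d * degP P := by
  obtain ⟨s, hs⟩ := Nat.exists_eq_add_one.2 hdim
  have hf0 : f ≠ 0 := fun h => hfI (h ▸ zero_mem I)
  have hcol : col I f = I :=
    le_antisymm (fun a ha => ((inferInstance : I.IsPrime).mem_or_mem ha).resolve_left hfI) (le_col _ _)
  have hQeq : Q = (P.comp (Polynomial.X + Polynomial.C (d : ℚ)) - P).comp
      (Polynomial.X + Polynomial.C (-(d : ℚ))) := by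
    obtain ⟨a, ha⟩ := hP
    refine hQ.unique ⟨a + d, fun m hm => ?_⟩
    obtain ⟨j, rfl⟩ := Nat.exists_eq_add_of_le' (show d ≤ m by omega)
    rw [Polynomial.eval_comp]
    simp only [Polynomial.eval_add, Polynomial.eval_X, Polynomial.eval_C, Polynomial.eval_sub,
      Polynomial.eval_comp]
    rw [show ((j + d : ℕ) : ℚ) + -(d : ℚ) = j by push_cast; ring,
      show (j : ℚ) + d = ((j + d : ℕ) : ℚ) by push_cast; ring, ha _ (by omega), ha _ (by omega),
      H_split hIh hf hf0, hcol]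
    ring
  obtain ⟨h1, h2⟩ := HilbPolyAux.diff_spec (P := P) (s := s) hs.le (d : ℚ)
  have hdq : Q.natDegree ≤ s := hQeq ▸ (HilbPolyAux.natDegree_comp_add _ _).le.trans h1
  have hcq : Q.coeff s = (s + 1) * (d : ℚ) * P.leadingCoeff := by
    rw [hQeq, HilbPolyAux.coeff_comp_add h1, h2, Polynomial.leadingCoeff, hs]
  have hP0 : P ≠ 0 := fun h => by simp [h] at hdim
  have hne : Q.coeff s ≠ 0 := by
    rw [hcq]
    have : P.leadingCoeff ≠ 0 := Polynomial.leadingCoeff_ne_zero.2 hP0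
    positivity
  have hqs : Q.natDegree = s := le_antisymm hdq (Polynomial.le_natDegree_of_ne_zero hne)
  refine ⟨by omega, ?_⟩
  rw [degP, degP, hqs, Polynomial.leadingCoeff, hqs, hcq, hs, Nat.factorial_succ]
  push_cast
  ring

/-- Bézout for a hypersurface. -/
theorem bezout {I : Ideal A} (hIh : I.IsHomogeneous 𝒜) [I.IsPrime] {f : A} {d : ℕ}
    (hd : 0 < d) (hf : f ∈ 𝒜 d) (hfI : f ∉ I) {P : Polynomial ℚ} (hP : IsHilb I P)
    (hdim : 1 ≤ P.natDegree) (r : ℕ) (p : Fin r → Ideal A) [hp : ∀ i, (p i).IsPrime]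
    (hpinj : Function.Injective p)
    (hpmin : ∀ q : Ideal A, q ∈ (I ⊔ Ideal.span {f}).minimalPrimes ↔ ∃ i, q = p i)
    (Qp : Fin r → Polynomial ℚ) (hQp : ∀ i, IsHilb (p i) (Qp i)) :
    (d : ℚ) * degP P = ∑ i : Fin r, degP (Qp i) * ((lenP (I ⊔ Ideal.span {f}) (p i)).toNat : ℚ) := by
  have hJh := isHomogeneous_sup hIh hf
  obtain ⟨Q, hQ, -, -⟩ := main hJh
  obtain ⟨h1, h2⟩ := hypersurface hIh hd hf hfI hP hQ hdim
  rw [← h2, degP_eq_sum hJh hQ r p hpinj hpmin Qp hQp]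
  refine Finset.sum_congr rfl fun i _ => if_pos ?_
  obtain ⟨z, hz, hzd⟩ := cut_minimal hIh hd hf hfI hP hdim ((hpmin _).2 ⟨i, rfl⟩)
  rw [(hilb_point (x := z) (hz.symm ▸ hQp i)).1]
  omega

end Groth.Agent.IntTh85.GrHilbApp
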