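import Groth.Agent.VarDim.Proj

/-!
# Dimensions of cones and linear sections
-/

set_option autoImplicit false

universe u

open MvPolynomial Order

namespace Groth.Agent.IntTh85.ProjSec

open Groth.Agent.VarDim Groth.Agent.VarDim.ProjN

variable {k : Type u} [Field k] {n : ℕ}

local notation "𝒜" => CohB1.polyGrading n k
local notation "A" => MvPolynomial (Fin (n + 1)) k

/-- The only point on which `X 1, …, X n` vanish is closed. -/
theorem eq_of_le_of_forall {y z : ProjectiveSpectrum 𝒜} (h : ∀ j : Fin (n + 1), j ≠ 0 → X j ∈ (pp y).asIdeal)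
    (hyz : y ≤ z) : y = z := by
  classical
  refine le_antisymm hyz (pp_le_pp.1 fun b hb => ?_)
  have hle := pp_le_pp.2 hyz
  rw [← MvPolynomial.sum_homogeneousComponent b]
  refine sum_mem fun m _ => ?_
  have hm : homogeneousComponent m b ∈ (pp z).asIdeal := by
    rw [← proj_apply]; exact isHomogeneous_pp z m hb
  set e : Fin (n + 1) →₀ ℕ := Finsupp.single 0 m with he
  set c := (homogeneousComponent m b).coeff e with hc
  have hspan : homogeneousComponent m b - C c * X 0 ^ m ∈ (pp y).asIdeal := by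
    have hsub : Ideal.span (X '' {j : Fin (n + 1) | j ≠ 0}) ≤ (pp y).asIdeal :=
      Ideal.span_le.2 (by rintro _ ⟨j, hj, rfl⟩; exact h j hj)
    refine hsub ((mem_ideal_span_X_image).2 fun e' he' => ?_)
    by_contra! hz
    have heq : e' = Finsupp.single 0 (e' 0) := Finsupp.ext fun j => by
      by_cases hj : j = 0
      · subst hj; simp
      · simp [hz j hj, Finsupp.single_eq_of_ne hj]
    rw [mem_support_iff, coeff_sub, C_mul_X_pow_eq_monomial, coeff_monomial] at he'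
    by_cases hee : Finsupp.single 0 m = e'
    · subst hee
      simp [hc, he] at he'
    · rw [if_neg hee, sub_zero] at he'
      have hdeg : e'.degree = m := by
        by_contra hne
        exact he' ((homogeneousComponent_isHomogeneous m b).coeff_eq_zero hne)
      refine hee ?_
      rw [heq] at hdeg ⊢
      rw [Finsupp.degree_single] at hdeg
      rw [hdeg]
  by_cases hc0 : c = 0
  · rw [hc0, map_zero, zero_mul, sub_zero] at hspan; exact hspan
  exfalso
  have hX0 : (X 0 : A) ∈ (pp z).asIdeal := by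
    have h1 : C c * X 0 ^ m ∈ (pp z).asIdeal := by
      have := (pp z).asIdeal.sub_mem hm (hle hspan)
      rwa [sub_sub_cancel] at this
    rcases (pp z).2.mem_or_mem h1 with h2 | h2
    · exact ((pp z).2.ne_top (Ideal.eq_top_of_isUnit_mem _ h2 ((isUnit_iff_ne_zero.2 hc0).map C))).elim
    · exact (pp z).2.mem_of_pow_mem m h2
  refine z.not_irrelevant_le ?_
  show (HomogeneousIdeal.irrelevant 𝒜).toIdeal ≤ (pp z).asIdeal
  rw [irrelevant_eq_vertex]
  have hall : Ideal.span (Set.range (X : Fin (n + 1) → A)) ≤ (pp z).asIdeal :=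
    Ideal.span_le.2 (by
      rintro _ ⟨j, rfl⟩
      by_cases hj : j = 0
      · subst hj; exact hX0
      · exact hle (h j hj))
  refine le_trans (fun a ha => ?_) hall
  rw [← Set.image_univ, mem_ideal_span_X_image]
  intro s hs
  by_contra h'
  push Not at h'
  have : s = 0 := Finsupp.ext fun j => h' j trivial
  subst this
  exact (mem_support_iff.1 hs) ha

theorem pdim_eq_zero_of_forall {y : ProjectiveSpectrum 𝒜} (h : ∀ j : Fin (n + 1), j ≠ 0 → X j ∈ (pp y).asIdeal) :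
    pdim y = 0 := by
  have : coheight y = 0 := coheight_eq_zero.2 fun z hz => (eq_of_le_of_forall h hz).ge
  simp [pdim, this]

/-- Cutting with a coordinate hyperplane. -/
theorem exists_le_of_pdim_pos (x : ProjectiveSpectrum 𝒜) (hx : 0 < pdim x) (i : Fin (n + 1)) :
    ∃ z, x ≤ z ∧ X i ∈ (pp z).asIdeal ∧ pdim x ≤ pdim z + 1 := by
  let J : Ideal A := (pp x).asIdeal ⊔ Ideal.span {X i}
  have hJ : J.IsHomogeneous 𝒜 := (isHomogeneous_pp x).sup (Ideal.homogeneous_span _ _ (by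
    rintro a (rfl : a = X i)
    exact ⟨1, isHomogeneous_X k i⟩))
  have hJle : J ≤ vertex k n := sup_le (pp_lt_vertexPoint x).le
    (Ideal.span_le.2 (by rintro a (rfl : a = X i); exact constantCoeff_X k i))
  obtain ⟨P, hP, -⟩ := Ideal.exists_minimalPrimes_le hJle
  have h1 : coheight (pp x) ≤ coheight (⟨P, hP.1.1⟩ : PrimeSpectrum A) + 1 :=
    le_of_le_of_eq (coheight_le_of_mem_minimalPrimes_sup (k := k) (q := pp x)
      (p := ⟨P, hP.1.1⟩) {X i} (by simpa [J] using hP)) (by simp)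
  rw [coheight_pp_eq] at h1
  by_cases hPv : P = vertex k n
  · subst hPv
    have h0 : coheight (⟨vertex k n, hP.1.1⟩ : PrimeSpectrum A) = 0 := coheight_vertexPoint
    rw [h0, zero_add] at h1
    have : pdim x + 1 ≤ 1 := by exact_mod_cast h1
    omega
  obtain ⟨z, hz⟩ := exists_point_minimal hJ hP hPv
  have hz' : pp z = ⟨P, hP.1.1⟩ := PrimeSpectrum.ext hz
  refine ⟨z, pp_le_pp.1 (hz ▸ le_sup_left.trans hP.1.2),
    hz ▸ hP.1.2 (Ideal.mem_sup_right (Ideal.subset_span rfl)), ?_⟩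
  rw [← hz', coheight_pp_eq] at h1
  have : pdim x + 1 ≤ pdim z + 1 + 1 := by exact_mod_cast h1
  omega

theorem exists_coordinate_section (C₀ : Set (ProjectiveSpectrum 𝒜)) (hC : IsClosed C₀)
    (hne : C₀.Nonempty) :
    ∃ i : ℕ, i ≤ n ∧
      (C₀ ∩ ProjectiveSpectrum.zeroLocus 𝒜
          ((fun j : Fin (n + 1) => (X j : A)) '' {j : Fin (n + 1) | 1 ≤ j.val ∧ j.val ≤ i})).Nonempty ∧
      topologicalKrullDim ↥(C₀ ∩ ProjectiveSpectrum.zeroLocus 𝒜
          ((fun j : Fin (n + 1) => (X j : A)) '' {j : Fin (n + 1) | 1 ≤ j.val ∧ j.val ≤ i})) = 0 := by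
  classical
  let L : ℕ → Set (ProjectiveSpectrum 𝒜) := fun i => C₀ ∩ ProjectiveSpectrum.zeroLocus 𝒜
    ((fun j : Fin (n + 1) => (X j : A)) '' {j : Fin (n + 1) | 1 ≤ j.val ∧ j.val ≤ i})
  have hmem : ∀ i x, x ∈ L i ↔ x ∈ C₀ ∧ ∀ j : Fin (n + 1), 1 ≤ j.val → j.val ≤ i → X j ∈ (pp x).asIdeal :=
    fun i x => ⟨fun h => ⟨h.1, fun j h1 h2 => h.2 ⟨j, ⟨h1, h2⟩, rfl⟩⟩,
      fun h => ⟨h.1, by rintro _ ⟨j, ⟨h1, h2⟩, rfl⟩; exact h.2 j h1 h2⟩⟩
  have hn : ∀ x ∈ L n, pdim x = 0 := fun x hx => pdim_eq_zero_of_forall fun j hj =>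
    ((hmem n x).1 hx).2 j (Nat.one_le_iff_ne_zero.2 fun h => hj (Fin.ext h)) (Nat.le_of_lt_succ j.2)
  have hex : ∃ i, i ≤ n ∧ ∀ x ∈ L i, pdim x = 0 := ⟨n, le_rfl, hn⟩
  set i₀ := Nat.find hex with hi₀
  obtain ⟨hi₀n, hi₀0⟩ := Nat.find_spec hex
  have hnonempty : ∀ i, i ≤ i₀ → (L i).Nonempty := by
    intro i hi
    induction i with
    | zero =>
      obtain ⟨x, hx⟩ := hne
      exact ⟨x, (hmem 0 x).2 ⟨hx, fun j h1 h2 => absurd h2 (by omega)⟩⟩
    | succ i ih =>
      have := Nat.find_min hex (m := i) (by omega)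
      push Not at this
      obtain ⟨x, hx, hxd⟩ := this (by omega)
      obtain ⟨z, hxz, hzi, -⟩ := exists_le_of_pdim_pos x (Nat.pos_of_ne_zero hxd) ⟨i + 1, by omega⟩
      rw [hmem] at hx
      refine ⟨z, (hmem _ z).2 ⟨mem_of_le hC hx.1 hxz, fun j h1 h2 => ?_⟩⟩
      rcases Nat.lt_or_eq_of_le h2 with h | h
      · exact pp_le_pp.2 hxz (hx.2 j h1 (by omega))
      · rwa [show j = ⟨i + 1, by omega⟩ from Fin.ext h]
  refine ⟨i₀, hi₀n, hnonempty i₀ le_rfl, ?_⟩
  have hcl : IsClosed (L i₀) := hC.inter (ProjectiveSpectrum.isClosed_zeroLocus _ _)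
  obtain ⟨x, hx⟩ := hnonempty i₀ le_rfl
  refine le_antisymm ?_ ?_
  · rw [topologicalKrullDim_eq hcl]
    exact iSup_le fun z => by rw [hi₀0 z.1 z.2]; simp
  · have := le_topologicalKrullDim hcl hx
    rw [hi₀0 x hx] at this
    exact_mod_cast this

theorem ringKrullDim_cone (p : Ideal A) [hp : p.IsPrime] (hph : p.IsHomogeneous 𝒜)
    (hrel : ¬ (HomogeneousIdeal.irrelevant 𝒜).toIdeal ≤ p) :
    ringKrullDim (A ⧸ p) =
      topologicalKrullDim ↥(ProjectiveSpectrum.zeroLocus 𝒜 (p : Set A)) + 1 := by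
  obtain ⟨x, hx⟩ := exists_point hp hph fun h => hrel (by rw [irrelevant_eq_vertex, h])
  have hz : ProjectiveSpectrum.zeroLocus 𝒜 (p : Set A) = closure {x} := by
    ext y
    rw [← ProjectiveSpectrum.le_iff_mem_closure]
    show (p : Set A) ⊆ ((pp y).asIdeal : Set A) ↔ _
    rw [← hx, SetLike.coe_subset_coe, pp_le_pp]
  rw [hz, ProjN.topologicalKrullDim_closure_singleton]
  have h : pp x = ⟨p, hp⟩ := PrimeSpectrum.ext hx
  have h1 := coheight_eq_ringKrullDim_quotient (⟨p, hp⟩ : PrimeSpectrum A)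
  have h2 : coheight (⟨p, hp⟩ : PrimeSpectrum A) = (pdim x + 1 : ℕ) := h ▸ coheight_pp_eq x
  rw [h2] at h1
  refine h1.symm.trans ?_
  push_cast
  rfl

end Groth.Agent.IntTh85.ProjSec
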