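import Groth.Agent.IntTh85.HilbPolyAux
import Groth.Agent.IntTh85.ProjSec
import Groth.Agent.PnCoh.Finite.ProjSpace
import Mathlib.Algebra.Module.LocalizedModule.Exact
import Mathlib.RingTheory.Length
import Mathlib.RingTheory.GradedAlgebra.Radical

/-!
# Hilbert polynomials of graded quotients of polynomial rings

`main`: every homogeneous ideal has a Hilbert polynomial; its degree is bounded by the dimension
and its coefficient in that degree is given by the associativity formula.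
-/

set_option autoImplicit false
set_option linter.style.haveILetI false

universe u

open MvPolynomial Order Module
open Groth.Agent.VarDim Groth.Agent.VarDim.ProjN Groth.Agent.IntTh85

namespace Groth.Agent.IntTh85.GrHilbPoly

variable {k : Type u} [Field k] {n : ℕ}

local notation "𝒜" => CohB1.polyGrading n k
local notation "A" => MvPolynomial (Fin (n + 1)) k

instance finite_piece (m : ℕ) : Module.Finite k (𝒜 m) :=
  Module.Finite.iff_fg.2 (homogeneousSubmodule_fg (Fin (n + 1)) k m)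

/-- The Hilbert function of the quotient. -/
noncomputable def H (J : Ideal A) (m : ℕ) : ℚ :=
  (finrank k ↥(𝒜 m) : ℚ) - finrank k ↥(Submodule.restrictScalars k J ⊓ 𝒜 m)

/-- A polynomial agreeing with the Hilbert function in large degrees. -/
def IsHilb (J : Ideal A) (P : Polynomial ℚ) : Prop :=
  ∃ m₀ : ℕ, ∀ m : ℕ, m₀ ≤ m → P.eval (m : ℚ) = H J m

theorem IsHilb.unique {J : Ideal A} {P Q : Polynomial ℚ} (hP : IsHilb J P) (hQ : IsHilb J Q) :
    P = Q := by
  obtain ⟨a, ha⟩ := hP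
  obtain ⟨b, hb⟩ := hQ
  exact HilbPolyAux.eq_of_eventually (max a b) fun m hm =>
    (ha m (le_of_max_le_left hm)).trans (hb m (le_of_max_le_right hm)).symm

open scoped Classical in
/-- The Hilbert polynomial. -/
noncomputable def hp (J : Ideal A) : Polynomial ℚ :=
  if h : ∃ P, IsHilb J P then h.choose else 0

theorem hp_eq {J : Ideal A} {P : Polynomial ℚ} (hP : IsHilb J P) : hp J = P := by
  classical
  rw [hp, dif_pos ⟨P, hP⟩]
  exact (Exists.choose_spec (⟨P, hP⟩ : ∃ P, IsHilb J P)).unique hP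

/-- The coefficient in top degree of the variety of a point. -/
noncomputable def cc (x : ProjectiveSpectrum 𝒜) : ℚ := (hp (pp x).asIdeal).coeff (pdim x)

theorem H_eq_zero_of_le {J : Ideal A} {m : ℕ} (h : 𝒜 m ≤ Submodule.restrictScalars k J) :
    H J m = 0 := by
  rw [H, inf_eq_right.2 h, sub_self]

theorem H_pos_of_notMem {J : Ideal A} {m : ℕ} {a : A} (ha : a ∈ 𝒜 m) (haJ : a ∉ J) : 0 < H J m := by
  have hlt : Submodule.restrictScalars k J ⊓ 𝒜 m < 𝒜 m :=
    lt_iff_le_not_ge.2 ⟨inf_le_right, fun h => haJ (h ha).1⟩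
  have := Submodule.finrank_lt_finrank_of_lt hlt
  rw [H, sub_pos]
  exact_mod_cast this

/-- The colon ideal. -/
noncomputable def col (J : Ideal A) (f : A) : Ideal A := Submodule.comap (LinearMap.mulLeft A f) J

theorem mem_col {J : Ideal A} {f a : A} : a ∈ col J f ↔ f * a ∈ J := Iff.rfl

theorem le_col (J : Ideal A) (f : A) : J ≤ col J f := fun _ ha => J.mul_mem_left f ha

theorem component_mul {f : A} {d : ℕ} (hf : f ∈ 𝒜 d) (a : A) (m : ℕ) :
    (DirectSum.decompose 𝒜 (f * a) (m + d) : A) = f * (DirectSum.decompose 𝒜 a m : A) := by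
  rw [DirectSum.coe_decompose_mul_of_left_mem_of_le 𝒜 hf (Nat.le_add_left d m), Nat.add_sub_cancel]

theorem isHomogeneous_col {J : Ideal A} (hJ : J.IsHomogeneous 𝒜) {f : A} {d : ℕ} (hf : f ∈ 𝒜 d) :
    (col J f).IsHomogeneous 𝒜 := fun i a ha => by
  have := hJ (i + d) ha
  show f * (DirectSum.decompose 𝒜 a i : A) ∈ J
  rw [← component_mul hf]
  exact this

theorem isHomogeneous_sup {J : Ideal A} (hJ : J.IsHomogeneous 𝒜) {f : A} {d : ℕ} (hf : f ∈ 𝒜 d) :
    (J ⊔ Ideal.span {f}).IsHomogeneous 𝒜 :=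
  hJ.sup (Ideal.homogeneous_span _ _ (by rintro a (rfl : a = f); exact ⟨d, hf⟩))

/-- Multiplication by a homogeneous element gives an exact sequence in each degree. -/
theorem H_split {J : Ideal A} (hJ : J.IsHomogeneous 𝒜) {f : A} {d : ℕ} (hf : f ∈ 𝒜 d) (hf0 : f ≠ 0)
    (m : ℕ) : H J (m + d) = H (J ⊔ Ideal.span {f}) (m + d) + H (col J f) m := by
  classical
  let μ : A →ₗ[k] A := LinearMap.mulLeft k f
  have hμ : Function.Injective μ := fun a b h => mul_left_cancel₀ hf0 h
  set N := Submodule.restrictScalars k J ⊓ 𝒜 (m + d) with hN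
  have hmap : (𝒜 m).map μ ≤ 𝒜 (m + d) := by
    rintro _ ⟨a, ha, rfl⟩
    have h := SetLike.mul_mem_graded hf ha
    rw [Nat.add_comm d m] at h
    exact h
  have h1 : Submodule.restrictScalars k (J ⊔ Ideal.span {f}) ⊓ 𝒜 (m + d) = N ⊔ (𝒜 m).map μ := by
    refine le_antisymm ?_ (sup_le ?_ ?_)
    · rintro x ⟨hx, hxd⟩
      obtain ⟨j, hj, z, hz, rfl⟩ := Submodule.mem_sup.1 hx
      obtain ⟨a, rfl⟩ := Ideal.mem_span_singleton'.1 hz
      have e : (DirectSum.decompose 𝒜 (j + a * f) (m + d) : A) = j + a * f :=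
        DirectSum.decompose_of_mem_same 𝒜 hxd
      rw [← e, DirectSum.decompose_add, DFinsupp.add_apply, Submodule.coe_add, mul_comm a,
        component_mul hf]
      exact Submodule.add_mem_sup ⟨hJ _ hj, SetLike.coe_mem _⟩ ⟨_, SetLike.coe_mem _, rfl⟩
    · exact fun x hx => ⟨Submodule.mem_sup_left hx.1, hx.2⟩
    · rintro _ ⟨a, ha, rfl⟩
      exact ⟨Submodule.mem_sup_right (Ideal.mem_span_singleton'.2 ⟨a, mul_comm a f⟩),
        hmap ⟨a, ha, rfl⟩⟩
  have h2 : N ⊓ (𝒜 m).map μ = (Submodule.restrictScalars k (col J f) ⊓ 𝒜 m).map μ := by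
    refine le_antisymm ?_ ?_
    · rintro _ ⟨hN, a, ha, rfl⟩
      exact ⟨a, ⟨hN.1, ha⟩, rfl⟩
    · rintro _ ⟨a, ⟨ha, ha'⟩, rfl⟩
      exact ⟨⟨ha, hmap ⟨a, ha', rfl⟩⟩, a, ha', rfl⟩
  haveI : Module.Finite k N := Submodule.finiteDimensional_of_le (inf_le_right : N ≤ 𝒜 (m + d))
  haveI : Module.Finite k ↥((𝒜 m).map μ) := Submodule.finiteDimensional_of_le hmap
  have h3 := Submodule.finrank_sup_add_finrank_inf_eq N ((𝒜 m).map μ)
  rw [← h1, h2, ← (Submodule.equivMapOfInjective μ hμ (𝒜 m)).finrank_eq,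
    ← (Submodule.equivMapOfInjective μ hμ (Submodule.restrictScalars k (col J f) ⊓ 𝒜 m)).finrank_eq] at h3
  have h3' := congrArg (fun x : ℕ => (x : ℚ)) h3
  push_cast at h3'
  simp only [H, ← hN]
  linarith

/-! ## Lengths -/

/-- The length at a prime. -/
noncomputable def lenP (J p : Ideal A) [p.IsPrime] : ℕ∞ :=
  Module.length (Localization.AtPrime p) (LocalizedModule p.primeCompl (A ⧸ J))

theorem lenP_congr (J : Ideal A) {p q : Ideal A} [p.IsPrime] [q.IsPrime] (h : p = q) :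
    lenP J p = lenP J q := by subst h; rfl

theorem lenP_split (J : Ideal A) (f : A) (p : Ideal A) [p.IsPrime] :
    lenP J p = lenP (col J f) p + lenP (J ⊔ Ideal.span {f}) p := by
  let g : (A ⧸ col J f) →ₗ[A] (A ⧸ J) := Submodule.mapQ (col J f) J (LinearMap.mulLeft A f) le_rfl
  let h : (A ⧸ J) →ₗ[A] (A ⧸ (J ⊔ Ideal.span {f})) := Submodule.factor le_sup_left
  have hg : Function.Injective g := by
    rw [injective_iff_map_eq_zero]
    intro x hx
    obtain ⟨a, rfl⟩ := Submodule.Quotient.mk_surjective _ x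
    change (Submodule.Quotient.mk (f * a) : A ⧸ J) = 0 at hx
    rw [Submodule.Quotient.mk_eq_zero] at hx
    exact (Submodule.Quotient.mk_eq_zero _).2 hx
  have hh : Function.Surjective h := Submodule.factor_surjective le_sup_left
  have hex : Function.Exact g h := by
    intro x
    obtain ⟨a, rfl⟩ := Submodule.Quotient.mk_surjective _ x
    constructor
    · intro ha
      have ha' : a ∈ J ⊔ Ideal.span {f} := (Submodule.Quotient.mk_eq_zero _).1 ha
      obtain ⟨j, hj, z, hz, rfl⟩ := Submodule.mem_sup.1 ha'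
      obtain ⟨b, rfl⟩ := Ideal.mem_span_singleton'.1 hz
      refine ⟨Submodule.Quotient.mk b, ?_⟩
      show (Submodule.Quotient.mk (f * b) : A ⧸ J) = _
      rw [Submodule.Quotient.eq]
      convert J.neg_mem hj using 1
      ring
    · rintro ⟨y, hy⟩
      obtain ⟨b, rfl⟩ := Submodule.Quotient.mk_surjective _ y
      rw [← hy]
      show (Submodule.Quotient.mk (f * b) : A ⧸ (J ⊔ Ideal.span {f})) = 0
      exact (Submodule.Quotient.mk_eq_zero _).2
        (Submodule.mem_sup_right (Ideal.mem_span_singleton'.2 ⟨b, mul_comm b f⟩))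
  exact Module.length_eq_add_of_exact _ _ (LocalizedModule.map_injective p.primeCompl g hg)
    (LocalizedModule.map_surjective p.primeCompl h hh) (LocalizedModule.map_exact p.primeCompl g h hex)

theorem lenP_eq_zero {J p : Ideal A} [p.IsPrime] (h : ¬ J ≤ p) : lenP J p = 0 := by
  obtain ⟨s, hsJ, hsp⟩ := SetLike.not_le_iff_exists.1 h
  refine Module.length_eq_zero_iff.2 (LocalizedModule.subsingleton_iff.2 fun x => ⟨s, hsp, ?_⟩)
  obtain ⟨a, rfl⟩ := Submodule.Quotient.mk_surjective _ x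
  rw [← Submodule.Quotient.mk_smul]
  exact (Submodule.Quotient.mk_eq_zero _).2 (J.mul_mem_right a hsJ)

theorem lenP_self (p : Ideal A) [p.IsPrime] : lenP p p = 1 := by
  refine Module.length_eq_one_iff.2 (isSimpleModule_iff_toSpanSingleton_surjective.2 ⟨?_, fun x hx y => ?_⟩)
  · by_contra hsub
    rw [not_nontrivial_iff_subsingleton, LocalizedModule.subsingleton_iff] at hsub
    obtain ⟨r, hr, hr1⟩ := hsub (Submodule.Quotient.mk 1)
    rw [← Submodule.Quotient.mk_smul, Submodule.Quotient.mk_eq_zero, smul_eq_mul, mul_one] at hr1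
    exact hr hr1
  induction x using LocalizedModule.induction_on with
  | h a s =>
    induction y using LocalizedModule.induction_on with
    | h b t =>
      obtain ⟨a, rfl⟩ := Submodule.Quotient.mk_surjective _ a
      obtain ⟨b, rfl⟩ := Submodule.Quotient.mk_surjective _ b
      have ha : a ∈ p.primeCompl := fun ha => hx (by
        rw [(Submodule.Quotient.mk_eq_zero _).2 ha, LocalizedModule.zero_mk])
      refine ⟨Localization.mk (b * s) (t * ⟨a, ha⟩), ?_⟩
      rw [LinearMap.toSpanSingleton_apply, LocalizedModule.mk_smul_mk, LocalizedModule.mk_eq]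
      refine ⟨1, ?_⟩
      simp only [one_smul, Submonoid.smul_def, Submonoid.coe_mul, ← Submodule.Quotient.mk_smul,
        smul_eq_mul]
      congr 1
      ring

theorem lenP_pos {J p : Ideal A} [p.IsPrime] (h : J ≤ p) : lenP J p ≠ 0 := by
  intro h0
  have := Module.length_le_of_surjective _
    (LocalizedModule.map_surjective p.primeCompl (Submodule.factor h) (Submodule.factor_surjective h))
  change lenP p p ≤ lenP J p at this
  rw [h0, lenP_self] at this
  exact absurd this (by simp)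

/-- The length at a point. -/
noncomputable def len (J : Ideal A) (x : ProjectiveSpectrum 𝒜) : ℕ∞ := lenP J (pp x).asIdeal

/-! ## The main induction -/

/-- All points have dimension at most `t`. -/
def Below (J : Ideal A) (t : ℕ) : Prop := ∀ x : ProjectiveSpectrum 𝒜, J ≤ (pp x).asIdeal → pdim x ≤ t

theorem Below.mono {J J' : Ideal A} {t : ℕ} (h : Below J t) (hle : J ≤ J') : Below J' t :=
  fun x hx => h x (hle.trans hx)

theorem below_n (J : Ideal A) : Below J n := fun x _ => pdim_le x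

theorem exists_finset_points {J : Ideal A} (hJ : J.IsHomogeneous 𝒜) {t : ℕ} (hB : Below J t) :
    ∃ S : Finset (ProjectiveSpectrum 𝒜), ∀ x, x ∈ S ↔ J ≤ (pp x).asIdeal ∧ pdim x = t := by
  have hfin : ({x : ProjectiveSpectrum 𝒜 | J ≤ (pp x).asIdeal ∧ pdim x = t}).Finite := by
    refine Set.Finite.of_finite_image (f := fun x => (pp x).asIdeal) ?_
      (fun x _ y _ h => pp_injective (PrimeSpectrum.ext h))
    refine (Ideal.finite_minimalPrimes_of_isNoetherianRing A J).subset ?_
    rintro _ ⟨x, ⟨hxJ, hxt⟩, rfl⟩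
    refine mem_minimalPrimes_of_minimal hJ hxJ fun d hd hdx => ?_
    by_contra hne
    have := pdim_strictAnti (lt_of_le_of_ne hdx hne)
    have := hB d hd
    omega
  exact ⟨hfin.toFinset, fun x => Set.Finite.mem_toFinset _⟩

open scoped Classical in
/-- The associativity formula in degree `t`. -/
def Assoc (J : Ideal A) (P : Polynomial ℚ) (t : ℕ) : Prop :=
  P.natDegree ≤ t ∧ ∀ S : Finset (ProjectiveSpectrum 𝒜),
    (∀ x, J ≤ (pp x).asIdeal → pdim x = t → x ∈ S) →
      ∃ ℓ : ProjectiveSpectrum 𝒜 → ℕ, (∀ x ∈ S, pdim x = t → (ℓ x : ℕ∞) = len J x) ∧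
        P.coeff t = ∑ x ∈ S.filter (fun x => pdim x = t), (ℓ x : ℚ) * cc x

/-- The inductive statement. -/
def Good (J : Ideal A) : Prop :=
  (∃ P, IsHilb J P ∧ ((∀ x : ProjectiveSpectrum 𝒜, ¬ J ≤ (pp x).asIdeal) → P = 0) ∧
      ∀ t, Below J t → Assoc J P t) ∧
    ∀ x : ProjectiveSpectrum 𝒜, (pp x).asIdeal = J → 0 < cc x

theorem good_of_empty {J : Ideal A} (hempty : ∀ x : ProjectiveSpectrum 𝒜, ¬ J ≤ (pp x).asIdeal)
    (hH : ∃ m₀, ∀ m ≥ m₀, H J m = 0) : Good J := by
  refine ⟨⟨0, ?_, fun _ => rfl, fun t _ => ⟨by simp, fun S _ => ⟨0, fun x _ _ => ?_, by simp⟩⟩⟩,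
    fun x hx => absurd hx.ge (hempty x)⟩
  · obtain ⟨m₀, h⟩ := hH
    exact ⟨m₀, fun m hm => by rw [h m hm, Polynomial.eval_zero]⟩
  · simp [len, lenP_eq_zero (hempty x)]

theorem exists_X_notMem (x : ProjectiveSpectrum 𝒜) : ∃ i, (X i : A) ∉ (pp x).asIdeal := by
  by_contra h
  push Not at h
  refine (pp_lt_vertexPoint x).not_ge ?_
  show vertex k n ≤ (pp x).asIdeal
  have hall : Ideal.span (Set.range (X : Fin (n + 1) → A)) ≤ (pp x).asIdeal :=
    Ideal.span_le.2 (by rintro _ ⟨j, rfl⟩; exact h j)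
  refine le_trans (fun a ha => ?_) hall
  rw [← Set.image_univ, mem_ideal_span_X_image]
  intro s hs
  by_contra h'
  push Not at h'
  have : s = 0 := Finsupp.ext fun j => h' j trivial
  subst this
  exact (mem_support_iff.1 hs) ha

set_option maxHeartbeats 800000 in
theorem good_point (x : ProjectiveSpectrum 𝒜)
    (ih : ∀ J' : Ideal A, (pp x).asIdeal < J' → J'.IsHomogeneous 𝒜 → Good J') :
    Good (pp x).asIdeal := by
  classical
  set J := (pp x).asIdeal with hJdef
  have hJ : J.IsHomogeneous 𝒜 := isHomogeneous_pp x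
  obtain ⟨i, hi⟩ := exists_X_notMem x
  have hXi : (X i : A) ∈ 𝒜 1 := isHomogeneous_X k i
  set J' := J ⊔ Ideal.span {(X i : A)} with hJ'
  have hlt : J < J' := lt_iff_le_not_ge.2
    ⟨le_sup_left, fun h => hi (h (Ideal.mem_sup_right (Ideal.subset_span rfl)))⟩
  have hJ'h : J'.IsHomogeneous 𝒜 := isHomogeneous_sup hJ hXi
  obtain ⟨⟨Q, ⟨mQ, hQ⟩, hQ0, hQt⟩, -⟩ := ih J' hlt hJ'h
  have hcol : col J (X i) = J := le_antisymm (fun a ha => ((pp x).2.mem_or_mem ha).resolve_left hi) (le_col _ _)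
  have hdiff : ∀ m, H J (m + 1) - H J m = H J' (m + 1) := fun m => by
    rw [H_split hJ hXi (X_ne_zero i) m, hcol]; ring
  have hstrict : ∀ z, J' ≤ (pp z).asIdeal → x < z := fun z hz =>
    lt_iff_le_not_ge.2 ⟨pp_le_pp.1 (le_sup_left.trans hz),
      fun h => hi (pp_le_pp.2 h (hz (Ideal.mem_sup_right (Ideal.subset_span rfl))))⟩
  -- degree and leading coefficient
  obtain ⟨P, hP, hdeg, hpos⟩ : ∃ P, IsHilb J P ∧ P.natDegree ≤ pdim x ∧ 0 < P.coeff (pdim x) := by
    rcases Nat.eq_zero_or_pos (pdim x) with h0 | hpos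
    · have hzero : Q = 0 := hQ0 fun z hz => by
        have := pdim_strictAnti (hstrict z hz)
        omega
      subst hzero
      refine ⟨Polynomial.C (H J mQ), ⟨mQ, fun m hm => ?_⟩, by simp, ?_⟩
      · rw [Polynomial.eval_C]
        induction m, hm using Nat.le_induction with
        | base => rfl
        | succ m hm ihm =>
          have h1 := hQ (m + 1) (by omega)
          rw [Polynomial.eval_zero] at h1
          have := hdiff m
          rw [← h1] at this
          linarith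
      · rw [h0, Polynomial.coeff_C_zero]
        refine H_pos_of_notMem (a := (X i : A) ^ mQ) ?_ fun h => hi ((pp x).2.mem_of_pow_mem _ h)
        simpa using SetLike.pow_mem_graded mQ hXi
    obtain ⟨s, hs⟩ := Nat.exists_eq_add_one.2 hpos
    have hB : Below J' s := fun z hz => by
      have := pdim_strictAnti (hstrict z hz)
      omega
    obtain ⟨hdQ, hQS⟩ := hQt s hB
    obtain ⟨S, hS⟩ := exists_finset_points hJ'h hB
    obtain ⟨ℓ, hℓ, hsum⟩ := hQS S fun z h1 h2 => (hS z).2 ⟨h1, h2⟩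
    have hc : ∀ z ∈ S, 0 < cc z := fun z hz =>
      (ih _ (hlt.trans_le ((hS z).1 hz).1) (isHomogeneous_pp z)).2 z rfl
    have hQpos : 0 < Q.coeff s := by
      obtain ⟨z, hxz, hzi, hzd⟩ := ProjSec.exists_le_of_pdim_pos x hpos i
      have hzJ : J' ≤ (pp z).asIdeal :=
        sup_le (pp_le_pp.2 hxz) ((Ideal.span_singleton_le_iff_mem _).2 hzi)
      have hzs : pdim z = s := by
        have := pdim_strictAnti (hstrict z hzJ)
        omega
      have hzS : z ∈ S := (hS z).2 ⟨hzJ, hzs⟩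
      rw [hsum]
      refine Finset.sum_pos' (fun y hy => ?_) ⟨z, Finset.mem_filter.2 ⟨hzS, hzs⟩, ?_⟩
      · exact mul_nonneg (Nat.cast_nonneg _) (hc y (Finset.mem_filter.1 hy).1).le
      · refine mul_pos ?_ (hc z hzS)
        have h1 : (ℓ z : ℕ∞) ≠ 0 := hℓ z hzS hzs ▸ lenP_pos hzJ
        exact_mod_cast Nat.pos_of_ne_zero (fun h => h1 (by simp [h]))
    obtain ⟨P, hP1, hP2, hP3⟩ := HilbPolyAux.exists_poly_of_diff (H J) Q s hdQ mQ (fun m hm => by
      rw [hdiff]
      have := hQ (m + 1) (by omega)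
      push_cast at this
      exact this.symm)
    refine ⟨P, ⟨mQ, hP3⟩, hs ▸ hP1, ?_⟩
    rw [hs, hP2]
    positivity
  have hcc : cc x = P.coeff (pdim x) := by rw [cc, hp_eq hP]
  refine ⟨⟨P, hP, fun h => absurd le_rfl (h x), fun t ht => ?_⟩, fun y hy => ?_⟩
  · have hxt : pdim x ≤ t := ht x le_rfl
    refine ⟨hdeg.trans hxt, fun S hS => ⟨fun y => if y = x then 1 else 0, fun y _ hyt => ?_, ?_⟩⟩
    · by_cases hyx : y = x
      · subst hyx; simp [len, J, lenP_self]
      · simp only [if_neg hyx]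
        rw [Nat.cast_zero, len, lenP_eq_zero fun h => ?_]
        have := pdim_strictAnti (lt_of_le_of_ne (pp_le_pp.1 h) (Ne.symm hyx))
        omega
    · rcases hxt.lt_or_eq with h | h
      · rw [Polynomial.coeff_eq_zero_of_natDegree_lt (hdeg.trans_lt h)]
        refine (Finset.sum_eq_zero fun y hy => ?_).symm
        have hyx : y ≠ x := fun e => by
          have := (Finset.mem_filter.1 hy).2
          rw [e] at this
          omega
        simp [hyx]
      · rw [Finset.sum_eq_single_of_mem x (Finset.mem_filter.2 ⟨hS x le_rfl h, h⟩)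
          (fun y _ hyx => by simp [hyx])]
        simp [hcc, ← h]
  · obtain rfl : y = x := pp_injective (PrimeSpectrum.ext hy)
    rw [hcc]; exact hpos

/-- Every homogeneous ideal is good. -/
theorem good (J : Ideal A) : J.IsHomogeneous 𝒜 → Good J := by
  induction J using (wellFounded_gt (α := Ideal A)).induction with
  | h J ih =>
    intro hJ
    classical
    by_cases htop : J = ⊤
    · subst htop
      exact good_of_empty (fun x h => x.isPrime.ne_top (top_le_iff.1 h))
        ⟨0, fun m _ => H_eq_zero_of_le fun a _ => Submodule.mem_top⟩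
    by_cases hprime : J.IsPrime
    · by_cases hv : J = vertex k n
      · subst hv
        refine good_of_empty (fun x h => (pp_lt_vertexPoint x).not_ge h)
          ⟨1, fun m hm => H_eq_zero_of_le fun a ha => ?_⟩
        show constantCoeff a = 0
        exact IsHomogeneous.coeff_eq_zero (φ := a) (n := m) ha (by simp; omega)
      obtain ⟨x, rfl⟩ := exists_point hprime hJ hv
      exact good_point x fun J' h => ih J' h
    obtain ⟨f, g, ⟨d, hf⟩, ⟨e, hg⟩, hfg, hfJ, hgJ⟩ : ∃ f g : A, SetLike.IsHomogeneousElem 𝒜 f ∧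
        SetLike.IsHomogeneousElem 𝒜 g ∧ f * g ∈ J ∧ f ∉ J ∧ g ∉ J := by
      by_contra! h
      exact hprime (hJ.isPrime_of_homogeneous_mem_or_mem htop fun {a b} ha hb hab =>
        or_iff_not_imp_left.2 (h a b ha hb hab))
    have hf0 : f ≠ 0 := fun h => hfJ (h ▸ zero_mem J)
    have hlt1 : J < J ⊔ Ideal.span {f} := lt_iff_le_not_ge.2
      ⟨le_sup_left, fun h => hfJ (h (Ideal.mem_sup_right (Ideal.subset_span rfl)))⟩
    have hlt2 : J < col J f := lt_iff_le_not_ge.2 ⟨le_col J f, fun h => hgJ (h hfg)⟩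
    obtain ⟨⟨P₁, ⟨a₁, hP₁⟩, hP₁0, hP₁t⟩, -⟩ := ih _ hlt1 (isHomogeneous_sup hJ hf)
    obtain ⟨⟨P₂, ⟨a₂, hP₂⟩, hP₂0, hP₂t⟩, -⟩ := ih _ hlt2 (isHomogeneous_col hJ hf)
    refine ⟨⟨P₁ + P₂.comp (Polynomial.X + Polynomial.C (-(d : ℚ))), ⟨max a₁ a₂ + d, fun m hm => ?_⟩,
      fun hempty => ?_, fun t ht => ?_⟩, fun x hx => absurd (hx ▸ (pp x).2) hprime⟩
    · obtain ⟨j, rfl⟩ := Nat.exists_eq_add_of_le' (show d ≤ m by omega)
      rw [Polynomial.eval_add, Polynomial.eval_comp, hP₁ _ (by omega), H_split hJ hf hf0]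
      simp only [Polynomial.eval_add, Polynomial.eval_X, Polynomial.eval_C]
      rw [show ((j + d : ℕ) : ℚ) + -(d : ℚ) = j by push_cast; ring, hP₂ _ (by omega)]
    · rw [hP₁0 fun x h => hempty x (le_sup_left.trans h),
        hP₂0 fun x h => hempty x ((le_col J f).trans h)]
      simp
    obtain ⟨hd₁, hS₁⟩ := hP₁t t (ht.mono le_sup_left)
    obtain ⟨hd₂, hS₂⟩ := hP₂t t (ht.mono (le_col J f))
    refine ⟨Polynomial.natDegree_add_le_of_degree_le hd₁
      ((HilbPolyAux.natDegree_comp_add _ _).le.trans hd₂), fun S hS => ?_⟩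
    obtain ⟨ℓ₁, hℓ₁, he₁⟩ := hS₁ S fun x h => hS x (le_sup_left.trans h)
    obtain ⟨ℓ₂, hℓ₂, he₂⟩ := hS₂ S fun x h => hS x ((le_col J f).trans h)
    refine ⟨ℓ₁ + ℓ₂, fun x hx hxt => ?_, ?_⟩
    · rw [Pi.add_apply, Nat.cast_add, hℓ₁ x hx hxt, hℓ₂ x hx hxt, len, len, len, lenP_split J f, add_comm]
    · rw [Polynomial.coeff_add, HilbPolyAux.coeff_comp_add hd₂, he₁, he₂, ← Finset.sum_add_distrib]
      exact Finset.sum_congr rfl fun x _ => by push_cast [Pi.add_apply]; ring

theorem cc_pos (x : ProjectiveSpectrum 𝒜) : 0 < cc x :=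
  (good _ (isHomogeneous_pp x)).2 x rfl

/-- Existence of the Hilbert polynomial with the associativity formula. -/
theorem main {J : Ideal A} (hJ : J.IsHomogeneous 𝒜) :
    ∃ P, IsHilb J P ∧ ((∀ x : ProjectiveSpectrum 𝒜, ¬ J ≤ (pp x).asIdeal) → P = 0) ∧
      ∀ t, Below J t → Assoc J P t :=
  (good J hJ).1

theorem hp_spec {J : Ideal A} (hJ : J.IsHomogeneous 𝒜) :
    IsHilb J (hp J) ∧ ((∀ x : ProjectiveSpectrum 𝒜, ¬ J ≤ (pp x).asIdeal) → hp J = 0) ∧
      ∀ t, Below J t → Assoc J (hp J) t := by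
  obtain ⟨P, h1, h2, h3⟩ := main hJ
  rw [hp_eq h1]
  exact ⟨h1, h2, h3⟩

end Groth.Agent.IntTh85.GrHilbPoly
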