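import Mathlib.Algebra.Polynomial.Taylor
import Mathlib.Algebra.Polynomial.HasseDeriv
import Mathlib.Algebra.Polynomial.Roots
import Mathlib.Algebra.Field.Rat
import Mathlib.Order.Interval.Set.Infinite
import Mathlib.Tactic.Ring
import Mathlib.Tactic.FieldSimp
import Mathlib.Tactic.LinearCombination

/-!
# Rational polynomials and differences
-/

set_option autoImplicit false

open Polynomial

namespace Groth.Agent.IntTh85.HilbPolyAux

theorem coeff_comp_add {P : ℚ[X]} {t : ℕ} (h : P.natDegree ≤ t) (a : ℚ) :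
    (P.comp (X + C a)).coeff t = P.coeff t := by
  rw [← taylor_apply, taylor_coeff]
  rcases h.lt_or_eq with h | h
  · rw [hasseDeriv_eq_zero_of_lt_natDegree _ _ h, eval_zero, coeff_eq_zero_of_natDegree_lt h]
  · subst h
    rw [hasseDeriv_natDegree_eq_C, eval_C]
    rfl

theorem natDegree_comp_add (P : ℚ[X]) (a : ℚ) : (P.comp (X + C a)).natDegree = P.natDegree := by
  rw [← taylor_apply, natDegree_taylor]

/-- The leading part of a difference. -/
theorem diff_spec {P : ℚ[X]} {s : ℕ} (h : P.natDegree ≤ s + 1) (a : ℚ) :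
    (P.comp (X + C a) - P).natDegree ≤ s ∧
      (P.comp (X + C a) - P).coeff s = (s + 1) * a * P.coeff (s + 1) := by
  have htop : ∀ j, s + 1 ≤ j → (P.comp (X + C a) - P).coeff j = 0 := fun j hj => by
    rw [coeff_sub, coeff_comp_add (h.trans hj), sub_self]
  refine ⟨natDegree_le_iff_coeff_eq_zero.2 fun j hj => htop j hj, ?_⟩
  let c := P.coeff (s + 1)
  let P' := P - C c * X ^ (s + 1)
  have hP' : P'.natDegree ≤ s := natDegree_le_iff_coeff_eq_zero.2 fun j hj => by
    simp only [P', coeff_sub, coeff_C_mul_X_pow]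
    by_cases hj' : j = s + 1
    · subst hj'; simp [c]
    · rw [if_neg hj', sub_zero]
      exact coeff_eq_zero_of_natDegree_lt (lt_of_le_of_lt h (by omega))
  have e : P.comp (X + C a) - P =
      (P'.comp (X + C a) - P') + C c * ((X + C a) ^ (s + 1) - X ^ (s + 1)) := by
    simp only [P', sub_comp, mul_comp, C_comp, pow_comp, X_comp]
    ring
  rw [e, coeff_add, coeff_sub, coeff_comp_add hP', sub_self, zero_add, coeff_C_mul, coeff_sub,
    coeff_X_add_C_pow, coeff_X_pow, if_neg (by omega), sub_zero, Nat.choose_succ_self_right,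
    show s + 1 - s = 1 by omega, pow_one]
  push_cast
  ring

/-- Every polynomial is a difference. -/
theorem exists_antidiff : ∀ (s : ℕ) (Q : ℚ[X]), Q.natDegree ≤ s →
    ∃ R : ℚ[X], R.natDegree ≤ s + 1 ∧ R.comp (X + C 1) - R = Q ∧
      R.coeff (s + 1) = Q.coeff s / (s + 1) := by
  intro s
  induction s with
  | zero =>
    intro Q hQ
    obtain ⟨c, rfl⟩ := natDegree_eq_zero.1 (Nat.le_zero.1 hQ)
    refine ⟨C c * X, (natDegree_C_mul_le _ _).trans natDegree_X_le, ?_, ?_⟩
    · simp only [mul_comp, C_comp, X_comp]; rw [map_one]; ring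
    · simp
  | succ s ih =>
    intro Q hQ
    let c : ℚ := Q.coeff (s + 1) / ((s + 1 : ℕ) + 1)
    let D : ℚ[X] := C c * X ^ (s + 1 + 1)
    have hD : D.natDegree ≤ s + 1 + 1 := natDegree_C_mul_X_pow_le _ _
    obtain ⟨h1, h2⟩ := diff_spec hD 1
    let Q' := Q - (D.comp (X + C 1) - D)
    have hQ' : Q'.natDegree ≤ s := natDegree_le_iff_coeff_eq_zero.2 fun j hj => by
      rcases Nat.lt_or_eq_of_le (Nat.succ_le_of_lt hj) with hj' | hj'
      · rw [coeff_sub, coeff_eq_zero_of_natDegree_lt (lt_of_le_of_lt hQ hj'),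
          coeff_eq_zero_of_natDegree_lt (lt_of_le_of_lt h1 hj'), sub_zero]
      · subst hj'
        rw [coeff_sub, h2]
        simp only [D, c, coeff_C_mul_X_pow, if_true, mul_one]
        field_simp
        ring
    obtain ⟨R, hR1, hR2, -⟩ := ih Q' hQ'
    refine ⟨R + D, natDegree_add_le_of_degree_le (hR1.trans (by omega)) hD, ?_, ?_⟩
    · rw [add_comp, add_sub_add_comm, hR2]
      simp only [Q']
      ring
    · rw [coeff_add, coeff_eq_zero_of_natDegree_lt (lt_of_le_of_lt hR1 (by omega)), zero_add]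
      simp only [D, c, coeff_C_mul_X_pow, if_true]

/-- A function with polynomial differences is a polynomial. -/
theorem exists_poly_of_diff (H : ℕ → ℚ) (Q : ℚ[X]) (s : ℕ) (hQ : Q.natDegree ≤ s) (m₀ : ℕ)
    (h : ∀ m ≥ m₀, H (m + 1) - H m = Q.eval ((m : ℚ) + 1)) :
    ∃ P : ℚ[X], P.natDegree ≤ s + 1 ∧ P.coeff (s + 1) = Q.coeff s / (s + 1) ∧
      ∀ m ≥ m₀, P.eval (m : ℚ) = H m := by
  obtain ⟨R, hR1, hR2, hR3⟩ := exists_antidiff s (Q.comp (X + C 1))
    ((natDegree_comp_add Q 1).le.trans hQ)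
  refine ⟨R + C (H m₀ - R.eval (m₀ : ℚ)), ?_, ?_, ?_⟩
  · rw [natDegree_add_C]; exact hR1
  · rw [coeff_add, coeff_C_ne_zero (Nat.succ_ne_zero s), add_zero, hR3, coeff_comp_add hQ]
  · intro m hm
    induction m, hm using Nat.le_induction with
    | base => simp
    | succ m hm ih =>
      have e := congrArg (fun p => p.eval (m : ℚ)) hR2
      simp only [eval_sub, eval_comp, eval_add, eval_X, eval_C] at e
      have := h m hm
      simp only [eval_add, eval_C] at ih ⊢
      push_cast
      linear_combination e - this + ih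

/-- Polynomials agreeing at all large integers are equal. -/
theorem eq_of_eventually {P Q : ℚ[X]} (m₀ : ℕ) (h : ∀ m ≥ m₀, P.eval (m : ℚ) = Q.eval (m : ℚ)) :
    P = Q := by
  refine eq_of_infinite_eval_eq P Q (Set.Infinite.mono (s := (fun m : ℕ => (m : ℚ)) '' Set.Ici m₀) ?_
    ((Set.Ici_infinite m₀).image (fun a _ b _ hab => by exact_mod_cast hab)))
  rintro _ ⟨m, hm, rfl⟩
  exact h m hm

end Groth.Agent.IntTh85.HilbPolyAux
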