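import Groth.Agent.GeomField.Algebra
import Groth.Agent.GeomField.Components
import Groth.Agent.S12708
import Mathlib.FieldTheory.PurelyInseparable.Basic
import Mathlib.RingTheory.Localization.Module
import Mathlib.RingTheory.Localization.BaseChange
import Mathlib.RingTheory.KrullDimension.Zero
import Mathlib.RingTheory.AlgebraicIndependent.Adjoin
import Mathlib.RingTheory.AlgebraicIndependent.TranscendenceBasis

/-!
# Multiplicities in base changes of fields are powers of the characteristic exponent
-/

set_option autoImplicit false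
set_option linter.style.haveILetI false

open TensorProduct

namespace Groth.Agent.IntTh85.InsepLength

universe u

/-- Lengths of local rings are invariant under ring isomorphisms. -/
theorem length_localization_of_ringEquiv {R S : Type u} [CommRing R] [CommRing S] (e : R ≃+* S)
    (q : Ideal S) [q.IsPrime] :
    Module.length (Localization.AtPrime (q.comap e.toRingHom)) (Localization.AtPrime (q.comap e.toRingHom)) =
      Module.length (Localization.AtPrime q) (Localization.AtPrime q) := by
  let E : Localization.AtPrime (q.comap e.toRingHom) ≃+* Localization.AtPrime q :=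
    IsLocalization.ringEquivOfRingEquiv (M := (q.comap e.toRingHom).primeCompl) (T := q.primeCompl)
      (S := Localization.AtPrime (q.comap e.toRingHom)) (Q := Localization.AtPrime q) e (by
        ext y
        simp only [Submonoid.mem_map]
        exact ⟨fun ⟨x, hx, hxy⟩ => hxy ▸ hx, fun hy => ⟨e.symm y, fun h => hy (by
          have h' := Ideal.mem_comap.1 (SetLike.mem_coe.1 h)
          simpa using h'), e.apply_symm_apply y⟩⟩)
  apply WithBot.coe_injective
  rw [Module.coe_length, Module.coe_length]
  exact Order.krullDim_eq_of_orderIso E.idealComapOrderIso.symm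

/-- The purely inseparable step. -/
theorem exists_pow_eq_length {E L : Type u} [Field E] [Field L] [Algebra E L] [FiniteDimensional E L]
    [IsPurelyInseparable E L] (p : ℕ) [ExpChar E p] (T : Type u) [CommRing T] [Algebra E T] [IsReduced T]
    (q : Ideal (T ⊗[E] L)) [q.IsPrime] (hq : q ∈ minimalPrimes (T ⊗[E] L)) :
    ∃ n : ℕ, Module.length (Localization.AtPrime q) (Localization.AtPrime q) = (p ^ n : ℕ) := by
  classical
  let A := T ⊗[E] L
  have hinj : Function.Injective (algebraMap T A) :=
    Algebra.TensorProduct.includeLeft_injective (S := T) (algebraMap E L).injective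
  haveI : Nontrivial A := ⟨⟨0, 1, fun h => Ideal.IsPrime.ne_top ‹q.IsPrime› ((Ideal.eq_top_iff_one _).2 (h ▸ q.zero_mem))⟩⟩
  haveI : ExpChar A p := expChar_of_injective_algebraMap (algebraMap E A).injective p
  have hrad : ∀ x : A, ∃ n, x ^ p ^ n ∈ (algebraMap T A).range := fun x => by
    induction x using TensorProduct.induction_on with
    | zero => exact ⟨0, 0, by simp⟩
    | tmul t l =>
      obtain ⟨n, c, hc⟩ := IsPurelyInseparable.pow_mem E p l
      exact ⟨n, t ^ p ^ n * algebraMap E T c, by
        rw [Algebra.TensorProduct.tmul_pow, ← hc, Algebra.TensorProduct.algebraMap_apply,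
          Algebra.algebraMap_self, RingHom.id_apply, mul_comm, ← Algebra.smul_def,
          Algebra.algebraMap_eq_smul_one, TensorProduct.smul_tmul]⟩
    | add x y hx hy =>
      obtain ⟨m, a, ha⟩ := hx
      obtain ⟨n, b, hb⟩ := hy
      refine ⟨m + n, a ^ p ^ n + b ^ p ^ m, ?_⟩
      rw [add_pow_expChar_pow, map_add, map_pow, map_pow, ha, hb, ← pow_mul, ← pow_mul, ← pow_add,
        ← pow_add, add_comm n m]
  let q0 : Ideal T := q.comap (algebraMap T A)
  haveI : Algebra.IsIntegral T A := Algebra.IsIntegral.of_finite T A
  have hq0 : q0 ∈ minimalPrimes T := by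
    refine ⟨⟨inferInstance, bot_le⟩, fun r hr hle => ?_⟩
    haveI := hr.1
    obtain ⟨r', -, hr', hr'r⟩ := Ideal.exists_ideal_over_prime_of_isIntegral (S := A) r ⊥
      (by rw [← RingHom.ker_eq_comap_bot, (RingHom.injective_iff_ker_eq_bot _).1 hinj]; exact bot_le)
    have h1 : r' ≤ q := fun x hx => by
      obtain ⟨n, t, ht⟩ := hrad x
      refine ‹q.IsPrime›.mem_of_pow_mem (p ^ n) (ht ▸ hle (hr'r.le ?_))
      show algebraMap T A t ∈ r'
      rw [ht]
      exact Ideal.pow_mem_of_mem r' hx _ (pow_pos (expChar_pos A p) n)
    exact fun x hx => hr'r.le ((hq.2 ⟨hr', bot_le⟩ h1) hx)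
  let T0 := Localization.AtPrime q0
  let A1 := Localization.AtPrime q
  haveI : Ring.KrullDimLE 0 T0 := Ring.KrullDimLE.of_isLocalization q0 hq0 T0
  haveI : IsReduced T0 := inferInstance
  letI : Field T0 := Ring.KrullDimLE.isField_of_isReduced.toField
  letI algT0 : Algebra T0 A1 := (Localization.localRingHom q0 q (algebraMap T A) rfl).toAlgebra
  haveI : IsScalarTower T T0 A1 := IsScalarTower.of_algebraMap_eq fun t => by
    rw [IsScalarTower.algebraMap_apply T A A1]
    exact (Localization.localRingHom_to_map q0 q (algebraMap T A) rfl t).symm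
  haveI hloc : IsLocalization (Algebra.algebraMapSubmonoid A q0.primeCompl) A1 :=
    { map_units := by
        rintro ⟨_, t, ht, rfl⟩
        exact IsLocalization.map_units (M := q.primeCompl) A1 ⟨algebraMap T A t, ht⟩
      surj := fun z => by
        obtain ⟨⟨a, s⟩, h⟩ := IsLocalization.surj q.primeCompl z
        obtain ⟨n, t, ht⟩ := hrad s.1
        have ht' : t ∈ q0.primeCompl := fun h' =>
          s.2 (‹q.IsPrime›.mem_of_pow_mem (p ^ n) (ht ▸ h'))
        refine ⟨⟨a * s.1 ^ (p ^ n - 1), ⟨algebraMap T A t, t, ht', rfl⟩⟩, ?_⟩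
        show z * algebraMap A A1 (algebraMap T A t) = algebraMap A A1 (a * s.1 ^ (p ^ n - 1))
        rw [ht, map_mul, map_pow, map_pow, ← h, mul_assoc, ← pow_succ',
          Nat.sub_add_cancel (pow_pos (expChar_pos A p) n)]
      exists_of_eq := fun {x y} h => by
        obtain ⟨s, hs⟩ := IsLocalization.exists_of_eq (M := q.primeCompl) h
        obtain ⟨n, t, ht⟩ := hrad s.1
        have ht' : t ∈ q0.primeCompl := fun h' =>
          s.2 (‹q.IsPrime›.mem_of_pow_mem (p ^ n) (ht ▸ h'))
        refine ⟨⟨algebraMap T A t, t, ht', rfl⟩, ?_⟩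
        show algebraMap T A t * x = algebraMap T A t * y
        rw [ht, ← Nat.sub_add_cancel (pow_pos (expChar_pos A p) n), pow_succ, mul_assoc, mul_assoc, hs] }
  haveI : IsLocalizedModule q0.primeCompl (IsScalarTower.toAlgHom T A A1).toLinearMap :=
    isLocalizedModule_iff_isLocalization.mpr hloc
  let b := (Algebra.TensorProduct.basis T (Module.finBasis E L)).ofIsLocalizedModule T0 q0.primeCompl
    (IsScalarTower.toAlgHom T A A1).toLinearMap
  haveI : Module.Finite T0 A1 := Module.Finite.of_basis b
  have hdim : Module.finrank T0 A1 = Module.finrank E L := by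
    rw [Module.finrank_eq_card_basis b, Fintype.card_fin]
  haveI : Module.Finite T0 (IsLocalRing.ResidueField A1) :=
    Module.Finite.of_surjective (IsScalarTower.toAlgHom T0 A1 (IsLocalRing.ResidueField A1)).toLinearMap
      IsLocalRing.residue_surjective
  have key := S12708.result (Λ := T0) (k := IsLocalRing.ResidueField A1) A1 IsLocalRing.residue_surjective A1
  rw [Module.length_eq_finrank, Module.length_eq_finrank, hdim] at key
  obtain ⟨a, ha⟩ := IsPurelyInseparable.finrank_eq_pow E L p
  rw [ha] at key
  have hpos : 0 < p ^ a := pow_pos (expChar_pos A p) a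
  have hne : Module.length A1 A1 ≠ ⊤ := fun h => by
    rw [h] at key
    rcases Nat.eq_zero_or_pos (Module.finrank T0 (IsLocalRing.ResidueField A1)) with h0 | h0
    · rw [h0, Nat.cast_zero, zero_mul] at key
      exact hpos.ne (by exact_mod_cast key)
    · rw [ENat.mul_top (by exact_mod_cast h0.ne')] at key
      exact ENat.natCast_ne_top _ key.symm
  obtain ⟨l, hl⟩ := ENat.ne_top_iff_exists.1 hne
  rw [← hl] at key
  have hdvd : l ∣ p ^ a := ⟨Module.finrank T0 (IsLocalRing.ResidueField A1), by
    rw [mul_comm]; exact_mod_cast key.symm⟩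
  obtain ⟨n, hn⟩ : ∃ n, l = p ^ n := by
    rcases ‹ExpChar E p› with _ | hp
    · exact ⟨0, by simpa using hdvd⟩
    · obtain ⟨i, -, hi⟩ := (Nat.dvd_prime_pow hp).1 hdvd
      exact ⟨i, hi⟩
  exact ⟨n, by rw [← hl, hn]⟩

/-- Multiplicities of the base change of a finitely generated field extension. -/
theorem main (k K L : Type u) [Field k] [Field K] [Field L] [Algebra k K] [Algebra k L]
    (hL : (⊤ : IntermediateField k L).FG) (p : ℕ) [ExpChar k p] (q : Ideal (K ⊗[k] L)) [q.IsPrime]
    (hq : q ∈ minimalPrimes (K ⊗[k] L)) :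
    ∃ n : ℕ, Module.length (Localization.AtPrime q) (Localization.AtPrime q) = (p ^ n : ℕ) := by
  classical
  obtain ⟨s, hs⟩ := exists_isTranscendenceBasis k L
  let P := IntermediateField.adjoin k (s : Set L)
  have hr : IntermediateField.adjoin k (Set.range ((↑) : s → L)) = P := by
    rw [Subtype.range_coe]
  haveI : Algebra.IsAlgebraic P L := by
    have := hs.isAlgebraic_field
    rwa [hr] at this
  haveI : FiniteDimensional P L := by
    obtain ⟨G, hG⟩ := hL
    have htop : IntermediateField.adjoin P (G : Set L) = ⊤ := by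
      apply IntermediateField.restrictScalars_injective k
      rw [IntermediateField.adjoin_adjoin_left, IntermediateField.restrictScalars_top, eq_top_iff, ← hG]
      exact IntermediateField.adjoin.mono _ _ _ Set.subset_union_right
    haveI : FiniteDimensional P (IntermediateField.adjoin P (G : Set L)) :=
      IntermediateField.finiteDimensional_adjoin fun x _ => (Algebra.IsAlgebraic.isAlgebraic x).isIntegral
    rw [htop] at this
    exact IntermediateField.topEquiv.toLinearEquiv.finiteDimensional
  let E := separableClosure P L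
  -- `E ⊗ K` is reduced
  haveI : IsReduced (P ⊗[k] K) := by
    haveI := GeomField.isDomain_tensor_fractionRing (k := k) K s
    let e : FractionRing (MvPolynomial s k) ≃ₐ[k] P :=
      (hs.1.aevalEquivField).trans (IntermediateField.equivOfEq hr)
    exact isReduced_of_injective (Algebra.TensorProduct.congr e.symm (AlgEquiv.refl (R := k) (A₁ := K))).toRingEquiv
      (AlgEquiv.injective _)
  haveI : IsScalarTower k E L := IsScalarTower.of_algebraMap_eq fun _ => rfl
  haveI : IsReduced (E ⊗[k] K) := GeomField.isReduced_tensor_of_separable_tower K P E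
  let e : (E ⊗[k] K) ⊗[E] L ≃+* K ⊗[k] L :=
    ((Algebra.TensorProduct.comm E (E ⊗[k] K) L).toRingEquiv.trans
      (Algebra.TensorProduct.cancelBaseChange k E L L K).toRingEquiv).trans
      (Algebra.TensorProduct.comm k L K).toRingEquiv
  rw [← length_localization_of_ringEquiv (R := (E ⊗[k] K) ⊗[E] L) (S := K ⊗[k] L) e q]
  haveI : ExpChar E p := expChar_of_injective_algebraMap (algebraMap k E).injective p
  refine exists_pow_eq_length p (E ⊗[k] K) _ ⟨⟨inferInstance, bot_le⟩, fun r hr hle => ?_⟩
  have h1 : q ≤ r.comap e.symm.toRingHom := hq.2 ⟨hr.1.comap _, bot_le⟩ fun x hx => by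
    have := hle hx
    rw [Ideal.mem_comap] at this
    simpa using this
  intro x hx
  have := h1 hx
  rw [Ideal.mem_comap] at this
  simpa using this

end Groth.Agent.IntTh85.InsepLength
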