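import Mathlib.RingTheory.Flat.Basic
import Mathlib.LinearAlgebra.TensorProduct.RightExactness
import Mathlib.RingTheory.TensorProduct.Maps
import Mathlib.RingTheory.LocalRing.ResidueField.Ideal

/-!
# Invariants tensored with a module

For a finite group acting on an `R`-algebra `B` with invariants `ι : B₀ → B`, we compare `B₀ ⊗ N` with
the invariants of `B ⊗ N`.
-/

set_option autoImplicit false
set_option linter.style.haveILetI false

universe u

open scoped TensorProduct

namespace Groth.Agent.IntTh85.InvAlg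

variable {R : Type u} [CommRing R] {K : Type*} {B B₀ : Type u} [CommRing B] [CommRing B₀]
  [Algebra R B] [Algebra R B₀] {ρ : K → B →ₐ[R] B} {ι : B₀ →ₐ[R] B}

/-- `ι` identifies `B₀` with invariants of `ρ`; the action is recorded only through the property used
in averaging. -/
structure IsInv (ρ : K → B →ₐ[R] B) (ι : B₀ →ₐ[R] B) : Prop where
  inj : Function.Injective ι
  fixed : ∀ k b, ρ k (ι b) = ι b
  exists_eq : ∀ b, (∀ k, ρ k b = b) → b ∈ Set.range ι
  perm : ∀ k, ∃ e : K ≃ K, ∀ l b, ρ k (ρ l b) = ρ (e l) b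

variable (h : IsInv ρ ι)

include h in
theorem fixed_rTensor (N : Type u) [AddCommGroup N] [Module R N] (k : K) (v : B₀ ⊗[R] N) :
    (ρ k).toLinearMap.rTensor N (ι.toLinearMap.rTensor N v) = ι.toLinearMap.rTensor N v := by
  rw [← LinearMap.rTensor_comp_apply]
  congr 2
  exact LinearMap.ext (h.fixed k)

include h in
theorem exists_reynolds [Fintype K] :
    ∃ r : B →ₗ[R] B₀, (∀ b, ι (r b) = ∑ k, ρ k b) ∧ ∀ b₀, r (ι b₀) = Fintype.card K • b₀ := by
  have hmem : ∀ b, ∑ k, ρ k b ∈ LinearMap.range ι.toLinearMap := fun b => by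
    refine LinearMap.mem_range.2 (h.exists_eq _ fun l => ?_)
    obtain ⟨e, he⟩ := h.perm l
    rw [map_sum]
    simp only [he]
    exact Equiv.sum_comp e fun k => ρ k b
  let r : B →ₗ[R] B₀ := (LinearEquiv.ofInjective ι.toLinearMap h.inj).symm.toLinearMap.comp
    ((∑ k, (ρ k).toLinearMap).codRestrict (LinearMap.range ι.toLinearMap) fun b => by
      simpa using hmem b)
  have hr : ∀ b, ι (r b) = ∑ k, ρ k b := fun b => by
    show ι.toLinearMap _ = _
    simp only [r, LinearMap.comp_apply, LinearEquiv.coe_coe]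
    refine Eq.trans (congrArg Subtype.val
      ((LinearEquiv.ofInjective ι.toLinearMap h.inj).apply_symm_apply _)) ?_
    simp
  refine ⟨r, hr, fun b₀ => h.inj ?_⟩
  rw [hr, map_nsmul, Finset.sum_congr rfl fun k _ => h.fixed k b₀, Finset.sum_const, Finset.card_univ]

include h in
theorem injective_of_average [Finite K] (N : Type u) [AddCommGroup N] [Module R N]
    (hN : ∀ n : N, Nat.card K • n = 0 → n = 0) (hN' : ∀ n : N, ∃ n', n = Nat.card K • n') :
    Function.Injective (ι.toLinearMap.rTensor N) := by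
  cases nonempty_fintype K
  obtain ⟨r, -, hr⟩ := exists_reynolds h
  let e : N ≃ₗ[R] N := LinearEquiv.ofBijective (Nat.card K • LinearMap.id (R := R) (M := N))
    ⟨(injective_iff_map_eq_zero _).2 fun n hn => hN n (by simpa using hn),
      fun n => let ⟨n', hn'⟩ := hN' n; ⟨n', by simp [hn']⟩⟩
  have key : ∀ v : B₀ ⊗[R] N, r.rTensor N (ι.toLinearMap.rTensor N v) = e.toLinearMap.lTensor B₀ v :=
    fun v => by
    induction v using TensorProduct.induction_on with
    | zero => simp
    | add a b ha hb => simp only [map_add, ha, hb]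
    | tmul b₀ n =>
      simp only [LinearMap.rTensor_tmul, AlgHom.toLinearMap_apply, hr, LinearMap.lTensor_tmul,
        LinearEquiv.coe_coe, e, LinearEquiv.ofBijective_apply, LinearMap.smul_apply, LinearMap.id_apply,
        TensorProduct.tmul_smul, Nat.card_eq_fintype_card]
      exact map_nsmul (LinearMap.flip (TensorProduct.mk R B₀ N) n) _ _
  exact fun v w hvw => (e.lTensor B₀).injective ((key v).symm.trans ((congrArg _ hvw).trans (key w)))

include h in
theorem range_of_average [Finite K] (N : Type u) [AddCommGroup N] [Module R N]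
    (hN : ∀ n : N, Nat.card K • n = 0 → n = 0) (hN' : ∀ n : N, ∃ n', n = Nat.card K • n')
    (z : B ⊗[R] N) (hz : ∀ k, (ρ k).toLinearMap.rTensor N z = z) :
    z ∈ Set.range (ι.toLinearMap.rTensor N) := by
  cases nonempty_fintype K
  obtain ⟨r, hr, -⟩ := exists_reynolds h
  let e : N ≃ₗ[R] N := LinearEquiv.ofBijective (Nat.card K • LinearMap.id (R := R) (M := N))
    ⟨(injective_iff_map_eq_zero _).2 fun n hn => hN n (by simpa using hn),
      fun n => let ⟨n', hn'⟩ := hN' n; ⟨n', by simp [hn']⟩⟩
  have hcomp : ι.toLinearMap.comp r = ∑ k, (ρ k).toLinearMap := LinearMap.ext fun b => by simp [hr]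
  refine ⟨r.rTensor N ((e.symm.toLinearMap).lTensor B z), ?_⟩
  rw [← LinearMap.rTensor_comp_apply, hcomp, ← LinearMap.comp_apply]
  have : ∀ w : B ⊗[R] N, (∑ k, (ρ k).toLinearMap).rTensor N (e.symm.toLinearMap.lTensor B w) =
      ∑ k, e.symm.toLinearMap.lTensor B ((ρ k).toLinearMap.rTensor N w) := fun w => by
    induction w using TensorProduct.induction_on with
    | zero => simp
    | add a b ha hb => simp only [map_add, ha, hb, Finset.sum_add_distrib]
    | tmul b n => simp [TensorProduct.sum_tmul]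
  rw [LinearMap.comp_apply, this]
  simp only [hz, Finset.sum_const, Finset.card_univ, ← Nat.card_eq_fintype_card]
  have h2 : ∀ w : B ⊗[R] N, Nat.card K • w = e.toLinearMap.lTensor B w := fun w => by
    induction w using TensorProduct.induction_on with
    | zero => simp
    | add a b ha hb => simp only [map_add, smul_add, ha, hb]
    | tmul b n => simp [e, TensorProduct.tmul_smul]
  rw [h2, ← LinearMap.lTensor_comp_apply]
  simp

include h in
theorem injective_of_flat_aux [Module.Flat R B] {N₁ F N : Type u} [AddCommGroup N₁] [Module R N₁]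
    [AddCommGroup F] [Module R F] [Module.Flat R F] [AddCommGroup N] [Module R N]
    (j : N₁ →ₗ[R] F) (π : F →ₗ[R] N) (hj : Function.Injective j) (hexact : Function.Exact j π)
    (hπ : Function.Surjective π)
    (hsurj : ∀ z : B ⊗[R] N₁, (∀ k, (ρ k).toLinearMap.rTensor N₁ z = z) →
      z ∈ Set.range (ι.toLinearMap.rTensor N₁))
    (z : B₀ ⊗[R] N) (hz : ι.toLinearMap.rTensor N z = 0) : z = 0 := by
  obtain ⟨y, rfl⟩ := LinearMap.lTensor_surjective B₀ hπ z
  have hcomm : ∀ w : B₀ ⊗[R] F, ι.toLinearMap.rTensor N (π.lTensor B₀ w) =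
      π.lTensor B (ι.toLinearMap.rTensor F w) := fun w => by
    rw [← LinearMap.comp_apply, LinearMap.rTensor_comp_lTensor, ← LinearMap.lTensor_comp_rTensor,
      LinearMap.comp_apply]
  have hcomm' : ∀ k (w : B ⊗[R] N₁), j.lTensor B ((ρ k).toLinearMap.rTensor N₁ w) =
      (ρ k).toLinearMap.rTensor F (j.lTensor B w) := fun k w => by
    rw [← LinearMap.comp_apply, LinearMap.lTensor_comp_rTensor, ← LinearMap.rTensor_comp_lTensor,
      LinearMap.comp_apply]
  obtain ⟨v, hv⟩ := (lTensor_exact B hexact hπ _).1 ((hcomm y).symm.trans hz)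
  have hjinj : Function.Injective (j.lTensor B) :=
    Module.Flat.lTensor_preserves_injective_linearMap j hj
  obtain ⟨v', rfl⟩ := hsurj v fun k => hjinj (by rw [hcomm', hv, fixed_rTensor h])
  have hι : Function.Injective (ι.toLinearMap.rTensor F) :=
    Module.Flat.rTensor_preserves_injective_linearMap ι.toLinearMap h.inj
  have : y = j.lTensor B₀ v' := hι (by
    rw [← hv, ← LinearMap.comp_apply, LinearMap.lTensor_comp_rTensor,
      ← LinearMap.rTensor_comp_lTensor, LinearMap.comp_apply])
  rw [this, ← LinearMap.lTensor_comp_apply, hexact.linearMap_comp_eq_zero,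
    LinearMap.lTensor_zero, LinearMap.zero_apply]

include h in
/-- Over a flat algebra, surjectivity for all modules gives injectivity. -/
theorem injective_of_flat [Module.Flat R B]
    (hsurj : ∀ (M : Type u) [AddCommGroup M] [Module R M] (z : B ⊗[R] M),
      (∀ k, (ρ k).toLinearMap.rTensor M z = z) → z ∈ Set.range (ι.toLinearMap.rTensor M))
    (N : Type u) [AddCommGroup N] [Module R N] :
    Function.Injective (ι.toLinearMap.rTensor N) := by
  refine (injective_iff_map_eq_zero _).2 fun z hz => ?_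
  let π : (N →₀ R) →ₗ[R] N := Finsupp.linearCombination R id
  let K₁ : Submodule R (N →₀ R) := LinearMap.ker π
  have hex : Function.Exact K₁.subtype π := LinearMap.exact_subtype_ker_map π
  refine @injective_of_flat_aux R _ K B B₀ _ _ _ _ ρ ι h _ ↥K₁ (N →₀ R) N _ _ _ _ _ _ _ K₁.subtype π
    Subtype.val_injective hex (fun n => ⟨Finsupp.single n 1, by simp [π]⟩) (hsurj _) z hz

/-- The invariants of a product action on a tensor product. -/
theorem product {K' : Type*} {B' B₀' : Type u} [CommRing B'] [CommRing B₀'] [Algebra R B'] [Algebra R B₀']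
    {ρ' : K' → B' →ₐ[R] B'} {ι' : B₀' →ₐ[R] B'}
    (hinj : Function.Injective (ι.toLinearMap.rTensor B₀'))
    (hsurj : ∀ z : B ⊗[R] B₀', (∀ k, (ρ k).toLinearMap.rTensor B₀' z = z) →
      z ∈ Set.range (ι.toLinearMap.rTensor B₀'))
    (hinj' : Function.Injective (ι'.toLinearMap.rTensor B))
    (hsurj' : ∀ z : B' ⊗[R] B, (∀ k, (ρ' k).toLinearMap.rTensor B z = z) →
      z ∈ Set.range (ι'.toLinearMap.rTensor B)) :
    Function.Injective (TensorProduct.map ι.toLinearMap ι'.toLinearMap) ∧
    ∀ z : B ⊗[R] B', (∀ k, (ρ k).toLinearMap.rTensor B' z = z) →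
      (∀ k, (ρ' k).toLinearMap.lTensor B z = z) →
      z ∈ Set.range (TensorProduct.map ι.toLinearMap ι'.toLinearMap) := by
  have hcomm : ∀ (M M' : Type u) [AddCommGroup M] [Module R M] [AddCommGroup M'] [Module R M']
      (g : M →ₗ[R] M') (w : M ⊗[R] B),
      g.lTensor B (TensorProduct.comm R M B w) = TensorProduct.comm R M' B (g.rTensor B w) := by
    intro M M' _ _ _ _ g w
    induction w using TensorProduct.induction_on with
    | zero => simp
    | add a b ha hb => simp only [map_add, ha, hb]
    | tmul a b => simp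
  have hinjl : Function.Injective (ι'.toLinearMap.lTensor B) := by
    intro a b hab
    obtain ⟨a, rfl⟩ := (TensorProduct.comm R B₀' B).surjective a
    obtain ⟨b, rfl⟩ := (TensorProduct.comm R B₀' B).surjective b
    rw [hcomm, hcomm] at hab
    rw [hinj' ((TensorProduct.comm R B' B).injective hab)]
  have hmap : TensorProduct.map ι.toLinearMap ι'.toLinearMap =
      (ι'.toLinearMap.lTensor B).comp (ι.toLinearMap.rTensor B₀') :=
    (LinearMap.lTensor_comp_rTensor _ _ _).symm
  refine ⟨by rw [hmap, LinearMap.coe_comp]; exact hinjl.comp hinj, fun z hz hz' => ?_⟩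
  obtain ⟨z, rfl⟩ := (TensorProduct.comm R B' B).surjective z
  obtain ⟨w, rfl⟩ := hsurj' z fun k => (TensorProduct.comm R B' B).injective (by rw [← hcomm, hz' k])
  rw [← hcomm] at hz ⊢
  obtain ⟨v, hv⟩ := hsurj (TensorProduct.comm R B₀' B w) fun k => hinjl (by
    rw [← LinearMap.comp_apply, LinearMap.lTensor_comp_rTensor, ← LinearMap.rTensor_comp_lTensor,
      LinearMap.comp_apply, hz k])
  exact ⟨v, by rw [hmap, LinearMap.comp_apply, hv]⟩

section Residue

variable {R' P : Type u} [CommRing R'] [Algebra R R'] [CommRing P] [Algebra R P] (φ : B →ₐ[R] P)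
  (χ : R' →ₐ[R] P) {ρP : K → P →+* P}

/-- An invariant function is, at a prime, a fraction with invariant numerator and scalar denominator. -/
theorem exists_residue_approx
    (hbij : Function.Bijective (Algebra.TensorProduct.lift φ χ fun _ _ => Commute.all _ _))
    (hρφ : ∀ k b, ρP k (φ b) = φ (ρ k b)) (hρχ : ∀ k r, ρP k (χ r) = χ r)
    (x : Ideal P) [x.IsPrime]
    (hspan : ∀ z : B ⊗[R] (x.comap χ).ResidueField,
      (∀ k, (ρ k).toLinearMap.rTensor (x.comap χ).ResidueField z = z) →
      z ∈ Set.range (ι.toLinearMap.rTensor (x.comap χ).ResidueField))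
    (u : P) (hu : ∀ k, ρP k u = u) :
    ∃ (r : R') (w : B₀ ⊗[R] R'), χ r ∉ x ∧
      χ r * u - Algebra.TensorProduct.lift φ χ (fun _ _ => Commute.all _ _)
        (ι.toLinearMap.rTensor R' w) ∈ x := by
  set p := x.comap χ with hp
  set L := Algebra.TensorProduct.lift φ χ fun _ _ => Commute.all _ _ with hLdef
  let q : R' →ₐ[R] p.ResidueField := IsScalarTower.toAlgHom R R' p.ResidueField
  obtain ⟨u, rfl⟩ := hbij.2 u
  have hL : ∀ k z, ρP k (L z) = L ((ρ k).toLinearMap.rTensor R' z) := fun k z => by
    induction z using TensorProduct.induction_on with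
    | zero => simp
    | add a b ha hb => simp only [map_add, ha, hb]
    | tmul b r => simp [L, hρφ, hρχ]
  have hq : ∀ k (z : B ⊗[R] R'), (ρ k).toLinearMap.rTensor p.ResidueField (q.toLinearMap.lTensor B z) =
      q.toLinearMap.lTensor B ((ρ k).toLinearMap.rTensor R' z) := fun k z => by
    rw [← LinearMap.comp_apply, LinearMap.rTensor_comp_lTensor, ← LinearMap.lTensor_comp_rTensor,
      LinearMap.comp_apply]
  obtain ⟨v, hv⟩ := hspan (q.toLinearMap.lTensor B u) fun k => by
    rw [hq, show (ρ k).toLinearMap.rTensor R' u = u from hbij.1 (by rw [← hL, hu])]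
  have clear_den : ∀ v : B₀ ⊗[R] p.ResidueField, ∃ (r : R') (w : B₀ ⊗[R] R'), r ∉ p ∧
      (LinearMap.mulLeft R (q r)).lTensor B₀ v = q.toLinearMap.lTensor B₀ w := by
    intro v
    induction v using TensorProduct.induction_on with
    | zero => exact ⟨1, 0, fun h1 => (inferInstance : p.IsPrime).ne_top (p.eq_top_iff_one.2 h1), by simp⟩
    | tmul b l =>
      obtain ⟨a, s, hs, rfl⟩ := IsFractionRing.div_surjective (A := R' ⧸ p) l
      obtain ⟨a, rfl⟩ := Ideal.Quotient.mk_surjective a
      obtain ⟨s, rfl⟩ := Ideal.Quotient.mk_surjective s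
      have hs0 : s ∉ p := fun hsp => nonZeroDivisors.ne_zero hs (Ideal.Quotient.eq_zero_iff_mem.2 hsp)
      refine ⟨s, b ⊗ₜ a, hs0, ?_⟩
      rw [LinearMap.lTensor_tmul, LinearMap.lTensor_tmul, LinearMap.mulLeft_apply]
      congr 1
      have h1 : q s ≠ 0 := fun h0 => hs0 (Ideal.algebraMap_residueField_eq_zero.1 h0)
      show q s * (algebraMap R' p.ResidueField a / algebraMap R' p.ResidueField s) = _
      exact mul_div_cancel₀ _ h1
    | add v₁ v₂ h₁ h₂ =>
      obtain ⟨r₁, w₁, hr₁, e₁⟩ := h₁
      obtain ⟨r₂, w₂, hr₂, e₂⟩ := h₂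
      refine ⟨r₁ * r₂, (LinearMap.mulLeft R r₂).lTensor B₀ w₁ + (LinearMap.mulLeft R r₁).lTensor B₀ w₂,
        fun hm => ((inferInstance : p.IsPrime).mem_or_mem hm).elim hr₁ hr₂, ?_⟩
      have hsplit : ∀ (r s : R') (y : B₀ ⊗[R] p.ResidueField),
          (LinearMap.mulLeft R (q (r * s))).lTensor B₀ y =
            (LinearMap.mulLeft R (q r)).lTensor B₀ ((LinearMap.mulLeft R (q s)).lTensor B₀ y) :=
        fun r s y => by
        rw [← LinearMap.lTensor_comp_apply, map_mul, LinearMap.mulLeft_mul]
      have hpush : ∀ (r : R') (w : B₀ ⊗[R] R'),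
          (LinearMap.mulLeft R (q r)).lTensor B₀ (q.toLinearMap.lTensor B₀ w) =
            q.toLinearMap.lTensor B₀ ((LinearMap.mulLeft R r).lTensor B₀ w) := fun r w => by
        rw [← LinearMap.lTensor_comp_apply, ← LinearMap.lTensor_comp_apply]
        congr 2
        exact LinearMap.ext fun s => by simp
      rw [map_add, map_add, mul_comm r₁ r₂, hsplit, e₁, hpush, mul_comm r₂ r₁, hsplit, e₂, hpush]
  obtain ⟨r, w, hr, hw⟩ := clear_den v
  refine ⟨r, w, hr, ?_⟩
  let θ : B ⊗[R] p.ResidueField →ₐ[R] x.ResidueField :=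
    Algebra.TensorProduct.lift ((IsScalarTower.toAlgHom R P x.ResidueField).comp φ)
      (Ideal.ResidueField.mapₐ p x χ hp) fun _ _ => Commute.all _ _
  have hmap : ∀ s, Ideal.ResidueField.mapₐ p x χ hp (algebraMap R' p.ResidueField s) =
      algebraMap P x.ResidueField (χ s) := fun s =>
    Ideal.ResidueField.map_algebraMap p x χ.toRingHom hp s
  have hθ : ∀ z : B ⊗[R] R', θ (q.toLinearMap.lTensor B z) = algebraMap P x.ResidueField (L z) := fun z => by
    induction z using TensorProduct.induction_on with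
    | zero => simp
    | add a b ha hb => simp only [map_add, ha, hb]
    | tmul b s => simp [θ, L, q, hmap, -Ideal.ResidueField.mapₐ_apply]
  rw [← Ideal.algebraMap_residueField_eq_zero (I := x), map_sub, map_mul, ← hθ u, ← hθ, ← hv,
    sub_eq_zero]
  have h2 : θ (ι.toLinearMap.rTensor _ ((LinearMap.mulLeft R (q r)).lTensor B₀ v)) =
      algebraMap P x.ResidueField (χ r) * θ (ι.toLinearMap.rTensor _ v) := by
    clear hv hw
    induction v using TensorProduct.induction_on with
    | zero => simp
    | add a b ha hb => simp only [map_add, ha, hb, mul_add]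
    | tmul b l =>
      simp [θ, q, hmap, -Ideal.ResidueField.mapₐ_apply]
      ring
  rw [← h2, hw, ← LinearMap.comp_apply (LinearMap.rTensor _ _), LinearMap.rTensor_comp_lTensor,
    ← LinearMap.lTensor_comp_rTensor, LinearMap.comp_apply]

end Residue

end Groth.Agent.IntTh85.InvAlg
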