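import Mathlib.RingTheory.Invariant.Basic
import Mathlib.RingTheory.Ideal.GoingUp
import Mathlib.GroupTheory.Coset.Card

/-!
# Invariants in modules with a semilinear action of a finite group: trace and localisation

For a finite group `G` acting semilinearly on a module `M` over a ring `B` and a family `f` of fixed
elements of `M`, we study when every fixed element of `M` is a combination of the `f n` with fixed
coefficients.  The property passes from `G` to subgroups containing the stabilisers of the primes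
(trace), along localisations and along retracts cut out by an idempotent.
-/

set_option autoImplicit false
set_option linter.style.haveILetI false

open scoped Classical

namespace Groth.Agent.IntTh85.InvLocal

/-- A semilinear action of a group on a module. -/
structure Act (G : Type*) [Group G] (B : Type*) [CommRing B] (M : Type*) [AddCommGroup M] [Module B M] where
  r : G → B →+* B
  m : G → M →+ M
  r_one : ∀ b, r 1 b = b
  r_mul : ∀ g h b, r (g * h) b = r g (r h b)
  m_one : ∀ x, m 1 x = x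
  m_mul : ∀ g h x, m (g * h) x = m g (m h x)
  semi : ∀ g b x, m g (b • x) = r g b • m g x

section

variable {G : Type*} [Group G] {B : Type*} [CommRing B] {M : Type*} [AddCommGroup M] [Module B M]
  {ι : Type*} (A : Act G B M)

/-- Restriction of the action to a subgroup. -/
def Act.res (H : Subgroup G) : Act H B M where
  r g := A.r g
  m g := A.m g
  r_one := A.r_one
  r_mul g h := A.r_mul g h
  m_one := A.m_one
  m_mul g h := A.m_mul g h
  semi g := A.semi g

/-- Fixed scalar. -/
def Act.RFix (b : B) : Prop := ∀ g, A.r g b = b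

/-- Fixed vector. -/
def Act.MFix (x : M) : Prop := ∀ g, A.m g x = x

theorem rfix_one : A.RFix 1 := fun g => map_one (A.r g)

theorem rfix_mul {a b : B} (ha : A.RFix a) (hb : A.RFix b) : A.RFix (a * b) := fun g => by
  rw [map_mul, ha g, hb g]

theorem rfix_pow {a : B} (ha : A.RFix a) (n : ℕ) : A.RFix (a ^ n) := fun g => by rw [map_pow, ha g]

theorem rfix_inv {u v : B} (hu : A.RFix u) (huv : u * v = 1) : A.RFix v := fun g => by
  have h : u * A.r g v = 1 := by
    conv_lhs => rw [← hu g]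
    rw [← map_mul, huv, map_one]
  calc A.r g v = v * (u * A.r g v) := by rw [← mul_assoc, mul_comm v u, huv, one_mul]
    _ = v := by rw [h, mul_one]

theorem mfix_smul {a : B} {x : M} (ha : A.RFix a) (hx : A.MFix x) : A.MFix (a • x) := fun g => by
  rw [A.semi, ha g, hx g]

/-- Combinations of the `f n` with fixed coefficients. -/
def Act.fspan (f : ι → M) : AddSubmonoid M :=
  AddSubmonoid.closure {x | ∃ b n, A.RFix b ∧ x = b • f n}

variable {A} {f : ι → M}

theorem mem_fspan_gen {b : B} (hb : A.RFix b) (n : ι) : b • f n ∈ A.fspan f :=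
  AddSubmonoid.subset_closure ⟨b, n, hb, rfl⟩

theorem smul_mem_fspan {c : B} (hc : A.RFix c) {x : M} (hx : x ∈ A.fspan f) : c • x ∈ A.fspan f := by
  induction hx using AddSubmonoid.closure_induction with
  | mem y hy =>
    obtain ⟨b, n, hb, rfl⟩ := hy
    rw [← mul_smul]
    exact mem_fspan_gen (rfix_mul A hc hb) n
  | zero => rw [smul_zero]; exact zero_mem _
  | add y z _ _ hy hz => rw [smul_add]; exact add_mem hy hz

theorem mfix_of_mem_fspan (hf : ∀ n, A.MFix (f n)) {x : M} (hx : x ∈ A.fspan f) : A.MFix x := by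
  induction hx using AddSubmonoid.closure_induction with
  | mem y hy =>
    obtain ⟨b, n, hb, rfl⟩ := hy
    exact mfix_smul A hb (hf n)
  | zero => exact fun g => map_zero _
  | add y z _ _ hy hz => exact fun g => by rw [map_add, hy g, hz g]

/-- A semilinear equivariant map carries combinations to combinations. -/
theorem map_mem_fspan {C : Type*} [CommRing C] {N : Type*} [AddCommGroup N] [Module C N]
    {A' : Act G C N} (φ : B →+* C) (Φ : M →+ N) (hsemi : ∀ b x, Φ (b • x) = φ b • Φ x)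
    (heq : ∀ g b, φ (A.r g b) = A'.r g (φ b)) {f' : ι → N} (hf : ∀ n, Φ (f n) = f' n) {x : M}
    (hx : x ∈ A.fspan f) : Φ x ∈ A'.fspan f' := by
  induction hx using AddSubmonoid.closure_induction with
  | mem y hy =>
    obtain ⟨b, n, hb, rfl⟩ := hy
    rw [hsemi, hf]
    exact mem_fspan_gen (fun g => by rw [← heq, hb g]) n
  | zero => rw [map_zero]; exact zero_mem _
  | add y z _ _ hy hz => rw [map_add]; exact add_mem hy hz

end

section Finite

variable {G : Type*} [Group G] [Finite G] {B : Type*} [CommRing B] {M : Type*} [AddCommGroup M]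
  [Module B M] {ι : Type*} {A : Act G B M} {f : ι → M}

/-- The sum over the cosets of an element fixed by a subgroup is fixed. -/
theorem sum_out_fixed {V : Type*} [AddCommMonoid V] (φ : G → V →+ V)
    (hφ : ∀ g h x, φ (g * h) x = φ g (φ h x)) (H : Subgroup G) [Fintype (G ⧸ H)] {x : V}
    (hx : ∀ h ∈ H, φ h x = x) (g : G) :
    φ g (∑ q : G ⧸ H, φ q.out x) = ∑ q : G ⧸ H, φ q.out x := by
  rw [map_sum, ← Equiv.sum_comp (MulAction.toPerm g) fun q : G ⧸ H => φ q.out x]
  refine Finset.sum_congr rfl fun q _ => ?_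
  obtain ⟨h, hh⟩ := QuotientGroup.mk_out_eq_mul H (g * q.out)
  have hq : (QuotientGroup.mk (g * q.out) : G ⧸ H) = g • q := by
    conv_rhs => rw [← QuotientGroup.out_eq' q]
    rfl
  rw [← hφ, MulAction.toPerm_apply, ← hq, hh, hφ _ (h : G), hx h h.2]

theorem trace_smul_mem_fspan (hf : ∀ n, A.MFix (f n)) (H : Subgroup G) [Fintype (G ⧸ H)] {x : M}
    (hx : x ∈ (A.res H).fspan f) : ∑ q : G ⧸ H, A.m q.out x ∈ A.fspan f := by
  induction hx using AddSubmonoid.closure_induction with
  | mem y hy =>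
    obtain ⟨b, n, hb, rfl⟩ := hy
    have : ∑ q : G ⧸ H, A.m q.out (b • f n) = (∑ q : G ⧸ H, A.r q.out b) • f n := by
      rw [Finset.sum_smul]
      exact Finset.sum_congr rfl fun q _ => by rw [A.semi, hf n]
    rw [this]
    exact mem_fspan_gen (fun g => sum_out_fixed (fun g => (A.r g).toAddMonoidHom) A.r_mul H
      (fun h hh => hb ⟨h, hh⟩) g) n
  | zero => simp
  | add y z _ _ hy hz =>
    rw [Finset.sum_congr rfl fun q _ => map_add (A.m _) y z, Finset.sum_add_distrib]
    exact add_mem hy hz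

/-- A translate of a prime inside it is equal to it. -/
theorem comap_eq_of_le {x : Ideal B} {k : G} (h : x.comap (A.r k) ≤ x) : x.comap (A.r k) = x := by
  refine le_antisymm h ?_
  have hn : ∀ n : ℕ, x.comap (A.r (k ^ (n + 1))) ≤ x.comap (A.r k) := by
    intro n
    induction n with
    | zero => rw [zero_add, pow_one]
    | succ n ih =>
      intro b hb
      have hb' : A.r k b ∈ x.comap (A.r (k ^ (n + 1))) := by
        rw [Ideal.mem_comap, ← A.r_mul, ← pow_succ]
        exact hb
      exact h (ih hb')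
  have ho : orderOf k - 1 + 1 = orderOf k := Nat.sub_add_cancel (orderOf_pos k)
  have := hn (orderOf k - 1)
  rw [ho, pow_orderOf_eq_one] at this
  intro b hb
  exact this (by rw [Ideal.mem_comap, A.r_one]; exact hb)

/-- An element fixed by `H`, not vanishing at `x`, vanishing at the translates of `x` outside the
`H`-orbit. -/
theorem exists_separating (x : Ideal B) [x.IsPrime] (H : Subgroup G)
    (hstab : ∀ g, x.comap (A.r g) = x → g ∈ H) :
    ∃ e, (A.res H).RFix e ∧ e ∉ x ∧ ∀ g ∉ H, A.r g e ∈ x := by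
  cases nonempty_fintype G
  let J : Ideal B := (Finset.univ.filter fun g => g ∉ H).inf fun g => x.comap (A.r g)
  have hJ : ¬ ((J : Set B) ⊆ ⋃ h ∈ (↑(Finset.univ.filter fun g => g ∈ H) : Set G), x.comap (A.r h)) := by
    intro hsub
    obtain ⟨h, hh, hle⟩ := (Ideal.subset_union_prime (1 : G) 1
      (fun i _ _ _ => Ideal.IsPrime.comap (A.r i))).1 hsub
    obtain ⟨g, hg, hgh⟩ := (Ideal.IsPrime.inf_le' (Ideal.IsPrime.comap (A.r h))).1 hle
    simp only [Finset.mem_filter, Finset.mem_univ, true_and] at hg hh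
    have : x.comap (A.r (g * h⁻¹)) ≤ x := by
      intro b hb
      have hb' : A.r h⁻¹ b ∈ x.comap (A.r g) := by
        rw [Ideal.mem_comap, ← A.r_mul]
        exact hb
      have := hgh hb'
      rwa [Ideal.mem_comap, ← A.r_mul, mul_inv_cancel, A.r_one] at this
    exact hg (by simpa using H.mul_mem (hstab _ (comap_eq_of_le this)) hh)
  obtain ⟨b, hbJ, hb⟩ := Set.not_subset.1 hJ
  simp only [Set.mem_iUnion, Finset.coe_filter, Set.mem_ofPred_eq, Finset.mem_univ, true_and,
    SetLike.mem_coe, Ideal.mem_comap, exists_prop, not_exists, not_and] at hb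
  let e : B := ∏ h : H, A.r h b
  refine ⟨e, fun h => ?_, ?_, fun g hg => ?_⟩
  · show A.r h (∏ k : H, A.r k b) = _
    rw [map_prod]
    refine Eq.trans (Finset.prod_congr rfl fun k _ => ?_)
      (Equiv.prod_comp (Equiv.mulLeft h) fun k : H => A.r (k : G) b)
    rw [← A.r_mul]
    rfl
  · intro he
    obtain ⟨h, -, hh⟩ := (inferInstance : x.IsPrime).prod_mem_iff.1 he
    exact hb h h.2 hh
  · have heJ : e ∈ J := by
      refine Ideal.mem_of_dvd _ ?_ hbJ
      exact ⟨_, (Finset.mul_prod_erase _ _ (Finset.mem_univ (1 : H))).symm.trans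
        (by rw [OneMemClass.coe_one, A.r_one])⟩
    exact Submodule.mem_finsetInf.1 heJ g (by simp [hg])

/-- **Local criterion.** -/
theorem mem_fspan_of_local (hf : ∀ n, A.MFix (f n)) {z : M} (hz : A.MFix z)
    (hloc : ∀ x : Ideal B, x.IsPrime → ∃ H : Subgroup G, (∀ g, x.comap (A.r g) = x → g ∈ H) ∧
      ∃ t : B, (A.res H).RFix t ∧ t ∉ x ∧ t • z ∈ (A.res H).fspan f) :
    z ∈ A.fspan f := by
  cases nonempty_fintype G
  letI : MulSemiringAction G B :=
    { smul := fun g b => A.r g b
      one_smul := A.r_one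
      mul_smul := A.r_mul
      smul_zero := fun g => map_zero (A.r g)
      smul_add := fun g => map_add (A.r g)
      smul_one := fun g => map_one (A.r g)
      smul_mul := fun g => map_mul (A.r g) }
  let S : Subring B := FixedPoints.subring B G
  have hS : ∀ s : B, s ∈ S ↔ A.RFix s := fun s => Iff.rfl
  haveI : Algebra.IsInvariant S B G := ⟨fun b hb => ⟨⟨b, hb⟩, rfl⟩⟩
  haveI : SMulCommClass G S B := ⟨fun g s b => by
    show A.r g ((s : B) * b) = (s : B) * A.r g b
    rw [map_mul, (hS s).1 s.2 g]⟩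
  haveI : Algebra.IsIntegral S B := Algebra.IsInvariant.isIntegral S B G
  let I : Ideal S :=
    { carrier := {s | (s : B) • z ∈ A.fspan f}
      add_mem' := fun {a b} ha hb => by
        show ((a : B) + b) • z ∈ A.fspan f
        rw [add_smul]; exact add_mem ha hb
      zero_mem' := by
        show (0 : B) • z ∈ A.fspan f
        rw [zero_smul]; exact zero_mem _
      smul_mem' := fun c s hs => by
        show ((c : B) * s) • z ∈ A.fspan f
        rw [mul_smul]; exact smul_mem_fspan ((hS c).1 c.2) hs }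
  suffices hI : I = ⊤ by
    have h1 : ((1 : S) : B) • z ∈ A.fspan f := (hI ▸ trivial : (1 : S) ∈ I)
    simpa using h1
  by_contra hne
  obtain ⟨𝔪, h𝔪, hI𝔪⟩ := Ideal.exists_le_maximal I hne
  obtain ⟨x, hxmax, hx⟩ := Ideal.exists_ideal_over_maximal_of_isIntegral (R := S) (S := B) 𝔪
    (((RingHom.injective_iff_ker_eq_bot _).1 Subtype.val_injective).le.trans bot_le)
  haveI : x.IsPrime := hxmax.isPrime
  obtain ⟨H, hstab, t, ht, htx, htz⟩ := hloc x inferInstance
  obtain ⟨e, he, hex, hout⟩ := exists_separating x H hstab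
  set s := ∑ q : G ⧸ H, A.r q.out (e * t) with hs
  have hsfix : A.RFix s := fun g => sum_out_fixed (fun g => (A.r g).toAddMonoidHom) A.r_mul H
    (fun h hh => (rfix_mul (A.res H) he ht) ⟨h, hh⟩) g
  have hsx : s ∉ x := by
    rw [hs, ← Finset.add_sum_erase _ _ (Finset.mem_univ (QuotientGroup.mk (1 : G) : G ⧸ H)),
      Ideal.add_mem_iff_left]
    · obtain ⟨h, hh⟩ := QuotientGroup.mk_out_eq_mul H (1 : G)
      rw [hh, one_mul]
      have := (rfix_mul (A.res H) he ht) h
      rw [show (A.res H).r h (e * t) = A.r (h : G) (e * t) from rfl] at this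
      rw [this]
      exact fun hm => ((inferInstance : x.IsPrime).mem_or_mem hm).elim hex htx
    · refine Ideal.sum_mem _ fun q hq => ?_
      rw [map_mul]
      refine Ideal.mul_mem_right _ _ (hout _ fun hmem => Finset.ne_of_mem_erase hq ?_)
      conv_lhs => rw [← QuotientGroup.out_eq' q]
      exact QuotientGroup.eq.2 (by simpa using hmem)
  have hsI : (⟨s, (hS s).2 hsfix⟩ : S) ∈ I := by
    show s • z ∈ A.fspan f
    have : s • z = ∑ q : G ⧸ H, A.m q.out (e • t • z) := by
      rw [hs, Finset.sum_smul]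
      exact Finset.sum_congr rfl fun q _ => by rw [← mul_smul, A.semi, hz]
    rw [this]
    exact trace_smul_mem_fspan hf H (smul_mem_fspan he htz)
  have h1 := hI𝔪 hsI
  rw [← hx] at h1
  exact hsx h1

/-- Averaging. -/
theorem mem_fspan_of_average {z : M} (hz : A.MFix z) (hf : ∀ n, A.MFix (f n))
    (hspan : z ∈ AddSubmonoid.closure {x : M | ∃ (b : B) (n : ι), x = b • f n})
    (hdiv : ∀ n, ∃ n', f n = Nat.card G • f n') (hinj : ∀ x : M, Nat.card G • x = 0 → x = 0) :
    z ∈ A.fspan f := by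
  cases nonempty_fintype G
  have h1 : ∀ x ∈ AddSubmonoid.closure {x : M | ∃ (b : B) (n : ι), x = b • f n}, ∑ g : G, A.m g x ∈ A.fspan f := by
    intro x hx
    induction hx using AddSubmonoid.closure_induction with
    | mem y hy =>
      obtain ⟨b, n, rfl⟩ := hy
      have : ∑ g : G, A.m g (b • f n) = (∑ g : G, A.r g b) • f n := by
        rw [Finset.sum_smul]
        exact Finset.sum_congr rfl fun g _ => by rw [A.semi, hf n]
      rw [this]
      refine mem_fspan_gen (fun k => ?_) n
      rw [map_sum]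
      refine Eq.trans (Finset.sum_congr rfl fun g _ => (A.r_mul k g b).symm) ?_
      exact Equiv.sum_comp (Equiv.mulLeft k) fun g => A.r g b
    | zero => simp
    | add y y' _ _ hy hy' =>
      rw [Finset.sum_congr rfl fun g _ => map_add (A.m g) y y', Finset.sum_add_distrib]
      exact add_mem hy hy'
  have h2 : ∀ x ∈ A.fspan f, ∃ y ∈ A.fspan f, x = Nat.card G • y := by
    intro x hx
    induction hx using AddSubmonoid.closure_induction with
    | mem y hy =>
      obtain ⟨b, n, hb, rfl⟩ := hy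
      obtain ⟨n', hn'⟩ := hdiv n
      exact ⟨_, mem_fspan_gen hb n', by rw [hn', smul_comm]⟩
    | zero => exact ⟨0, zero_mem _, (smul_zero _).symm⟩
    | add y y' _ _ hy hy' =>
      obtain ⟨a, ha, rfl⟩ := hy
      obtain ⟨a', ha', rfl⟩ := hy'
      exact ⟨a + a', add_mem ha ha', (smul_add _ _ _).symm⟩
  have h3 := h1 z hspan
  rw [Finset.sum_congr rfl fun g _ => hz g, Finset.sum_const, Finset.card_univ,
    ← Nat.card_eq_fintype_card] at h3
  obtain ⟨y, hy, hzy⟩ := h2 _ h3
  have : z = y := sub_eq_zero.1 (hinj _ (by rw [smul_sub, hzy, sub_self]))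
  exact this ▸ hy

/-- **Retracts.** An idempotent fixed by `H` and orthogonal to its translates outside `H`. -/
theorem mem_fspan_of_retract (H : Subgroup G) {T : Type*} [CommRing T] {N : Type*} [AddCommGroup N]
    [Module T N] (A' : Act H T N) (π : B →+* T) (π' : M →+ N) (hsemi : ∀ b x, π' (b • x) = π b • π' x)
    (hr : ∀ (h : H) b, π (A.r h b) = A'.r h (π b)) (hm : ∀ (h : H) x, π' (A.m h x) = A'.m h (π' x))
    (hsurj : Function.Surjective π') (ε : B) (hε : (A.res H).RFix ε) (hπε : π ε = 1)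
    (hker : ∀ x, π' x = 0 → ε • x = 0) (horth : ∀ g ∉ H, π (A.r g ε) = 0)
    {f' : ι → N} (hff : ∀ n, π' (f n) = f' n)
    (hspan : ∀ x, A.MFix x → x ∈ A.fspan f) {w : N} (hw : A'.MFix w) : w ∈ A'.fspan f' := by
  cases nonempty_fintype G
  obtain ⟨x, rfl⟩ := hsurj w
  have hy : ∀ h ∈ H, A.m h (ε • x) = ε • x := by
    intro h hh
    rw [A.semi, show A.r h ε = ε from hε ⟨h, hh⟩]
    have : ε • (A.m h x - x) = 0 := hker _ (by
      rw [map_sub, show π' (A.m h x) = A'.m ⟨h, hh⟩ (π' x) from hm ⟨h, hh⟩ x, hw, sub_self])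
    rwa [smul_sub, sub_eq_zero] at this
  set Z := ∑ q : G ⧸ H, A.m q.out (ε • x) with hZ
  have hZw : π' Z = π' x := by
    rw [hZ, map_sum, Finset.sum_eq_single (QuotientGroup.mk (1 : G) : G ⧸ H)]
    · obtain ⟨h, hh⟩ := QuotientGroup.mk_out_eq_mul H (1 : G)
      rw [hh, one_mul, hy h h.2, hsemi, hπε, one_smul]
    · intro q _ hq
      rw [A.semi, hsemi, horth, zero_smul]
      intro hmem
      refine hq ?_
      conv_lhs => rw [← QuotientGroup.out_eq' q]
      exact QuotientGroup.eq.2 (by simpa using hmem)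
    · exact fun hq => absurd (Finset.mem_univ _) hq
  have hmem : Z ∈ A.fspan f := hspan Z fun g => sum_out_fixed A.m A.m_mul H hy g
  rw [← hZw]
  clear_value Z
  clear hZw hZ
  induction hmem using AddSubmonoid.closure_induction with
  | mem y hy' =>
    obtain ⟨b, n, hb, rfl⟩ := hy'
    rw [hsemi, hff]
    exact mem_fspan_gen (fun h => by rw [← hr, hb (h : G)]) n
  | zero => rw [map_zero]; exact zero_mem _
  | add y y' _ _ hy hy' => rw [map_add]; exact add_mem hy hy'

/-- A killed family of elements is killed by one power. -/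
theorem exists_pow_smul_fix {t : B} (ht : A.RFix t) (x : M)
    (hx : ∀ g, ∃ k : ℕ, t ^ k • (A.m g x - x) = 0) : ∃ k : ℕ, A.MFix (t ^ k • x) := by
  cases nonempty_fintype G
  choose k hk using hx
  refine ⟨Finset.univ.sup k, fun g => ?_⟩
  rw [A.semi, rfix_pow A ht _ g, ← sub_eq_zero, ← smul_sub,
    ← Nat.sub_add_cancel (Finset.le_sup (f := k) (Finset.mem_univ g)), pow_add, mul_smul, hk g,
    smul_zero]

/-- The regular action on scalars. -/
def Act.scalar (A : Act G B M) : Act G B B where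
  r := A.r
  m g := (A.r g).toAddMonoidHom
  r_one := A.r_one
  r_mul := A.r_mul
  m_one := A.r_one
  m_mul := A.r_mul
  semi g b x := map_mul (A.r g) b x

/-- **Transfer along two localisations.** -/
theorem exists_pow_smul_mem_fspan {C T : Type*} [CommRing C] [CommRing T] {MC MT : Type*}
    [AddCommGroup MC] [Module C MC] [AddCommGroup MT] [Module T MT]
    (AC : Act G C MC) (AT : Act G T MT)
    (φ : B →+* C) (ψ : T →+* C) (Φ : M →+ MC) (Ψ : MT →+ MC)
    (hΦ : ∀ b x, Φ (b • x) = φ b • Φ x) (hΨ : ∀ b x, Ψ (b • x) = ψ b • Ψ x)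
    (hφr : ∀ g b, φ (A.r g b) = AC.r g (φ b)) (hψr : ∀ g b, ψ (AT.r g b) = AC.r g (ψ b))
    (hΦm : ∀ g x, Φ (A.m g x) = AC.m g (Φ x)) (hΨm : ∀ g x, Ψ (AT.m g x) = AC.m g (Ψ x))
    {t : B} (ht : A.RFix t) {c : T} (hc : AT.RFix c) (huc : IsUnit (ψ c))
    (hsurjB : ∀ γ, ∃ (k : ℕ) (b : B), φ t ^ k * γ = φ b)
    (hkerB : ∀ b, φ b = 0 → ∃ k : ℕ, t ^ k * b = 0)
    (hkerM : ∀ x, Φ x = 0 → ∃ k : ℕ, t ^ k • x = 0)
    (hsurjT : ∀ y, ∃ (k : ℕ) (w : MT), ψ c ^ k • y = Ψ w)
    (hkerT : ∀ w, Ψ w = 0 → ∃ k : ℕ, c ^ k • w = 0)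
    {fC : ι → MC} {fT : ι → MT} (hfB : ∀ n, Φ (f n) = fC n) (hfT : ∀ n, Ψ (fT n) = fC n)
    (hspan : ∀ w, AT.MFix w → w ∈ AT.fspan fT) {z : M} (hz : A.MFix z) :
    ∃ k : ℕ, t ^ k • z ∈ A.fspan f := by
  cases nonempty_fintype G
  obtain ⟨k, w, hw⟩ := hsurjT (Φ z)
  have hcC : AC.RFix (ψ c) := fun g => by rw [← hψr, hc g]
  have hzC : AC.MFix (Φ z) := fun g => by rw [← hΦm, hz g]
  obtain ⟨l, hl⟩ := exists_pow_smul_fix (A := AT) hc w fun g => hkerT _ (by
    rw [map_sub, hΨm, ← hw, mfix_smul AC (rfix_pow AC hcC k) hzC g, sub_self])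
  obtain ⟨v, hv⟩ := (huc.pow (l + k)).exists_right_inv
  have hmemC : Φ z ∈ AC.fspan fC := by
    have h1 : Ψ (c ^ l • w) ∈ AC.fspan fC := map_mem_fspan ψ Ψ hΨ hψr hfT (hspan _ hl)
    rw [hΨ, map_pow, ← hw, ← mul_smul, ← pow_add] at h1
    have h2 := smul_mem_fspan (rfix_inv AC (rfix_pow AC hcC (l + k)) hv) h1
    rwa [← mul_smul, mul_comm, hv, one_smul] at h2
  have key : ∀ y ∈ AC.fspan fC, ∃ (k : ℕ), ∃ x ∈ A.fspan f, φ t ^ k • y = Φ x := by
    intro y hy
    induction hy using AddSubmonoid.closure_induction with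
    | mem y hy =>
      obtain ⟨γ, n, hγ, rfl⟩ := hy
      obtain ⟨k₀, b, hb⟩ := hsurjB γ
      have htC : AC.RFix (φ t) := fun g => by rw [← hφr, ht g]
      obtain ⟨l₀, hl₀⟩ := exists_pow_smul_fix (A := A.scalar) ht b fun g => hkerB _ (by
        rw [map_sub, show φ (A.scalar.m g b) = AC.r g (φ b) from hφr g b, ← hb,
          rfix_mul AC (rfix_pow AC htC k₀) hγ g, sub_self])
      refine ⟨l₀ + k₀, _, mem_fspan_gen (A := A) hl₀ n, ?_⟩
      rw [hΦ, hfB, ← mul_smul, smul_eq_mul, map_mul, map_pow, pow_add, mul_assoc, hb]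
    | zero => exact ⟨0, 0, zero_mem _, by rw [map_zero, smul_zero]⟩
    | add y y' _ _ hy hy' =>
      obtain ⟨k₁, x₁, hx₁, e₁⟩ := hy
      obtain ⟨k₂, x₂, hx₂, e₂⟩ := hy'
      refine ⟨k₁ + k₂, t ^ k₂ • x₁ + t ^ k₁ • x₂, add_mem (smul_mem_fspan (rfix_pow A ht _) hx₁)
        (smul_mem_fspan (rfix_pow A ht _) hx₂), ?_⟩
      rw [map_add, hΦ, hΦ, map_pow, map_pow, ← e₁, ← e₂, ← mul_smul, ← mul_smul, ← pow_add,
        ← pow_add, add_comm k₂ k₁, smul_add]
  obtain ⟨k', x, hx, hzx⟩ := key _ hmemC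
  obtain ⟨j, hj⟩ := hkerM (t ^ k' • z - x) (by
    rw [map_sub, hΦ, map_pow, hzx, sub_self])
  refine ⟨j + k', ?_⟩
  rw [smul_sub, sub_eq_zero, ← mul_smul, ← pow_add] at hj
  rw [hj]
  exact smul_mem_fspan (rfix_pow A ht _) hx

end Finite

end Groth.Agent.IntTh85.InvLocal
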