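import Groth.Agent.IntTh85.LineGlue
import Groth.Agent.SGA1Q.Exists
import Groth.Agent.PicfLib.Trans
import Groth.Agent.AmpleX.Locus
import Groth.Agent.Div86.MeroGen

/-!
# The norm of an invertible module along a quotient by a finite group
-/

set_option linter.style.haveILetI false
set_option backward.isDefEq.respectTransparency false
set_option backward.isDefEq.respectTransparency.types false

universe u

open CategoryTheory CategoryTheory.Limits AlgebraicGeometry TopologicalSpace Opposite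

noncomputable section

namespace Groth.Agent.IntTh85.NormLine

open Groth.Agent

variable {X Y : Scheme.{u}} {G : Type u} [Group G] [Finite G] {ρ : G →* Aut X} {q : X ⟶ Y}

/-- The action of `g` on functions on the preimage of an open. -/
def act (hq : SGA1.IsQuot ρ q) (g : G) (V : Y.Opens) : Γ(X, q ⁻¹ᵁ V) →+* Γ(X, q ⁻¹ᵁ V) :=
  ((ρ g).hom.appLE (q ⁻¹ᵁ V) (q ⁻¹ᵁ V) (SGA1.preimage_le_of_inv ρ q hq.inv g V)).hom

omit [Finite G] in
lemma act_act (hq : SGA1.IsQuot ρ q) (g h : G) (V : Y.Opens) (a : Γ(X, q ⁻¹ᵁ V)) :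
    act hq h V (act hq g V a) = act hq (g * h) V a := by
  unfold act
  rw [← RingHom.comp_apply, ← CommRingCat.hom_comp, Scheme.Hom.appLE_comp_appLE,
    SGA1Q.appLE_congr_hom (SGA1Q.hom_mul ρ g h).symm]

omit [Finite G] in
lemma act_res (hq : SGA1.IsQuot ρ q) (g : G) {V W : Y.Opens} (h : W ≤ V) (a : Γ(X, q ⁻¹ᵁ V)) :
    act hq g W (AModX.resR (q.preimage_mono h) a) = AModX.resR (q.preimage_mono h) (act hq g V a) := by
  have : X.presheaf.map (homOfLE (q.preimage_mono h)).op ≫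
        (ρ g).hom.appLE (q ⁻¹ᵁ W) (q ⁻¹ᵁ W) (SGA1.preimage_le_of_inv ρ q hq.inv g W) =
      (ρ g).hom.appLE (q ⁻¹ᵁ V) (q ⁻¹ᵁ V) (SGA1.preimage_le_of_inv ρ q hq.inv g V) ≫
        X.presheaf.map (homOfLE (q.preimage_mono h)).op := by
    rw [Scheme.Hom.appLE_map, Scheme.Hom.map_appLE]
  exact congr(($this).hom a)

lemma exists_nm (hq : SGA1.IsQuot ρ q) (V : Y.Opens) (a : Γ(X, q ⁻¹ᵁ V)) :
    ∃ t : Γ(Y, V), (q.app V).hom t = (letI := Fintype.ofFinite G; ∏ g : G, act hq g V a) := by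
  letI := Fintype.ofFinite G
  refine (hq.range_iff V _).2 fun h => ?_
  show act hq h V _ = _
  rw [map_prod]
  simp only [act_act]
  exact Fintype.prod_equiv (Equiv.mulRight h) _ _ fun g => rfl

/-- The norm of a function. -/
def nm (hq : SGA1.IsQuot ρ q) (V : Y.Opens) : Γ(X, q ⁻¹ᵁ V) →* Γ(Y, V) where
  toFun a := (exists_nm hq V a).choose
  map_one' := hq.injective V (by
    rw [(exists_nm hq V 1).choose_spec, map_one]
    simp)
  map_mul' a b := hq.injective V (by
    rw [(exists_nm hq V _).choose_spec, map_mul, (exists_nm hq V a).choose_spec, (exists_nm hq V b).choose_spec]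
    simp [Finset.prod_mul_distrib])

lemma app_nm (hq : SGA1.IsQuot ρ q) (V : Y.Opens) (a : Γ(X, q ⁻¹ᵁ V)) :
    (q.app V).hom (nm hq V a) = (letI := Fintype.ofFinite G; ∏ g : G, act hq g V a) :=
  (exists_nm hq V a).choose_spec

lemma nm_res (hq : SGA1.IsQuot ρ q) {V W : Y.Opens} (h : W ≤ V) (a : Γ(X, q ⁻¹ᵁ V)) :
    nm hq W (AModX.resR (q.preimage_mono h) a) = AModX.resR h (nm hq V a) := by
  letI := Fintype.ofFinite G
  refine hq.injective W ?_
  rw [app_nm, show (q.app W).hom (AModX.resR h (nm hq V a)) = AModX.resR (q.preimage_mono h) ((q.app V).hom (nm hq V a))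
    from congr(($(q.naturality (homOfLE h).op)).hom (nm hq V a)), app_nm, map_prod]
  exact Finset.prod_congr rfl fun g _ => act_res hq g h a

lemma mem_basicOpen_nm (hq : SGA1.IsQuot ρ q) (V : Y.Opens) (a : Γ(X, q ⁻¹ᵁ V)) (x : X) (hx : q x ∈ V) :
    q x ∈ Y.basicOpen (nm hq V a) ↔ ∀ g : G, (ρ g).hom x ∈ X.basicOpen a := by
  classical
  letI := Fintype.ofFinite G
  show x ∈ q ⁻¹ᵁ Y.basicOpen (nm hq V a) ↔ _
  rw [Scheme.preimage_basicOpen, show q.app V (nm hq V a) = _ from app_nm hq V a, X.mem_basicOpen _ x hx, map_prod,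
    IsUnit.prod_univ_iff]
  refine forall_congr' fun g => ?_
  have hle := SGA1.preimage_le_of_inv ρ q hq.inv g V
  rw [← X.mem_basicOpen (act hq g V a) x hx,
    show X.basicOpen (act hq g V a) = X.basicOpen ((ρ g).hom.appLE (q ⁻¹ᵁ V) (q ⁻¹ᵁ V) hle a) from rfl,
    Scheme.basicOpen_appLE]
  exact ⟨fun h => h.2, fun h => ⟨hx, h⟩⟩

variable {L : X.Modules}

/-- A frame of `L` over the preimage of an open of the quotient. -/
abbrev Idx (q : X ⟶ Y) (L : X.Modules) : Type u :=
  {p : Σ V : Y.Opens, Γ(L, q ⁻¹ᵁ V) // InvX.IsFrame p.2}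

/-- The norm of `L`: an invertible module on the quotient with a frame for each frame of `L` over the preimage
of an open, transforming by the norm. -/
theorem exists_norm (hq : SGA1.IsQuot ρ q)
    (hfr : ∀ y : Y, ∃ i : Idx q L, y ∈ i.1.1) :
    ∃ (M : Y.Modules) (n : ∀ i : Idx q L, Γ(M, i.1.1)), PicF.IsInvertible M ∧ (∀ i, InvX.IsFrame (n i)) ∧
      ∀ (i j : Idx q L) (W : Y.Opens) (hi : W ≤ i.1.1) (hj : W ≤ j.1.1) (g : Γ(X, q ⁻¹ᵁ W)),
        AModX.res L (q.preimage_mono hi) i.1.2 = g • AModX.res L (q.preimage_mono hj) j.1.2 →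
        AModX.res M hi (n i) = nm hq W g • AModX.res M hj (n j) := by
  have hco : ∀ (i j : Idx q L) (W : Y.Opens) (hi : W ≤ i.1.1) (hj : W ≤ j.1.1), ∃ g : Γ(X, q ⁻¹ᵁ W),
      AModX.res L (q.preimage_mono hi) i.1.2 = g • AModX.res L (q.preimage_mono hj) j.1.2 := fun i j W hi hj => by
    obtain ⟨g, hg⟩ := j.2.exists_coord (q.preimage_mono hj) (AModX.res L (q.preimage_mono hi) i.1.2)
    exact ⟨g, hg⟩
  choose c hc using hco
  have huniq : ∀ (i j : Idx q L) (W : Y.Opens) (hi : W ≤ i.1.1) (hj : W ≤ j.1.1) (g : Γ(X, q ⁻¹ᵁ W)),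
      AModX.res L (q.preimage_mono hi) i.1.2 = g • AModX.res L (q.preimage_mono hj) j.1.2 → c i j W hi hj = g :=
    fun i j W hi hj g hg => j.2.coord_unique (q.preimage_mono hj) ((hc i j W hi hj).symm.trans hg)
  obtain ⟨M, n, hM, hn, hrel⟩ := LineGlue.exists_line (fun i : Idx q L => i.1.1) hfr
    (fun i j W hi hj => nm hq W (c i j W hi hj))
    (fun i j W hi hj => (PicfLib.Trans.isUnit_coord (j.2.res _) (i.2.res _) (hc i j W hi hj)).map _)
    (fun i j W W' hi hj h => by
      rw [← nm_res]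
      congr 1
      refine (huniq i j W' (h.trans hi) (h.trans hj) _ ?_).symm
      have := congrArg (AModX.res L (q.preimage_mono h)) (hc i j W hi hj)
      rw [AModX.res_res, AModX.res_smul, AModX.res_res] at this
      exact this)
    (fun i j l W hi hj hl => by
      rw [← map_mul]
      congr 1
      refine (huniq i l W hi hl _ ?_).symm
      rw [mul_smul, ← hc j l W hj hl, ← hc i j W hi hj])
  refine ⟨M, n, hM, hn, fun i j W hi hj g hg => ?_⟩
  rw [hrel i j W hi hj, huniq i j W hi hj g hg]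

/-- Every orbit in an affine open has a stable neighbourhood on which `L` is trivial. -/
theorem exists_idx (hq : SGA1.IsQuot ρ q) (hL : PicF.IsInvertible L)
    (haff : ∀ x : X, ∃ U : X.Opens, IsAffineOpen U ∧ ∀ g : G, (ρ g).hom x ∈ U) (y : Y) :
    ∃ i : Idx q L, y ∈ i.1.1 := by
  classical
  letI := Fintype.ofFinite G
  obtain ⟨x, rfl⟩ := SGA1Q.surjective hq y
  obtain ⟨U, hU, hx⟩ := haff x
  obtain ⟨l, hl⟩ := Div86.exists_generator hL hU (Finset.univ.image fun g : G => (⟨(ρ g).hom x, hx g⟩ : U))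
  have hloc : ∀ g : G, (ρ g).hom x ∈ AmpleX.locus l := fun g => by
    obtain ⟨V, hxV, e, he⟩ := InvX.exists_frame hL ((ρ g).hom x)
    have hxW : (ρ g).hom x ∈ V ⊓ U := ⟨hxV, hx g⟩
    obtain ⟨c, hc⟩ := (he.res (inf_le_left : V ⊓ U ≤ V)).exists_coord le_rfl
      (AModX.res L (inf_le_right : V ⊓ U ≤ U) l)
    rw [AModX.res_self] at hc
    refine (?_ : _ ∈ AmpleX.locus l ⊓ (V ⊓ U)).1
    rw [AmpleX.locus_inf l inf_le_right (he.res inf_le_left) hc, X.mem_basicOpen _ _ hxW]
    obtain ⟨d, hd⟩ := (hl ⟨_, hx g⟩ (Finset.mem_image_of_mem _ (Finset.mem_univ g))).2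
      (L.presheaf.germ (V ⊓ U) _ hxW (AModX.res L (inf_le_left : V ⊓ U ≤ V) e))
    have hg := congrArg (L.presheaf.germ (V ⊓ U) _ hxW) hc
    rw [InvX.germ_res', QCoh.germ_smul'] at hg
    simp only at hd
    rw [hg, ← mul_smul] at hd
    exact IsUnit.of_mul_eq_one_right d (((he.res inf_le_left).germ_bijective hxW).1
      (hd.trans (one_smul _ _).symm))
  haveI := hq.affine
  haveI := SGA1Q.isIntegralHom hq
  let B : Set X := ((AmpleX.locus l : X.Opens) : Set X)ᶜ
  have hB : IsClosed (q '' B) := q.isClosedMap _ (AmpleX.locus l).isOpen.isClosed_compl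
  let V : Y.Opens := ⟨(q '' B)ᶜ, hB.isOpen_compl⟩
  have hle : q ⁻¹ᵁ V ≤ AmpleX.locus l := fun z hz => by
    by_contra h
    exact hz ⟨z, h, rfl⟩
  refine ⟨⟨⟨V, AModX.res L (hle.trans (AmpleX.locus_le l)) l⟩, AmpleX.isFrame_res_of_le l hle⟩, ?_⟩
  rintro ⟨z, hz, he⟩
  obtain ⟨g, rfl⟩ := (SGA1Q.orbit_iff hq x z).1 he.symm
  exact hz (hloc g)

/-- The norm of a section of a power of `L`, with its locus of generation. -/
theorem exists_norm_section (hq : SGA1.IsQuot ρ q) {M : Y.Modules} (n : ∀ i : Idx q L, Γ(M, i.1.1))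
    (hn : ∀ i, InvX.IsFrame (n i))
    (hrel : ∀ (i j : Idx q L) (W : Y.Opens) (hi : W ≤ i.1.1) (hj : W ≤ j.1.1) (g : Γ(X, q ⁻¹ᵁ W)),
        AModX.res L (q.preimage_mono hi) i.1.2 = g • AModX.res L (q.preimage_mono hj) j.1.2 →
        AModX.res M hi (n i) = nm hq W g • AModX.res M hj (n j))
    (hfr : ∀ y : Y, ∃ i : Idx q L, y ∈ i.1.1)
    (m : ℕ) (O : Y.Opens) (a : Γ(CohB1.tensorPow L m, q ⁻¹ᵁ O)) :
    ∃ b : Γ(CohB1.tensorPow M m, O), ∀ x : X, q x ∈ O →
      (q x ∈ AmpleX.locus b ↔ ∀ g : G, (ρ g).hom x ∈ AmpleX.locus a) := by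
  let W : Idx q L → Y.Opens := fun i => O ⊓ i.1.1
  let e : ∀ i : Idx q L, Γ(CohB1.tensorPow L m, q ⁻¹ᵁ W i) := fun i =>
    PicfLib.Trans.powSec (AModX.res L (q.preimage_mono inf_le_right) i.1.2) m
  have he : ∀ i, InvX.IsFrame (e i) := fun i => PicfLib.Trans.isFrame_powSec (i.2.res _) m
  let d : ∀ i : Idx q L, Γ(CohB1.tensorPow M m, W i) := fun i =>
    PicfLib.Trans.powSec (AModX.res M (inf_le_right : W i ≤ _) (n i)) m
  have hd : ∀ i, InvX.IsFrame (d i) := fun i => PicfLib.Trans.isFrame_powSec ((hn i).res _) m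
  have hc := fun i => (he i).exists_coord le_rfl (AModX.res _ (q.preimage_mono (inf_le_left : W i ≤ O)) a)
  choose c hc using hc
  simp only [AModX.res_self] at hc
  obtain ⟨b, hb, -⟩ := AModX.existsUnique_glue (M := CohB1.tensorPow M m) (V := O) W (fun _ => inf_le_left)
    (fun p hp => (hfr p).imp fun i hi => ⟨hp, hi⟩) (fun i => nm hq (W i) (c i) • d i) (fun i j => by
      have hWi : W i ⊓ W j ≤ i.1.1 := inf_le_left.trans inf_le_right
      have hWj : W i ⊓ W j ≤ j.1.1 := inf_le_right.trans inf_le_right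
      obtain ⟨g, hg⟩ := j.2.exists_coord (q.preimage_mono hWj) (AModX.res L (q.preimage_mono hWi) i.1.2)
      have hWO : W i ⊓ W j ≤ O := inf_le_left.trans inf_le_left
      have h1 : AModX.res (CohB1.tensorPow L m) (q.preimage_mono hWO) a =
          AModX.resR (q.preimage_mono (inf_le_left : W i ⊓ W j ≤ W i)) (c i) •
            PicfLib.Trans.powSec (AModX.res L (q.preimage_mono hWi) i.1.2) m := by
        rw [← AModX.res_res (M := CohB1.tensorPow L m) (q.preimage_mono (inf_le_left : W i ≤ O))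
          (q.preimage_mono (inf_le_left : W i ⊓ W j ≤ W i)) a, hc i, AModX.res_smul]
        exact congrArg (_ • ·) ((PicfLib.Trans.res_powSec _ _ m).trans
          (congrArg (fun t => PicfLib.Trans.powSec t m) (AModX.res_res (q.preimage_mono inf_le_right)
            (q.preimage_mono (inf_le_left : W i ⊓ W j ≤ W i)) i.1.2)))
      have h2 : AModX.res (CohB1.tensorPow L m) (q.preimage_mono hWO) a =
          AModX.resR (q.preimage_mono (inf_le_right : W i ⊓ W j ≤ W j)) (c j) •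
            PicfLib.Trans.powSec (AModX.res L (q.preimage_mono hWj) j.1.2) m := by
        rw [← AModX.res_res (M := CohB1.tensorPow L m) (q.preimage_mono (inf_le_left : W j ≤ O))
          (q.preimage_mono (inf_le_right : W i ⊓ W j ≤ W j)) a, hc j, AModX.res_smul]
        exact congrArg (_ • ·) ((PicfLib.Trans.res_powSec _ _ m).trans
          (congrArg (fun t => PicfLib.Trans.powSec t m) (AModX.res_res (q.preimage_mono inf_le_right)
            (q.preimage_mono (inf_le_right : W i ⊓ W j ≤ W j)) j.1.2)))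
      rw [hg, PicfLib.Trans.powSec_smul, ← mul_smul] at h1
      have hco := (PicfLib.Trans.isFrame_powSec (j.2.res (q.preimage_mono hWj)) m).coord_unique le_rfl
        (r := AModX.resR (q.preimage_mono inf_le_right) (c j))
        (r' := AModX.resR (q.preimage_mono inf_le_left) (c i) * g ^ m) (by
          rw [AModX.res_self]
          exact h2.symm.trans h1)
      simp only [d, AModX.res_smul, PicfLib.Trans.res_powSec]
      rw [show AModX.res M (inf_le_left : W i ⊓ W j ≤ W i) (AModX.res M (inf_le_right : W i ≤ i.1.1) (n i)) =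
          AModX.res M hWi (n i) from AModX.res_res _ _ _,
        show AModX.res M (inf_le_right : W i ⊓ W j ≤ W j) (AModX.res M (inf_le_right : W j ≤ j.1.1) (n j)) =
          AModX.res M hWj (n j) from AModX.res_res _ _ _]
      rw [hrel i j _ hWi hWj g hg, PicfLib.Trans.powSec_smul, ← mul_smul, ← nm_res, ← nm_res, hco,
        map_mul, map_pow])
  refine ⟨b, fun x hx => ?_⟩
  obtain ⟨i, hi⟩ := hfr (q x)
  have hxW : q x ∈ W i := ⟨hx, hi⟩
  have k1 := AmpleX.locus_inf b inf_le_left (hd i) (hb i)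
  have k2 := AmpleX.locus_inf a (q.preimage_mono inf_le_left) (he i) (hc i)
  have hgx : ∀ g : G, (ρ g).hom x ∈ q ⁻¹ᵁ W i := fun g => SGA1.preimage_le_of_inv ρ q hq.inv g (W i) hxW
  constructor
  · intro h g
    have h' : q x ∈ Y.basicOpen (nm hq (W i) (c i)) := by rw [← k1]; exact ⟨h, hxW⟩
    have := (mem_basicOpen_nm hq (W i) (c i) x hxW).1 h' g
    rw [← k2] at this
    exact this.1
  · intro h
    have h' : q x ∈ Y.basicOpen (nm hq (W i) (c i)) :=
      (mem_basicOpen_nm hq (W i) (c i) x hxW).2 fun g => by rw [← k2]; exact ⟨h g, hgx g⟩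
    rw [← k1] at h'
    exact h'.1

end Groth.Agent.IntTh85.NormLine
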