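import Groth.Agent.SymProdLib.Box

/-!
# Boxes with a different affine open in each factor

Adapted from `Groth.Agent.SymProdLib.Box`.
-/

set_option autoImplicit false
set_option linter.style.haveILetI false

universe u

open CategoryTheory CategoryTheory.Limits AlgebraicGeometry Opposite
open scoped TensorProduct
open Groth.Agent.SymProdLib (appLE_congr_hom)

namespace Groth.Agent.IntTh85.PBox

variable {X S : Scheme.{u}} (f : X ⟶ S) (d : ℕ)

/-- The open `base ⁻¹ V ∩ ⋂ i, pr_i ⁻¹ U` of the fibre power. -/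
noncomputable def pbox (V : S.Opens) (U : Fin d → X.Opens) : (SymProd.fibPow f d).Opens :=
  ⟨(WidePullback.base fun _ : Fin d => f).base ⁻¹' (V : Set S) ∩
      ⋂ i : Fin d, (WidePullback.π (fun _ : Fin d => f) i).base ⁻¹' (U i : Set X),
    (V.2.preimage (Scheme.Hom.continuous _)).inter
      (isOpen_iInter_of_finite fun _ => (U _).2.preimage (Scheme.Hom.continuous _))⟩

variable {f d} {V : S.Opens} {U : Fin d → X.Opens}

theorem mem_pbox {x : ↥(SymProd.fibPow f d)} :
    x ∈ pbox f d V U ↔ (WidePullback.base fun _ : Fin d => f).base x ∈ V ∧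
      ∀ i : Fin d, (WidePullback.π (fun _ : Fin d => f) i).base x ∈ U i := by
  show x ∈ (_ ∩ _ : Set _) ↔ _
  simp

theorem pbox_le_base : pbox f d V U ≤ (WidePullback.base fun _ : Fin d => f) ⁻¹ᵁ V :=
  fun _ hx => (mem_pbox.1 hx).1

theorem pbox_le_π (i : Fin d) : pbox f d V U ≤ (WidePullback.π (fun _ : Fin d => f) i) ⁻¹ᵁ U i :=
  fun _ hx => (mem_pbox.1 hx).2 i

theorem f_π_apply (i : Fin d) (x : ↥(SymProd.fibPow f d)) :
    f.base ((WidePullback.π (fun _ : Fin d => f) i).base x) =
      (WidePullback.base fun _ : Fin d => f).base x := by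
  rw [← Scheme.Hom.comp_apply, WidePullback.π_arrow]

/-- The `i`-th projection on sections, as an algebra map. -/
noncomputable def projHom [∀ i, Algebra Γ(S, V) Γ(X, U i)] (e : ∀ i, U i ≤ f ⁻¹ᵁ V)
    (halg : ∀ i, algebraMap Γ(S, V) Γ(X, U i) = (f.appLE V (U i) (e i)).hom) (i : Fin d) :
    letI := ((WidePullback.base fun _ : Fin d => f).appLE V (pbox f d V U) pbox_le_base).hom.toAlgebra
    Γ(X, U i) →ₐ[Γ(S, V)] Γ(SymProd.fibPow f d, pbox f d V U) :=
  letI := ((WidePullback.base fun _ : Fin d => f).appLE V (pbox f d V U) pbox_le_base).hom.toAlgebra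
  { ((WidePullback.π (fun _ : Fin d => f) i).appLE (U i) (pbox f d V U) (pbox_le_π i)).hom with
    commutes' := fun r => by
      show ((WidePullback.π (fun _ : Fin d => f) i).appLE (U i) (pbox f d V U) (pbox_le_π i)).hom
          (algebraMap Γ(S, V) Γ(X, U i) r) = _
      rw [halg i, ← RingHom.comp_apply, ← CommRingCat.hom_comp, Scheme.Hom.appLE_comp_appLE]
      rw [appLE_congr_hom (WidePullback.π_arrow (fun _ : Fin d => f) i) _ pbox_le_base]
      rfl }

variable [∀ i, Algebra Γ(S, V) Γ(X, U i)] (e : ∀ i, U i ≤ f ⁻¹ᵁ V)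
  (halg : ∀ i, algebraMap Γ(S, V) Γ(X, U i) = (f.appLE V (U i) (e i)).hom)

/-- The canonical map from the tensor power to the sections on the box. -/
noncomputable def boxHom :
    (⨂[Γ(S, V)] i : Fin d, Γ(X, U i)) →+* Γ(SymProd.fibPow f d, pbox f d V U) :=
  letI := ((WidePullback.base fun _ : Fin d => f).appLE V (pbox f d V U) pbox_le_base).hom.toAlgebra
  (PiTensorProduct.liftAlgHom
    ((MultilinearMap.mkPiAlgebra Γ(S, V) (Fin d) Γ(SymProd.fibPow f d, pbox f d V U)).compLinearMap
      fun i => (projHom e halg i).toLinearMap)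
    (by simp) (by intro x y; simp [Finset.prod_mul_distrib])).toRingHom

theorem boxHom_tprod (a : ∀ i, Γ(X, U i)) :
    boxHom e halg (PiTensorProduct.tprod Γ(S, V) a) =
      ∏ i, ((WidePullback.π (fun _ : Fin d => f) i).appLE (U i) (pbox f d V U) (pbox_le_π i)).hom (a i) := by
  letI := ((WidePullback.base fun _ : Fin d => f).appLE V (pbox f d V U) pbox_le_base).hom.toAlgebra
  show PiTensorProduct.lift _ (PiTensorProduct.tprod Γ(S, V) a) = _
  rw [PiTensorProduct.lift.tprod]
  rfl

theorem boxHom_algebraMap (r : Γ(S, V)) :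
    boxHom e halg (algebraMap Γ(S, V) _ r) =
      ((WidePullback.base fun _ : Fin d => f).appLE V (pbox f d V U) pbox_le_base).hom r := by
  letI := ((WidePullback.base fun _ : Fin d => f).appLE V (pbox f d V U) pbox_le_base).hom.toAlgebra
  exact AlgHom.commutes _ r

theorem boxHom_single (i : Fin d) (a : Γ(X, U i)) :
    boxHom e halg (PiTensorProduct.singleAlgHom (R := Γ(S, V)) (A := fun i : Fin d => Γ(X, U i)) i a) =
      ((WidePullback.π (fun _ : Fin d => f) i).appLE (U i) (pbox f d V U) (pbox_le_π i)).hom a := by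
  rw [PiTensorProduct.singleAlgHom_apply, boxHom_tprod]
  rw [Finset.prod_eq_single i]
  · simp
  · intro j _ hj
    simp [Pi.mulSingle_eq_of_ne hj]
  · simp

theorem ringHom_ext {R C : Type u} [CommRing R] {n : ℕ} {A : Fin n → Type u} [∀ i, CommRing (A i)]
    [∀ i, Algebra R (A i)] [CommRing C] (φ ψ : (⨂[R] i, A i) →+* C) (h₀ : φ.comp (algebraMap R _) = ψ.comp (algebraMap R _))
    (h₁ : ∀ i a, φ (PiTensorProduct.singleAlgHom (R := R) (A := A) i a) =
      ψ (PiTensorProduct.singleAlgHom (R := R) (A := A) i a)) : φ = ψ := by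
  letI := (φ.comp (algebraMap R _)).toAlgebra
  let φ' : (⨂[R] i, A i) →ₐ[R] C := { φ with commutes' := fun r => rfl }
  let ψ' : (⨂[R] i, A i) →ₐ[R] C :=
    { ψ with commutes' := fun r => (RingHom.congr_fun h₀ r).symm }
  have : φ' = ψ' := PiTensorProduct.algHom_ext fun i => AlgHom.ext fun a => h₁ i a
  exact RingHom.ext fun x => AlgHom.congr_fun this x

variable (hV : IsAffineOpen V) (hU : ∀ i, IsAffineOpen (U i))

/-- The map from the box to `Spec` of the tensor power. -/
noncomputable def toSpecBox : (pbox f d V U).toScheme ⟶ Spec (CommRingCat.of (⨂[Γ(S, V)] i : Fin d, Γ(X, U i))) :=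
  (pbox f d V U).toSpecΓ ≫ Spec.map (CommRingCat.ofHom (boxHom e halg))

include hV in
theorem toSpecBox_base :
    toSpecBox e halg ≫ Spec.map (CommRingCat.ofHom (algebraMap Γ(S, V) _)) ≫ hV.fromSpec =
      (pbox f d V U).ι ≫ WidePullback.base fun _ : Fin d => f := by
  rw [toSpecBox, Category.assoc, ← Spec.map_comp_assoc]
  have : CommRingCat.ofHom (algebraMap Γ(S, V) (⨂[Γ(S, V)] i : Fin d, Γ(X, U i))) ≫
      CommRingCat.ofHom (boxHom e halg) =
        (WidePullback.base fun _ : Fin d => f).appLE V (pbox f d V U) pbox_le_base :=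
    CommRingCat.hom_ext (RingHom.ext fun r => boxHom_algebraMap e halg r)
  rw [this, Scheme.Opens.toSpecΓ_SpecMap_appLE_assoc, IsAffineOpen.toSpecΓ_fromSpec,
    Scheme.Hom.resLE_comp_ι]

include hU in
theorem toSpecBox_π (i : Fin d) :
    toSpecBox e halg ≫ Spec.map (CommRingCat.ofHom (PiTensorProduct.singleAlgHom (R := Γ(S, V))
      (A := fun i : Fin d => Γ(X, U i)) i).toRingHom) ≫ (hU i).fromSpec =
      (pbox f d V U).ι ≫ WidePullback.π (fun _ : Fin d => f) i := by
  rw [toSpecBox, Category.assoc, ← Spec.map_comp_assoc]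
  have : CommRingCat.ofHom (PiTensorProduct.singleAlgHom (R := Γ(S, V))
      (A := fun i : Fin d => Γ(X, U i)) i).toRingHom ≫ CommRingCat.ofHom (boxHom e halg) =
        (WidePullback.π (fun _ : Fin d => f) i).appLE (U i) (pbox f d V U) (pbox_le_π i) :=
    CommRingCat.hom_ext (RingHom.ext fun a => boxHom_single e halg i a)
  rw [this, Scheme.Opens.toSpecΓ_SpecMap_appLE_assoc, IsAffineOpen.toSpecΓ_fromSpec,
    Scheme.Hom.resLE_comp_ι]

/-- The map from `Spec` of the tensor power to the fibre power. -/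
noncomputable def fromSpecBox (hV : IsAffineOpen V) (hU : ∀ i, IsAffineOpen (U i)) (e : ∀ i, U i ≤ f ⁻¹ᵁ V)
    (halg : ∀ i, algebraMap Γ(S, V) Γ(X, U i) = (f.appLE V (U i) (e i)).hom) :
    Spec (CommRingCat.of (⨂[Γ(S, V)] i : Fin d, Γ(X, U i))) ⟶ SymProd.fibPow f d :=
  WidePullback.lift (Spec.map (CommRingCat.ofHom (algebraMap Γ(S, V) _)) ≫ hV.fromSpec)
    (fun i => Spec.map (CommRingCat.ofHom (PiTensorProduct.singleAlgHom (R := Γ(S, V))
      (A := fun i : Fin d => Γ(X, U i)) i).toRingHom) ≫ (hU i).fromSpec)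
    (fun i => by
      rw [Category.assoc, ← hV.SpecMap_appLE_fromSpec f (hU i) (e i), ← Spec.map_comp_assoc]
      congr 2
      refine CommRingCat.hom_ext (RingHom.ext fun r => ?_)
      show (PiTensorProduct.singleAlgHom (R := Γ(S, V)) (A := fun i : Fin d => Γ(X, U i)) i)
        ((f.appLE V (U i) (e i)).hom r) = _
      rw [← halg i, AlgHom.commutes]
      rfl)

theorem range_fromSpecBox (p : Spec (CommRingCat.of (⨂[Γ(S, V)] i : Fin d, Γ(X, U i)))) :
    (fromSpecBox hV hU e halg).base p ∈ pbox f d V U := by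
  rw [mem_pbox]
  refine ⟨?_, fun i => ?_⟩ <;> rw [← Scheme.Hom.comp_apply, fromSpecBox]
  · rw [WidePullback.lift_base, Scheme.Hom.comp_apply, ← SetLike.mem_coe, ← hV.range_fromSpec]
    exact ⟨_, rfl⟩
  · rw [WidePullback.lift_π, Scheme.Hom.comp_apply, ← SetLike.mem_coe, ← (hU i).range_fromSpec]
    exact ⟨_, rfl⟩

include hV hU in
theorem isIso_toSpecBox : IsIso (toSpecBox (d := d) e halg) := by
  let ψ : Spec (CommRingCat.of (⨂[Γ(S, V)] i : Fin d, Γ(X, U i))) ⟶ (pbox f d V U).toScheme :=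
    IsOpenImmersion.lift (pbox f d V U).ι (fromSpecBox hV hU e halg) (by
      rintro _ ⟨p, rfl⟩
      rw [Scheme.Opens.range_ι]
      exact range_fromSpecBox e halg hV hU p)
  have hψ : ψ ≫ (pbox f d V U).ι = fromSpecBox hV hU e halg := IsOpenImmersion.lift_fac _ _ _
  refine ⟨ψ, ?_, ?_⟩
  · rw [← cancel_mono (pbox f d V U).ι, Category.assoc, hψ, Category.id_comp]
    refine WidePullback.hom_ext _ _ _ (fun i => ?_) ?_
    · rw [Category.assoc, fromSpecBox, WidePullback.lift_π, toSpecBox_π e halg hU i]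
    · rw [Category.assoc, fromSpecBox, WidePullback.lift_base, toSpecBox_base e halg hV]
  · obtain ⟨φ, hφ⟩ := Spec.map_surjective (ψ ≫ toSpecBox e halg)
    have h0 : CommRingCat.ofHom (algebraMap Γ(S, V) (⨂[Γ(S, V)] i : Fin d, Γ(X, U i))) ≫ φ =
        CommRingCat.ofHom (algebraMap Γ(S, V) _) := by
      apply Spec.map_injective
      rw [← cancel_mono hV.fromSpec, Spec.map_comp, hφ, Category.assoc, Category.assoc,
        toSpecBox_base e halg hV, reassoc_of% hψ, fromSpecBox, WidePullback.lift_base]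
    have h1 : ∀ i, CommRingCat.ofHom (PiTensorProduct.singleAlgHom (R := Γ(S, V))
          (A := fun i : Fin d => Γ(X, U i)) i).toRingHom ≫ φ =
        CommRingCat.ofHom (PiTensorProduct.singleAlgHom (R := Γ(S, V))
          (A := fun i : Fin d => Γ(X, U i)) i).toRingHom := by
      intro i
      apply Spec.map_injective
      rw [← cancel_mono (hU i).fromSpec, Spec.map_comp, hφ, Category.assoc, Category.assoc,
        toSpecBox_π e halg hU i, reassoc_of% hψ, fromSpecBox, WidePullback.lift_π]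
    have : φ = 𝟙 _ := CommRingCat.hom_ext (ringHom_ext φ.hom (RingHom.id _)
      (RingHom.ext fun r => congr(($h0).hom r)) (fun i a => congr(($(h1 i)).hom a)))
    rw [← hφ, this, Spec.map_id]

omit [∀ i, Algebra Γ(S, V) Γ(X, U i)] in
include e hV hU in
/-- Boxes of affine opens are affine. -/
theorem isAffineOpen_box : IsAffineOpen (pbox f d V U) := by
  letI := fun i => (f.appLE V (U i) (e i)).hom.toAlgebra
  haveI := isIso_toSpecBox (d := d) e (fun _ => rfl) hV hU
  exact IsAffine.of_isIso (toSpecBox (d := d) e (fun _ => rfl))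

include hV hU in
theorem boxHom_bijective : Function.Bijective (boxHom (d := d) e halg) := by
  haveI := isIso_toSpecBox (d := d) e halg hV hU
  have hW : IsAffineOpen (pbox f d V U) := IsAffine.of_isIso (toSpecBox (d := d) e halg)
  haveI : IsIso (pbox f d V U).toSpecΓ := by
    rw [show (pbox f d V U).toSpecΓ = hW.isoSpec.hom from rfl]; infer_instance
  have hc : IsIso ((pbox f d V U).toSpecΓ ≫ Spec.map (CommRingCat.ofHom (boxHom (d := d) e halg))) :=
    isIso_toSpecBox (d := d) e halg hV hU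
  have h2 : IsIso (Spec.map (CommRingCat.ofHom (boxHom (d := d) e halg))) :=
    IsIso.of_isIso_comp_left (pbox f d V U).toSpecΓ _
  exact isIso_SpecMap_iff.mp h2

end Groth.Agent.IntTh85.PBox
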