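import Groth.Agent.IntTh85.PBox
import Groth.Prelude.Def_SymTen

/-!
# The component of a pattern in a tensor power of a product

For `j : Fin d → κ` the tensor power of `∏ a, A a` maps onto `⊗ i, A (j i)`, the kernel being killed by
an idempotent; this is applied to the box of a family of affine opens.
-/

set_option autoImplicit false
set_option linter.style.haveILetI false

universe u

open CategoryTheory CategoryTheory.Limits AlgebraicGeometry Opposite
open scoped TensorProduct
open Groth.Agent.SymProdLib (appLE_congr_hom)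

namespace Groth.Agent.IntTh85.Pattern

section Alg

variable (R : Type u) [CommRing R] {κ : Type u} [DecidableEq κ] (A : κ → Type u) [∀ a, CommRing (A a)]
  [∀ a, Algebra R (A a)] {d : ℕ} (j : Fin d → κ)

/-- Evaluation at the pattern. -/
noncomputable def ev : (⨂[R] _ : Fin d, (∀ a, A a)) →ₐ[R] ⨂[R] i : Fin d, A (j i) :=
  PiTensorProduct.liftAlgHom
    ((PiTensorProduct.tprod R).compLinearMap fun i => (LinearMap.proj (j i) : (∀ a, A a) →ₗ[R] A (j i)))
    (by simp [PiTensorProduct.one_def]; rfl)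
    (by intro x y; simp [PiTensorProduct.tprod_mul_tprod]; rfl)

@[simp]
theorem ev_tprod (a : Fin d → ∀ k, A k) :
    ev R A j (PiTensorProduct.tprod R a) = PiTensorProduct.tprod R fun i => a i (j i) := by
  simp [ev]

/-- The section. -/
noncomputable def sec : (⨂[R] i : Fin d, A (j i)) →ₗ[R] ⨂[R] _ : Fin d, (∀ a, A a) :=
  PiTensorProduct.map fun i => LinearMap.single R A (j i)

@[simp]
theorem sec_tprod (a : ∀ i, A (j i)) :
    sec R A j (PiTensorProduct.tprod R a) = PiTensorProduct.tprod R fun i => Pi.single (j i) (a i) := by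
  simp [sec, LinearMap.single_apply]

/-- The idempotent of the pattern. -/
noncomputable def idem : ⨂[R] _ : Fin d, (∀ a, A a) :=
  PiTensorProduct.tprod R fun i => Pi.single (j i) 1

theorem ev_sec (t : ⨂[R] i : Fin d, A (j i)) : ev R A j (sec R A j t) = t := by
  induction t using PiTensorProduct.induction_on with
  | smul_tprod r a => simp
  | add x y hx hy => simp only [map_add, hx, hy]

theorem ev_surjective : Function.Surjective (ev R A j) := fun t => ⟨_, ev_sec R A j t⟩

theorem sec_ev (t : ⨂[R] _ : Fin d, (∀ a, A a)) : sec R A j (ev R A j t) = idem R A j * t := by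
  induction t using PiTensorProduct.induction_on with
  | add x y hx hy => simp only [map_add, mul_add, hx, hy]
  | smul_tprod r a =>
    haveI : SMulCommClass R (⨂[R] _ : Fin d, (∀ a, A a)) (⨂[R] _ : Fin d, (∀ a, A a)) :=
      Algebra.to_smulCommClass (R := R) (A := ⨂[R] _ : Fin d, (∀ a, A a))
    rw [map_smul, map_smul, mul_smul_comm]
    congr 1
    rw [ev_tprod, sec_tprod, idem, PiTensorProduct.tprod_mul_tprod]
    congr 1
    funext i k
    by_cases h : k = j i
    · subst h; simp
    · simp [Pi.single_eq_of_ne h]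

theorem ev_idem : ev R A j (idem R A j) = 1 := by
  simp [idem, PiTensorProduct.one_def]
  rfl

theorem perm_idem {σ : Equiv.Perm (Fin d)} (hσ : ∀ i, j (σ i) = j i) :
    SymTen.perm R (∀ a, A a) d σ (idem R A j) = idem R A j := by
  rw [idem, SymTen.perm_tprod]
  congr 1
  funext i
  have := hσ (σ.symm i)
  rw [Equiv.apply_symm_apply] at this
  rw [this]

theorem ev_perm_idem {σ : Equiv.Perm (Fin d)} {i : Fin d} (hσ : j (σ i) ≠ j i) :
    ev R A j (SymTen.perm R (∀ a, A a) d σ (idem R A j)) = 0 := by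
  rw [idem, SymTen.perm_tprod, ev_tprod]
  refine MultilinearMap.map_coord_zero _ (σ i) ?_
  rw [Equiv.symm_apply_apply]
  exact Pi.single_eq_of_ne hσ _

end Alg

section Scheme

variable {X S : Scheme.{u}} {f : X ⟶ S} {d : ℕ} {V : S.Opens} {κ : Type u} [DecidableEq κ]
  {U : κ → X.Opens} [∀ a, Algebra Γ(S, V) Γ(X, U a)] (j : Fin d → κ)
  (e : ∀ a, U a ≤ f ⁻¹ᵁ V) (halg : ∀ a, algebraMap Γ(S, V) Γ(X, U a) = (f.appLE V (U a) (e a)).hom)

/-- From the tensor power of the product to the sections on the box of the pattern. -/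
noncomputable def toBox : (⨂[Γ(S, V)] _ : Fin d, (∀ a, Γ(X, U a))) →+*
    Γ(SymProd.fibPow f d, PBox.pbox f d V fun i => U (j i)) :=
  (PBox.boxHom (U := fun i => U (j i)) (fun i => e (j i)) (fun i => halg (j i))).comp
    (ev Γ(S, V) (fun a => Γ(X, U a)) j).toRingHom

/-- Back to the tensor power. -/
noncomputable def ofBox (hV : IsAffineOpen V) (hU : ∀ a, IsAffineOpen (U a))
    (x : Γ(SymProd.fibPow f d, PBox.pbox f d V fun i => U (j i))) :
    ⨂[Γ(S, V)] _ : Fin d, (∀ a, Γ(X, U a)) :=
  sec Γ(S, V) (fun a => Γ(X, U a)) j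
    ((RingEquiv.ofBijective _ (PBox.boxHom_bijective (U := fun i => U (j i)) (fun i => e (j i))
      (fun i => halg (j i)) hV fun i => hU (j i))).symm x)

theorem toBox_algebraMap (r : Γ(S, V)) :
    toBox j e halg (algebraMap Γ(S, V) _ r) =
      ((WidePullback.base fun _ : Fin d => f).appLE V (PBox.pbox f d V fun i => U (j i))
        PBox.pbox_le_base).hom r := by
  show PBox.boxHom (U := fun i => U (j i)) (fun i => e (j i)) (fun i => halg (j i))
    (ev Γ(S, V) (fun a => Γ(X, U a)) j (algebraMap Γ(S, V) _ r)) = _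
  rw [AlgHom.commutes, PBox.boxHom_algebraMap]

theorem toBox_surjective (hV : IsAffineOpen V) (hU : ∀ a, IsAffineOpen (U a)) :
    Function.Surjective (toBox j e halg) :=
  ((PBox.boxHom_bijective (U := fun i => U (j i)) (fun i => e (j i)) (fun i => halg (j i)) hV
    fun i => hU (j i)).2).comp (ev_surjective _ _ j)

theorem ofBox_toBox (hV : IsAffineOpen V) (hU : ∀ a, IsAffineOpen (U a))
    (t : ⨂[Γ(S, V)] _ : Fin d, (∀ a, Γ(X, U a))) :
    ofBox j e halg hV hU (toBox j e halg t) = idem Γ(S, V) (fun a => Γ(X, U a)) j * t := by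
  rw [← sec_ev, ofBox]
  congr 1
  exact RingEquiv.symm_apply_apply (RingEquiv.ofBijective _ _) _

theorem toBox_single (i : Fin d) (a : ∀ k, Γ(X, U k)) :
    toBox j e halg (PiTensorProduct.singleAlgHom (R := Γ(S, V))
      (A := fun _ : Fin d => (∀ k, Γ(X, U k))) i a) =
      ((WidePullback.π (fun _ : Fin d => f) i).appLE (U (j i)) (PBox.pbox f d V fun i => U (j i))
        (PBox.pbox_le_π i)).hom (a (j i)) := by
  simp only [toBox, RingHom.comp_apply, AlgHom.toRingHom_eq_coe, RingHom.coe_coe]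
  rw [← PBox.boxHom_single (U := fun i => U (j i)) (fun i => e (j i)) (fun i => halg (j i)) i (a (j i))]
  congr 1
  rw [PiTensorProduct.singleAlgHom_apply, ev_tprod, PiTensorProduct.singleAlgHom_apply]
  congr 1
  funext k
  by_cases h : k = i
  · subst h; simp
  · simp [Pi.mulSingle_eq_of_ne h, MonoidHom.mulSingle_apply]

omit [DecidableEq κ] [∀ a, Algebra Γ(S, V) Γ(X, U a)] in
/-- The box of a pattern is stable under the permutations preserving the pattern. -/
theorem box_le_perm {σ : Equiv.Perm (Fin d)} (hσ : ∀ i, j (σ i) = j i) :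
    (PBox.pbox f d V fun i => U (j i)) ≤
      (SymProd.permHom f d σ) ⁻¹ᵁ PBox.pbox f d V fun i => U (j i) := by
  intro x hx
  rw [PBox.mem_pbox] at hx
  rw [Scheme.Hom.mem_preimage, PBox.mem_pbox]
  refine ⟨?_, fun i => ?_⟩
  · rw [← Scheme.Hom.comp_apply, SymProd.permHom_base]
    exact hx.1
  · rw [← Scheme.Hom.comp_apply, SymProd.permHom_π]
    have := hσ (σ.symm i)
    rw [Equiv.apply_symm_apply] at this
    rw [this]
    exact hx.2 (σ.symm i)

theorem toBox_perm {σ : Equiv.Perm (Fin d)} (hσ : ∀ i, j (σ i) = j i)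
    (h : (PBox.pbox f d V fun i => U (j i)) ≤
      (SymProd.permHom f d σ⁻¹) ⁻¹ᵁ PBox.pbox f d V fun i => U (j i))
    (t : ⨂[Γ(S, V)] _ : Fin d, (∀ a, Γ(X, U a))) :
    toBox j e halg (SymTen.perm Γ(S, V) (∀ a, Γ(X, U a)) d σ t) =
      ((SymProd.permHom f d σ⁻¹).appLE _ _ h).hom (toBox j e halg t) := by
  refine RingHom.congr_fun (PBox.ringHom_ext
    ((toBox j e halg).comp (SymTen.perm Γ(S, V) (∀ a, Γ(X, U a)) d σ).toRingHom)
    (((SymProd.permHom f d σ⁻¹).appLE _ _ h).hom.comp (toBox j e halg)) ?_ ?_) t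
  · refine RingHom.ext fun r => ?_
    simp only [RingHom.comp_apply, AlgHom.toRingHom_eq_coe, RingHom.coe_coe, AlgHom.commutes,
      toBox_algebraMap]
    rw [← RingHom.comp_apply, ← CommRingCat.hom_comp, Scheme.Hom.appLE_comp_appLE,
      appLE_congr_hom (SymProd.permHom_base f d σ⁻¹) _ PBox.pbox_le_base]
  · intro i a
    simp only [RingHom.comp_apply, AlgHom.toRingHom_eq_coe, RingHom.coe_coe]
    have hs : SymTen.perm Γ(S, V) (∀ a, Γ(X, U a)) d σ
        (PiTensorProduct.singleAlgHom (R := Γ(S, V)) (A := fun _ : Fin d => (∀ a, Γ(X, U a))) i a) =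
        PiTensorProduct.singleAlgHom (R := Γ(S, V)) (A := fun _ : Fin d => (∀ a, Γ(X, U a))) (σ i) a := by
      simp only [PiTensorProduct.singleAlgHom_apply, SymTen.perm_tprod]
      congr 1
      funext k
      simp only [MonoidHom.mulSingle_apply, Pi.mulSingle_apply, Equiv.symm_apply_eq]
    rw [hs, toBox_single, toBox_single, ← RingHom.comp_apply, ← CommRingCat.hom_comp,
      Scheme.Hom.appLE_comp_appLE]
    have h1 : SymProd.permHom f d σ⁻¹ ≫ WidePullback.π (fun _ : Fin d => f) i =
        WidePullback.π (fun _ : Fin d => f) (σ i) := SymProd.permHom_π f d σ⁻¹ i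
    have key : ∀ k, j i = k → ∀ (e₁ : (PBox.pbox f d V fun i => U (j i)) ≤
          (WidePullback.π (fun _ : Fin d => f) (σ i)) ⁻¹ᵁ U k)
        (e₂ : (PBox.pbox f d V fun i => U (j i)) ≤
          (SymProd.permHom f d σ⁻¹ ≫ WidePullback.π (fun _ : Fin d => f) i) ⁻¹ᵁ U (j i)),
        ((WidePullback.π (fun _ : Fin d => f) (σ i)).appLE (U k) _ e₁).hom (a k) =
          ((SymProd.permHom f d σ⁻¹ ≫ WidePullback.π (fun _ : Fin d => f) i).appLE (U (j i)) _ e₂).hom
            (a (j i)) := by
      rintro k rfl e₁ e₂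
      rw [appLE_congr_hom h1 e₂ e₁]
    exact key (j (σ i)) (hσ i).symm _ _

end Scheme

end Groth.Agent.IntTh85.Pattern
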