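import Groth.Agent.SymProdLib.FibPow
import Mathlib.AlgebraicGeometry.Morphisms.ClosedImmersion

/-!
# Fibre powers of a closed immersion
-/

set_option autoImplicit false
set_option linter.style.haveILetI false

universe u

open CategoryTheory CategoryTheory.Limits AlgebraicGeometry

namespace Groth.Agent.IntTh85.PowClosed

variable {X Z S : Scheme.{u}} {f : X ⟶ S} {fZ : Z ⟶ S} (i : Z ⟶ X) (w : i ≫ f = fZ)

theorem isClosedImmersion_fibPowMap [IsClosedImmersion i] :
    ∀ n : ℕ, IsClosedImmersion (SymProd.fibPowMap fZ n f i w)
  | 0 => by
    haveI := SymProdLib.isIso_base_zero f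
    haveI := SymProdLib.isIso_base_zero fZ
    have h : SymProd.fibPowMap fZ 0 f i w =
        WidePullback.base (fun _ : Fin 0 => fZ) ≫ inv (WidePullback.base fun _ : Fin 0 => f) := by
      rw [IsIso.eq_comp_inv, SymProd.fibPowMap_base]
    rw [h]
    infer_instance
  | n + 1 => by
    haveI := isClosedImmersion_fibPowMap n
    have hZ := SymProdLib.isPullback_succ fZ n
    have hX := SymProdLib.isPullback_succ f n
    haveI : MorphismProperty.IsStableUnderComposition @IsClosedImmersion.{u} :=
      ⟨fun a b ha hb => by haveI := ha; haveI := hb; infer_instance⟩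
    let φ := pullback.map (WidePullback.base fun _ : Fin n => fZ) fZ (WidePullback.base fun _ : Fin n => f) f
      (SymProd.fibPowMap fZ n f i w) i (𝟙 S)
      ((Category.comp_id _).trans (SymProd.fibPowMap_base fZ n f i w).symm)
      ((Category.comp_id _).trans w.symm)
    haveI : IsClosedImmersion φ :=
      MorphismProperty.pullback_map (P := @IsClosedImmersion) (isClosedImmersion_fibPowMap n)
        (inferInstanceAs (IsClosedImmersion i)) (SymProd.fibPowMap_base fZ n f i w).symm w.symm
    have h : SymProd.fibPowMap fZ (n + 1) f i w = hZ.isoPullback.hom ≫ φ ≫ hX.isoPullback.inv := by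
      rw [← Category.assoc, Iso.eq_comp_inv]
      refine pullback.hom_ext ?_ ?_
      · rw [Category.assoc, IsPullback.isoPullback_hom_fst, Category.assoc, pullback.lift_fst,
          IsPullback.isoPullback_hom_fst_assoc]
        refine WidePullback.hom_ext _ _ _ (fun a => ?_) ?_
        · rw [Category.assoc, Category.assoc, SymProdLib.dropLast_π, SymProd.fibPowMap_π,
            SymProd.fibPowMap_π, ← Category.assoc (SymProdLib.dropLast fZ n), SymProdLib.dropLast_π]
        · rw [Category.assoc, Category.assoc, SymProdLib.dropLast_base, SymProd.fibPowMap_base,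
            SymProd.fibPowMap_base, SymProdLib.dropLast_base]
      · rw [Category.assoc, IsPullback.isoPullback_hom_snd, SymProd.fibPowMap_π, Category.assoc,
          pullback.lift_snd, IsPullback.isoPullback_hom_snd_assoc]
    rw [h]
    infer_instance

end Groth.Agent.IntTh85.PowClosed
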