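import Groth.Agent.ProjUPX.Affine
import Groth.Agent.ProjPt.Sections
import Groth.Agent.SGA1Q.Affine
import Groth.Prelude.Def_SGA1
import Mathlib.AlgebraicGeometry.ProjectiveSpectrum.Functor
import Mathlib.RingTheory.Invariant.Basic
import Mathlib.RingTheory.Polynomial.Vieta

/-!
# Quotient of `Proj` by a finite group acting on the graded algebra

A morphism between `Proj`s which is chartwise given by a graded ring map `g` has `D₊(g c)` as preimage of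
`D₊(c)` (when these cover) and acts on sections over these opens by `g`.
-/

set_option linter.style.haveILetI false
set_option backward.isDefEq.respectTransparency false
set_option backward.isDefEq.respectTransparency.types false

universe u

open CategoryTheory CategoryTheory.Limits AlgebraicGeometry TopologicalSpace
open HomogeneousLocalization (Away)

noncomputable section

namespace Groth.Agent.IntTh85.ProjQuot

variable {R R' A B : Type u} [CommRing R] [CommRing R'] [CommRing A] [CommRing B] [Algebra R A] [Algebra R' B]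
  {𝒜 : ℕ → Submodule R A} [GradedAlgebra 𝒜] {ℬ : ℕ → Submodule R' B} [GradedAlgebra ℬ]

/-- The map of degree zero localisations induced by `g` with `g a = b`. -/
def θ (g : 𝒜 →+*ᵍ ℬ) {a : A} {b : B} (h : g a = b) : Away 𝒜 a →+* Away ℬ b :=
  HomogeneousLocalization.map g (by rintro _ ⟨n, rfl⟩; exact ⟨n, by simp [h]⟩)

theorem θ_mk (g : 𝒜 →+*ᵍ ℬ) {a : A} {b : B} (h : g a = b) {d : ℕ} (ha : a ∈ 𝒜 d) (hb : b ∈ ℬ d)
    (n : ℕ) (x : A) (hx : x ∈ 𝒜 (n • d)) :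
    θ g h (Away.mk 𝒜 ha n x hx) = Away.mk ℬ hb n (g x) (g.2 hx) := by
  subst h
  exact HomogeneousLocalization.Away.map_mk g a ha n x hx

theorem val_θ (g : 𝒜 →+*ᵍ ℬ) (a : A) (z : Away 𝒜 a) :
    (θ g (rfl : g a = g a) z).val = Localization.awayMap g.toRingHom a z.val := by
  obtain ⟨⟨d, ⟨x, hx⟩, ⟨y, hy⟩, hmem⟩, rfl⟩ := HomogeneousLocalization.mk_surjective z
  simp only [θ, HomogeneousLocalization.map_mk, HomogeneousLocalization.val_mk, Localization.mk_eq_mk']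
  rw [Localization.awayMap, IsLocalization.Away.map]
  rw [IsLocalization.map_mk']
  rfl

/-- A morphism given chartwise by a graded ring map. -/
def Compat (φ : Proj ℬ ⟶ Proj 𝒜) (g : 𝒜 →+*ᵍ ℬ) : Prop :=
  ∀ (n : ℕ) (c : A) (hn : 0 < n) (hc : c ∈ 𝒜 n) (b : B) (hb : g c = b),
    Proj.awayι ℬ b (hb ▸ g.2 hc) hn ≫ φ =
      Spec.map (CommRingCat.ofHom (θ g hb)) ≫ Proj.awayι 𝒜 c hc hn

theorem Compat.of_hom {φ : Proj ℬ ⟶ Proj 𝒜} (g : 𝒜 →+*ᵍ ℬ)
    (h : ∀ (n : ℕ) (c : A) (hn : 0 < n) (hc : c ∈ 𝒜 n)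
      (θ : CommRingCat.of (Away 𝒜 c) ⟶ CommRingCat.of (Away ℬ (g c))),
      (algebraMap (Away ℬ (g c)) (Localization.Away (g c))).comp θ.hom =
        (Localization.awayMap g.toRingHom c).comp (algebraMap (Away 𝒜 c) (Localization.Away c)) →
      Proj.awayι ℬ (g c) (g.2 hc) hn ≫ φ = Spec.map θ ≫ Proj.awayι 𝒜 c hc hn) :
    Compat φ g := by
  rintro n c hn hc _ rfl
  exact h n c hn hc (CommRingCat.ofHom (θ g rfl)) (RingHom.ext fun z => val_θ g c z)

/-- The covering condition. -/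
def Covers (g : 𝒜 →+*ᵍ ℬ) : Prop :=
  ∀ x : Proj ℬ, ∃ (n : ℕ) (c : A), 0 < n ∧ c ∈ 𝒜 n ∧ x ∈ Proj.basicOpen ℬ (g c)

variable {φ : Proj ℬ ⟶ Proj 𝒜} {g : 𝒜 →+*ᵍ ℬ}

theorem θ_isLocalizationElem {n m : ℕ} {c e : A} (hc : c ∈ 𝒜 n) (he : e ∈ 𝒜 m) :
    θ g (rfl : g c = g c) (HomogeneousLocalization.Away.isLocalizationElem hc he) =
      HomogeneousLocalization.Away.isLocalizationElem (g.2 hc) (g.2 he) := by
  unfold HomogeneousLocalization.Away.isLocalizationElem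
  rw [θ_mk g rfl hc (g.2 hc)]
  simp

theorem Compat.preimage (h : Compat φ g) (hcov : Covers g) {m : ℕ} (hm : 0 < m) {e : A} (he : e ∈ 𝒜 m) :
    φ ⁻¹ᵁ Proj.basicOpen 𝒜 e = Proj.basicOpen ℬ (g e) := by
  ext x
  obtain ⟨n, c, hn, hc, hx⟩ := hcov x
  rw [← Proj.opensRange_awayι ℬ (g c) (g.2 hc) hn] at hx
  obtain ⟨z, rfl⟩ := hx
  show z ∈ (Proj.awayι ℬ (g c) (g.2 hc) hn ≫ φ) ⁻¹ᵁ Proj.basicOpen 𝒜 e ↔
    z ∈ Proj.awayι ℬ (g c) (g.2 hc) hn ⁻¹ᵁ Proj.basicOpen ℬ (g e)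
  rw [h n c hn hc (g c) rfl, Scheme.Hom.comp_preimage, Proj.awayι_preimage_basicOpen 𝒜 hc hn he hm]
  erw [Proj.awayι_preimage_basicOpen ℬ (g.2 hc) hn (g.2 he) hm]
  rw [← θ_isLocalizationElem hc he]
  rfl

theorem Compat.le_preimage (h : Compat φ g) {n : ℕ} (hn : 0 < n) {c : A} (hc : c ∈ 𝒜 n) {b : B}
    (hb : g c = b) : Proj.basicOpen ℬ b ≤ φ ⁻¹ᵁ Proj.basicOpen 𝒜 c := by
  intro x hx
  rw [← Proj.opensRange_awayι ℬ b (hb ▸ g.2 hc) hn] at hx
  obtain ⟨z, rfl⟩ := hx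
  show z ∈ (Proj.awayι ℬ b (hb ▸ g.2 hc) hn ≫ φ) ⁻¹ᵁ Proj.basicOpen 𝒜 c
  rw [h n c hn hc b hb, Scheme.Hom.comp_preimage, ← Proj.opensRange_awayι 𝒜 c hc hn,
    Scheme.Hom.preimage_opensRange]
  trivial

theorem Compat.appLE (h : Compat φ g) {n : ℕ} (hn : 0 < n) {c : A} (hc : c ∈ 𝒜 n) {b : B} (hb : g c = b)
    (e : Proj.basicOpen ℬ b ≤ φ ⁻¹ᵁ Proj.basicOpen 𝒜 c) :
    Proj.awayToSection 𝒜 c ≫ φ.appLE (Proj.basicOpen 𝒜 c) (Proj.basicOpen ℬ b) e =
      CommRingCat.ofHom (θ g hb) ≫ Proj.awayToSection ℬ b := by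
  have hbm : b ∈ ℬ n := hb ▸ g.2 hc
  let j := Proj.awayι ℬ b hbm hn
  let i := Proj.awayι 𝒜 c hc hn
  let t := Spec.map (CommRingCat.ofHom (θ g hb))
  have e₁ : (⊤ : (Spec (CommRingCat.of (Away ℬ b))).Opens) ≤ j ⁻¹ᵁ Proj.basicOpen ℬ b := by
    rw [← Proj.opensRange_awayι ℬ b hbm hn, Scheme.Hom.preimage_opensRange]
  have e₂ : (⊤ : (Spec (CommRingCat.of (Away 𝒜 c))).Opens) ≤ i ⁻¹ᵁ Proj.basicOpen 𝒜 c := by
    rw [← Proj.opensRange_awayι 𝒜 c hc hn, Scheme.Hom.preimage_opensRange]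
  have hiso : IsIso (j.appLE (Proj.basicOpen ℬ b) ⊤ e₁) := by
    haveI : IsIso (Proj.awayToSection ℬ b) :=
      inferInstanceAs (IsIso (Proj.basicOpenIsoAway ℬ b hbm hn).hom)
    haveI : IsIso (Proj.awayToSection ℬ b ≫ j.appLE (Proj.basicOpen ℬ b) ⊤ e₁) := by
      rw [ProjPt.awayι_appLE ℬ hbm hn e₁]; infer_instance
    exact IsIso.of_isIso_comp_left (Proj.awayToSection ℬ b) _
  have key : ∀ (U : (Proj 𝒜).Opens) (a a' : Spec (CommRingCat.of (Away ℬ b)) ⟶ Proj 𝒜) (_ : a = a')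
      (h₁ : ⊤ ≤ a ⁻¹ᵁ U) (h₂ : ⊤ ≤ a' ⁻¹ᵁ U), a.appLE U ⊤ h₁ = a'.appLE U ⊤ h₂ := by
    rintro U a _ rfl h₁ h₂; rfl
  have h3 : φ.appLE (Proj.basicOpen 𝒜 c) _ e ≫ j.appLE _ ⊤ e₁ = i.appLE _ ⊤ e₂ ≫ t.appTop := by
    rw [Scheme.Hom.appLE_comp_appLE,
      key _ (j ≫ φ) (t ≫ i) (h n c hn hc b hb) _
        (by rw [Scheme.Hom.comp_preimage]; exact (Scheme.Hom.preimage_top (f := t)).ge.trans (t.preimage_mono e₂)),
      ← Scheme.Hom.appLE_comp_appLE t i _ ⊤ ⊤ e₂ (by simp)]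
    exact congrArg (_ ≫ ·) (Scheme.Hom.appLE_eq_app t)
  haveI := hiso
  rw [← cancel_mono (j.appLE (Proj.basicOpen ℬ b) ⊤ e₁), Category.assoc, Category.assoc, h3,
    ProjPt.awayι_appLE ℬ hbm hn e₁, ← Category.assoc, ProjPt.awayι_appLE 𝒜 hc hn e₂]
  exact (Scheme.ΓSpecIso_inv_naturality (CommRingCat.ofHom (θ g hb))).symm

/-- Sums of homogeneous elements. -/
theorem multiset_prod_mem (s : Multiset A) (hs : ∀ x ∈ s, x ∈ 𝒜 1) : s.prod ∈ 𝒜 (Multiset.card s) := by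
  induction s using Multiset.induction with
  | empty => simpa using SetLike.one_mem_graded 𝒜
  | cons a s ih =>
    rw [Multiset.prod_cons, Multiset.card_cons, Nat.add_comm]
    exact SetLike.mul_mem_graded (hs a (Multiset.mem_cons_self _ _))
      (ih fun x hx => hs x (Multiset.mem_cons_of_mem hx))

theorem esymm_mem (s : Multiset A) (hs : ∀ x ∈ s, x ∈ 𝒜 1) (k : ℕ) : s.esymm k ∈ 𝒜 k := by
  refine multiset_sum_mem _ fun x hx => ?_
  obtain ⟨t, ht, rfl⟩ := Multiset.mem_map.1 hx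
  obtain ⟨hts, hcard⟩ := Multiset.mem_powersetCard.1 ht
  exact hcard ▸ multiset_prod_mem t fun y hy => hs y (Multiset.mem_of_le hts hy)

end Groth.Agent.IntTh85.ProjQuot

namespace Groth.Agent.IntTh85.ProjQuot

variable {R A C : Type u} [CommRing R] [CommRing A] [Algebra R A] [CommRing C] [Algebra R C]
  (𝒜 : ℕ → Submodule R A) [GradedAlgebra 𝒜] (𝒞 : ℕ → Submodule R C) [GradedAlgebra 𝒞]
  {G : Type u} [Group G] [Finite G] [MulSemiringAction G A]
  (hGdeg : ∀ (σ : G) (i : ℕ) (a : A), a ∈ 𝒜 i → σ • a ∈ 𝒜 i)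
  (ι : C →ₐ[R] A) (hι : Function.Injective ι)
  (hιdeg : ∀ (i : ℕ) (a : A), a ∈ (𝒞 i).map ι.toLinearMap ↔ (a ∈ 𝒜 i ∧ ∀ σ : G, σ • a = a))

/-- The action as graded maps. -/
def σg (σ : G) : 𝒜 →+*ᵍ 𝒜 := ⟨MulSemiringAction.toRingHom G A σ, fun {i} {x} hx => hGdeg σ i x hx⟩

/-- The inclusion of invariants as a graded map. -/
def ιg : 𝒞 →+*ᵍ 𝒜 :=
  ⟨ι.toRingHom, fun {i} {x} hx => ((hιdeg i (ι x)).1 (Submodule.mem_map_of_mem hx)).1⟩

include hιdeg in
omit [Finite G] in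
theorem smul_ι (σ : G) (c : C) : σ • ι c = ι c := by
  classical
  rw [← DirectSum.sum_support_decompose 𝒞 c, map_sum, Finset.smul_sum]
  exact Finset.sum_congr rfl fun i _ =>
    ((hιdeg i _).1 (Submodule.mem_map_of_mem (SetLike.coe_mem (DirectSum.decompose 𝒞 c i)))).2 σ

include hGdeg hιdeg in
theorem covers_ι (hgen : Algebra.adjoin R (𝒜 1 : Set A) = ⊤) : Covers (ιg 𝒜 𝒞 ι hιdeg) := by
  classical
  haveI := Fintype.ofFinite G
  intro x
  obtain ⟨⟨f, hf⟩, hfx⟩ := ProjUPX.exists_notMem_of_adjoin 𝒜 (T := fun f : 𝒜 1 => (f : A)) (fun f => f.2)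
    (by rw [Subtype.range_coe_subtype]; exact hgen) x
  rw [Proj.basicOpen, ProjectiveSpectrum.mem_basicOpen] at hfx
  haveI : Nontrivial A := ⟨⟨f, 0, fun e => hfx (by simp only [e]; exact zero_mem _)⟩⟩
  by_contra! hall
  let s : Multiset A := (Finset.univ : Finset G).val.map (· • f)
  have hs : ∀ y ∈ s, y ∈ 𝒜 1 := by
    intro y hy
    obtain ⟨σ, _, rfl⟩ := Multiset.mem_map.1 hy
    exact hGdeg σ 1 f hf
  have hcard : Multiset.card s = Fintype.card G := by simp [s]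
  have hP : MulSemiringAction.charpoly G f = (s.map fun t => Polynomial.X - Polynomial.C t).prod := by
    rw [MulSemiringAction.charpoly_eq, Finset.prod_eq_multiset_prod, Multiset.map_map]
    rfl
  have hcoeff : ∀ j < Fintype.card G, (MulSemiringAction.charpoly G f).coeff j ∈ x.asHomogeneousIdeal := by
    intro j hj
    have hmem : (MulSemiringAction.charpoly G f).coeff j ∈ 𝒜 (Fintype.card G - j) := by
      rw [hP, Multiset.prod_X_sub_C_coeff _ (by omega), hcard]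
      have h := esymm_mem (𝒜 := 𝒜) s hs (Fintype.card G - j)
      rcases neg_one_pow_eq_or A (Fintype.card G - j) with e | e
      · rw [e, one_mul]; exact h
      · rw [e, neg_one_mul]; exact neg_mem h
    obtain ⟨c, hc, hce⟩ :=
      (hιdeg _ _).2 ⟨hmem, fun σ => MulSemiringAction.smul_coeff_charpoly f j σ⟩
    have := hall _ c (by omega) hc
    rw [← hce]
    by_contra h
    exact this ((ProjectiveSpectrum.mem_basicOpen 𝒜 _ _).2 h)
  apply hfx
  have he := MulSemiringAction.eval_charpoly G f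
  have hdeg : (MulSemiringAction.charpoly G f).natDegree ≤ Fintype.card G := by
    rw [hP, Polynomial.natDegree_multiset_prod_X_sub_C_eq_card, hcard]
  rw [Polynomial.eval_eq_sum_range' (n := Fintype.card G + 1) (by omega), Finset.sum_range_succ] at he
  have htop : (MulSemiringAction.charpoly G f).coeff (Fintype.card G) = 1 := by
    rw [hP, Multiset.prod_X_sub_C_coeff _ (by omega), hcard]
    simp [Multiset.esymm]
  rw [htop, one_mul] at he
  have hmem : f ^ Fintype.card G ∈ x.asHomogeneousIdeal.toIdeal := by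
    rw [show f ^ Fintype.card G = -(∑ j ∈ Finset.range (Fintype.card G),
      (MulSemiringAction.charpoly G f).coeff j * f ^ j) from eq_neg_of_add_eq_zero_right he]
    exact neg_mem (sum_mem fun j hj => Ideal.mul_mem_right _ _ (hcoeff j (Finset.mem_range.1 hj)))
  exact x.isPrime.mem_of_pow_mem _ hmem

omit [Finite G] in
theorem covers_σ (hgen : Algebra.adjoin R (𝒜 1 : Set A) = ⊤) (σ : G) : Covers (σg 𝒜 hGdeg σ) := by
  intro x
  obtain ⟨⟨f, hf⟩, hfx⟩ := ProjUPX.exists_notMem_of_adjoin 𝒜 (T := fun f : 𝒜 1 => (f : A)) (fun f => f.2)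
    (by rw [Subtype.range_coe_subtype]; exact hgen) x
  refine ⟨1, σ⁻¹ • f, one_pos, hGdeg _ _ _ hf, ?_⟩
  show x ∈ Proj.basicOpen 𝒜 (σ • σ⁻¹ • f)
  rwa [smul_inv_smul]

include hι hιdeg in
theorem isQuot (hgen : Algebra.adjoin R (𝒜 1 : Set A) = ⊤) (ρ : G →* Aut (Proj 𝒜))
    (hρ : ∀ σ : G, Compat (ρ σ).inv (σg 𝒜 hGdeg σ))
    (π : Proj 𝒜 ⟶ Proj 𝒞) (hπ : Compat π (ιg 𝒜 𝒞 ι hιdeg)) : SGA1.IsQuot ρ π := by
  set g := ιg 𝒜 𝒞 ι hιdeg with hg
  have hcov : Covers g := covers_ι 𝒜 𝒞 hGdeg ι hιdeg hgen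
  have hinv' : ∀ σ : G, (ρ σ).inv ≫ π = π := by
    intro σ
    refine Scheme.hom_ext_of_forall _ _ fun x => ?_
    obtain ⟨n, c, hn, hc, hx⟩ := hcov x
    refine ⟨Proj.basicOpen 𝒜 (g c), hx, ?_⟩
    have h2 := hπ n c hn hc (g c) rfl
    have hfix : σg 𝒜 hGdeg σ (g c) = g c := smul_ι 𝒜 𝒞 ι hιdeg σ c
    have h1 := hρ σ n (g c) hn (g.2 hc) (g c) hfix
    have hθ : CommRingCat.ofHom (θ g (rfl : g c = g c)) ≫ CommRingCat.ofHom (θ (σg 𝒜 hGdeg σ) hfix) =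
        CommRingCat.ofHom (θ g (rfl : g c = g c)) := by
      refine CommRingCat.hom_ext (RingHom.ext fun z => ?_)
      obtain ⟨m, a, ha, rfl⟩ := HomogeneousLocalization.Away.mk_surjective 𝒞 hc z
      show θ (σg 𝒜 hGdeg σ) hfix (θ g rfl (Away.mk 𝒞 hc m a ha)) = θ g rfl (Away.mk 𝒞 hc m a ha)
      rw [θ_mk g rfl hc (g.2 hc), θ_mk _ hfix (g.2 hc) (g.2 hc)]
      apply HomogeneousLocalization.val_injective
      simp only [HomogeneousLocalization.Away.val_mk]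
      congr 1
      exact smul_ι 𝒜 𝒞 ι hιdeg σ a
    have h : Proj.awayι 𝒜 (g c) (g.2 hc) hn ≫ (ρ σ).inv ≫ π = Proj.awayι 𝒜 (g c) (g.2 hc) hn ≫ π := by
      rw [← Category.assoc, h1, Category.assoc, h2, ← Category.assoc, ← Spec.map_comp, hθ]
    rw [Proj.awayι, Category.assoc, Category.assoc, cancel_epi] at h
    exact h
  have hinv : ∀ σ : G, (ρ σ).hom ≫ π = π := fun σ => by
    nth_rewrite 1 [← hinv' σ]
    rw [Iso.hom_inv_id_assoc]
  haveI : IsAffineHom π := by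
    refine isAffineHom_of_forall_exists_isAffineOpen π fun y => ?_
    obtain ⟨m, c, hm, hc, hy⟩ : ∃ (m : ℕ) (c : C), 0 < m ∧ c ∈ 𝒞 m ∧ y ∈ Proj.basicOpen 𝒞 c := by
      obtain ⟨d, c, hd, hc, hy⟩ := Proj16.exists_homogeneous_notMem 𝒞 y.not_irrelevant_le
      exact ⟨d, c, hd, hc, hy⟩
    refine ⟨Proj.basicOpen 𝒞 c, hy, Proj.isAffineOpen_basicOpen 𝒞 c hc hm, ?_⟩
    rw [hπ.preimage hcov hm hc]
    exact Proj.isAffineOpen_basicOpen 𝒜 (g c) (g.2 hc) hm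
  refine SGA1Q.isQuot_of_affine_cover inferInstance hinv fun y => ?_
  obtain ⟨d, c, hd, hc, hy⟩ := Proj16.exists_homogeneous_notMem 𝒞 y.not_irrelevant_le
  refine ⟨Proj.basicOpen 𝒞 c, Proj.isAffineOpen_basicOpen 𝒞 c hc hd, hy, ?_⟩
  have hpre : π ⁻¹ᵁ Proj.basicOpen 𝒞 c = Proj.basicOpen 𝒜 (g c) := hπ.preimage hcov hd hc
  haveI : IsIso (Proj.awayToSection 𝒞 c) :=
    inferInstanceAs (IsIso (Proj.basicOpenIsoAway 𝒞 c hc hd).hom)
  haveI : IsIso (Proj.awayToSection 𝒜 (g c)) :=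
    inferInstanceAs (IsIso (Proj.basicOpenIsoAway 𝒜 (g c) (g.2 hc) hd).hom)
  have bC := ConcreteCategory.bijective_of_isIso (Proj.awayToSection 𝒞 c)
  have bA := ConcreteCategory.bijective_of_isIso (Proj.awayToSection 𝒜 (g c))
  let res := (Proj 𝒜).presheaf.map (eqToHom hpre.symm).op
  have bres : Function.Bijective res := ConcreteCategory.bijective_of_isIso res
  have happ : ∀ z, res (π.app (Proj.basicOpen 𝒞 c) (Proj.awayToSection 𝒞 c z)) =
      Proj.awayToSection 𝒜 (g c) (θ g rfl z) := by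
    intro z
    have := ConcreteCategory.congr_hom (hπ.appLE hd hc (rfl : g c = g c) hpre.ge) z
    rw [Scheme.Hom.appLE] at this
    exact this
  refine ⟨?_, fun s hs => ?_⟩
  · intro s t hst
    obtain ⟨z, rfl⟩ := bC.2 s
    obtain ⟨w, rfl⟩ := bC.2 t
    have h := bA.1 ((happ z).symm.trans ((congrArg res hst).trans (happ w)))
    refine congrArg _ (sub_eq_zero.1 ?_)
    have h0 : θ g (rfl : g c = g c) (z - w) = 0 := by rw [map_sub, h, sub_self]
    obtain ⟨m, a, ha, hza⟩ := HomogeneousLocalization.Away.mk_surjective 𝒞 hc (z - w)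
    rw [← hza, θ_mk g rfl hc (g.2 hc), HomogeneousLocalization.ext_iff_val,
      HomogeneousLocalization.Away.val_mk, HomogeneousLocalization.val_zero, Localization.mk_eq_mk',
      IsLocalization.mk'_eq_zero_iff] at h0
    obtain ⟨⟨_, k, rfl⟩, hk⟩ := h0
    have hk' : c ^ k * a = 0 := hι (by rw [map_mul, map_pow, map_zero]; exact hk)
    rw [← hza, HomogeneousLocalization.ext_iff_val, HomogeneousLocalization.Away.val_mk,
      HomogeneousLocalization.val_zero, Localization.mk_eq_mk', IsLocalization.mk'_eq_zero_iff]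
    exact ⟨⟨c ^ k, k, rfl⟩, hk'⟩
  · classical
    haveI := Fintype.ofFinite G
    obtain ⟨w, hw⟩ := bA.2 (res s)
    have hle : ∀ σ : G, Proj.basicOpen 𝒜 (g c) ≤ (ρ σ).inv ⁻¹ᵁ Proj.basicOpen 𝒜 (g c) := fun σ =>
      (hρ σ).le_preimage hd (g.2 hc) (smul_ι 𝒜 𝒞 ι hιdeg σ c)
    have hfixw : ∀ σ : G, θ (σg 𝒜 hGdeg σ) (smul_ι 𝒜 𝒞 ι hιdeg σ c : σg 𝒜 hGdeg σ (g c) = g c) w = w := by
      intro σ
      refine bA.1 ?_
      rw [hw]
      refine (ConcreteCategory.congr_hom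
        ((hρ σ).appLE hd (g.2 hc) (smul_ι 𝒜 𝒞 ι hιdeg σ c) (hle σ)) w).symm.trans ?_
      show (ρ σ).inv.appLE _ _ (hle σ) (Proj.awayToSection 𝒜 (g c) w) = res s
      rw [hw]
      have hinvρ : (ρ σ⁻¹).hom = (ρ σ).inv := by rw [map_inv]; rfl
      have e2 := hs σ⁻¹
      have key : ∀ (a a' : Proj 𝒜 ⟶ Proj 𝒜) (_ : a = a') (U V : (Proj 𝒜).Opens) (hUV : U = V)
          (h₁ : U ≤ a ⁻¹ᵁ U) (h₂ : V ≤ a' ⁻¹ᵁ V) (s : Γ(Proj 𝒜, U)),
          a'.appLE V V h₂ ((Proj 𝒜).presheaf.map (eqToHom hUV.symm).op s) =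
            (Proj 𝒜).presheaf.map (eqToHom hUV.symm).op (a.appLE U U h₁ s) := by
        rintro a _ rfl U _ rfl h₁ h₂ s
        simp
      exact (key _ _ hinvρ _ _ hpre _ (hle σ) s).trans (congrArg res e2)
    obtain ⟨m, a, ha, rfl⟩ := HomogeneousLocalization.Away.mk_surjective 𝒜 (g.2 hc) w
    have hex : ∀ σ : G, ∃ k : ℕ, g c ^ k * (σ • a) = g c ^ k * a := by
      intro σ
      have h := congrArg HomogeneousLocalization.val
        ((θ_mk (σg 𝒜 hGdeg σ) (smul_ι 𝒜 𝒞 ι hιdeg σ c) (g.2 hc) (g.2 hc) m a ha).symm.trans (hfixw σ))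
      rw [HomogeneousLocalization.Away.val_mk,
        HomogeneousLocalization.Away.val_mk, Localization.mk_eq_mk_iff, Localization.r_iff_exists] at h
      obtain ⟨⟨_, k, rfl⟩, hk⟩ := h
      refine ⟨k + m, ?_⟩
      rw [pow_add, mul_assoc, mul_assoc]
      exact hk
    choose k hk using hex
    set K := Finset.univ.sup k with hK
    have hb : g c ^ K * a ∈ (𝒞 ((K + m) • d)).map ι.toLinearMap := by
      refine (hιdeg _ _).2 ⟨?_, fun σ => ?_⟩
      · rw [add_nsmul]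
        exact SetLike.mul_mem_graded (SetLike.pow_mem_graded K (g.2 hc)) ha
      · have hle : k σ ≤ K := Finset.le_sup (Finset.mem_univ σ)
        rw [smul_mul', smul_pow', show σ • g c = g c from smul_ι 𝒜 𝒞 ι hιdeg σ c,
          ← Nat.sub_add_cancel hle, pow_add, mul_assoc, hk σ, mul_assoc]
    obtain ⟨b, hbm, hbe⟩ := hb
    refine ⟨Proj.awayToSection 𝒞 c (Away.mk 𝒞 hc (K + m) b hbm), bres.1 ?_⟩
    refine (happ _).trans (Eq.trans ?_ hw)
    congr 1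
    rw [θ_mk g rfl hc (g.2 hc), HomogeneousLocalization.ext_iff_val,
      HomogeneousLocalization.Away.val_mk, HomogeneousLocalization.Away.val_mk,
      Localization.mk_eq_mk_iff, Localization.r_iff_exists]
    refine ⟨1, ?_⟩
    simp only [OneMemClass.coe_one, one_mul]
    show g c ^ m * g b = g c ^ (K + m) * a
    rw [show g b = g c ^ K * a from hbe, pow_add]
    ring

end Groth.Agent.IntTh85.ProjQuot
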