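import Mathlib.AlgebraicGeometry.Morphisms.Flat
import Mathlib.RingTheory.TensorProduct.Maps
import Mathlib.LinearAlgebra.TensorProduct.Pi

/-!
# Sections on an affine piece of a fibre product as a tensor product
-/

set_option autoImplicit false
set_option linter.style.haveILetI false

universe u

open CategoryTheory CategoryTheory.Limits AlgebraicGeometry Opposite
open scoped TensorProduct

namespace Groth.Agent.IntTh85.PullSec

variable {X T S Y : Scheme.{u}} {g : Y ⟶ X} {iY : Y ⟶ T} {iX : X ⟶ S} {f : T ⟶ S}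

theorem exists_tensor_bijective (H : IsPullback g iY iX f) {US : S.Opens} {UX : X.Opens} {UT : T.Opens}
    {UY : Y.Opens} (hUST : UT ≤ f ⁻¹ᵁ US) (hUSX : UX ≤ iX ⁻¹ᵁ US)
    (hUY : UY = g ⁻¹ᵁ UX ⊓ iY ⁻¹ᵁ UT) (hS : IsAffineOpen US) (hT : IsAffineOpen UT) (hX : IsAffineOpen UX)
    [Algebra Γ(S, US) Γ(X, UX)] [Algebra Γ(S, US) Γ(T, UT)]
    (hA : ∀ r, algebraMap Γ(S, US) Γ(X, UX) r = (iX.appLE US UX hUSX).hom r)
    (hT' : ∀ r, algebraMap Γ(S, US) Γ(T, UT) r = (f.appLE US UT hUST).hom r)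
    (hY₁ : UY ≤ g ⁻¹ᵁ UX) (hY₂ : UY ≤ iY ⁻¹ᵁ UT) :
    ∃ Φ : Γ(X, UX) ⊗[Γ(S, US)] Γ(T, UT) →+* Γ(Y, UY), Function.Bijective Φ ∧
      ∀ a r, Φ (a ⊗ₜ r) = (g.appLE UX UY hY₁).hom a * (iY.appLE UT UY hY₂).hom r := by
  have hpo := (isIso_pushoutSection_iff H (US := US) (UT := UT) (UX := UX) hUST hUSX hUY).1
    (isIso_pushoutSection_of_isAffineOpen H hUST hUSX hUY hS hT hX)
  letI algAA' := (g.appLE UX UY hY₁).hom.toAlgebra
  letI algR'A' := (iY.appLE UT UY hY₂).hom.toAlgebra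
  letI algRA' := ((g.appLE UX UY hY₁).hom.comp (algebraMap Γ(S, US) Γ(X, UX))).toAlgebra
  have hA' : algebraMap Γ(S, US) Γ(X, UX) = (iX.appLE US UX hUSX).hom := RingHom.ext hA
  have hR' : algebraMap Γ(S, US) Γ(T, UT) = (f.appLE US UT hUST).hom := RingHom.ext hT'
  haveI : IsScalarTower Γ(S, US) Γ(X, UX) Γ(Y, UY) := IsScalarTower.of_algebraMap_eq' rfl
  haveI : IsScalarTower Γ(S, US) Γ(T, UT) Γ(Y, UY) := IsScalarTower.of_algebraMap_eq' (by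
    show (g.appLE UX UY hY₁).hom.comp _ = (iY.appLE UT UY hY₂).hom.comp _
    rw [hA', hR']
    exact congrArg CommRingCat.Hom.hom hpo.w)
  haveI : Algebra.IsPushout Γ(S, US) Γ(T, UT) Γ(X, UX) Γ(Y, UY) := by
    have h1 := hpo.flip
    have e1 : iX.appLE US UX hUSX = CommRingCat.ofHom (algebraMap Γ(S, US) Γ(X, UX)) :=
      CommRingCat.hom_ext hA'.symm
    have e2 : f.appLE US UT hUST = CommRingCat.ofHom (algebraMap Γ(S, US) Γ(T, UT)) :=
      CommRingCat.hom_ext hR'.symm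
    rw [e1, e2] at h1
    exact CommRingCat.isPushout_iff_isPushout.1 h1
  let e : Γ(T, UT) ⊗[Γ(S, US)] Γ(X, UX) ≃ₐ[Γ(T, UT)] Γ(Y, UY) :=
    Algebra.IsPushout.equiv Γ(S, US) Γ(T, UT) Γ(X, UX) Γ(Y, UY)
  refine ⟨e.toRingEquiv.toRingHom.comp (Algebra.TensorProduct.comm Γ(S, US) Γ(X, UX) Γ(T, UT)).toRingEquiv.toRingHom,
    e.bijective.comp (Algebra.TensorProduct.comm Γ(S, US) Γ(X, UX) Γ(T, UT)).bijective, fun a r => ?_⟩
  show e (r ⊗ₜ[Γ(S, US)] a) = _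
  rw [Algebra.IsPushout.equiv_tmul, mul_comm]
  rfl

theorem isAffineOpen_pullback (H : IsPullback g iY iX f) {US : S.Opens} {UX : X.Opens} {UT : T.Opens}
    {UY : Y.Opens} (hUST : UT ≤ f ⁻¹ᵁ US) (hUSX : UX ≤ iX ⁻¹ᵁ US)
    (hUY : UY = g ⁻¹ᵁ UX ⊓ iY ⁻¹ᵁ UT) (hS : IsAffineOpen US) (hT : IsAffineOpen UT)
    (hX : IsAffineOpen UX) : IsAffineOpen UY := by
  haveI : IsAffine _ := hS
  haveI : IsAffine _ := hT
  haveI : IsAffine _ := hX
  exact .of_isIso (Scheme.Hom.isPullback_resLE H (UX := UX) (US := US) hUST hUSX hUY).isoPullback.hom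

end Groth.Agent.IntTh85.PullSec
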