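import Groth.Agent.IntTh85.NormLine
import Groth.Agent.AmpleX.Sect
import Groth.Agent.AmpleX.FiniteSet
import Groth.Agent.SGA1Q.Desc
import Groth.Prelude.Def_RelProj
import Groth.Prelude.Def_SGA1

/-!
# Quotients of quasi-projective schemes by finite groups
-/

set_option linter.style.haveILetI false
set_option backward.isDefEq.respectTransparency false
set_option backward.isDefEq.respectTransparency.types false

universe u

open CategoryTheory CategoryTheory.Limits AlgebraicGeometry TopologicalSpace Opposite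

noncomputable section

namespace Groth.Agent.IntTh85.QuotQProj

open Groth.Agent

variable {X S : Scheme.{u}} {G : Type u} [Group G] [Finite G] {ρ : G →* Aut X} {f : X ⟶ S} {L : X.Modules}

/-- An orbit lies in the affine locus of a section over the preimage of an affine open. -/
theorem exists_orbit_section (hρ : ∀ σ : G, (ρ σ).hom ≫ f = f) (h : RelAmple.IsRelAmple f L) {O : S.Opens}
    (hO : IsAffineOpen O) {x : X} (hx : f x ∈ O) :
    ∃ (m : ℕ) (_ : 0 < m) (a : Γ(CohB1.tensorPow L m, f ⁻¹ᵁ O)),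
      IsAffineOpen (AmpleX.locus a) ∧ ∀ g : G, (ρ g).hom x ∈ AmpleX.locus a := by
  have hamp := h.2 ⟨O, hO⟩
  haveI := AmpleX.isSeparated_of_isAmple hamp
  let j := (f ⁻¹ᵁ O).ι
  have horb : ∀ g : G, (ρ g).hom x ∈ f ⁻¹ᵁ O := fun g => by
    show f ((ρ g).hom x) ∈ O
    rw [show f ((ρ g).hom x) = f x from congr(($(hρ g)).base x)]
    exact hx
  let z : G → (f ⁻¹ᵁ O).toScheme := fun g => ⟨(ρ g).hom x, horb g⟩
  obtain ⟨m, s, hZ, -, hs⟩ := AmpleX.exists_finite_nhd hamp (Set.finite_range z) (U := ⊤) (fun _ _ => trivial)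
  obtain ⟨a, ha⟩ := AmpleX.exists_section_extendable j s
  refine ⟨m + 1, m.succ_pos, AModX.res _ (f ⁻¹ᵁ O).ι_image_top.ge a, ?_, fun g => ?_⟩
  · rw [AmpleX.locus_res, inf_eq_left.2 ((AmpleX.locus_le a).trans (f ⁻¹ᵁ O).ι_image_top.le), ha]
    exact hs.image_of_isOpenImmersion j
  · rw [AmpleX.locus_res, inf_eq_left.2 ((AmpleX.locus_le a).trans (f ⁻¹ᵁ O).ι_image_top.le), ha]
    exact ⟨z g, hZ ⟨g, rfl⟩, rfl⟩

theorem exists_isQuot (f : X ⟶ S) [IsNoetherian S] (ρ : G →* Aut X) (hρ : ∀ σ : G, (ρ σ).hom ≫ f = f)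
    (hf : RelProj.IsQuasiProjective f) :
    ∃ (Y : Scheme.{u}) (q : X ⟶ Y) (h : Y ⟶ S), q ≫ h = f ∧ SGA1.IsQuot ρ q ∧ RelProj.IsQuasiProjective h := by
  classical
  letI := Fintype.ofFinite G
  obtain ⟨hft, hqc, L, hL⟩ := hf
  have hLinv := AmpleX.isInvertible_of_isRelAmple hL
  have haff : ∀ x : X, ∃ U : X.Opens, IsAffineOpen U ∧ ∀ g : G, (ρ g).hom x ∈ U := fun x => by
    obtain ⟨O, hO, hxO, -⟩ := exists_isAffineOpen_mem_and_subset (x := f x) (U := ⊤) trivial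
    obtain ⟨m, -, a, ha, horb⟩ := exists_orbit_section hρ hL hO hxO
    exact ⟨_, ha, horb⟩
  obtain ⟨Y, q, hq⟩ := SGA1Q.exists_quotient ρ haff
  obtain ⟨h, hh, -⟩ := SGA1Q.desc_existsUnique_isQuot hq f hρ
  have hfr := fun y => NormLine.exists_idx (L := L) hq hLinv haff y
  obtain ⟨M, n, hM, hn, hrel⟩ := NormLine.exists_norm hq hfr
  haveI : QuasiCompact h := SGA1Q.quasiCompact_of_isQuot hq hh hqc
  refine ⟨Y, q, h, hh, hq, SGA1Q.locallyOfFiniteType_of_isQuot hq hh hft, inferInstance, M,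
    AmpleX.isRelAmple_of_sections hM fun y => ?_⟩
  obtain ⟨O, hO, hyO, -⟩ := exists_isAffineOpen_mem_and_subset (x := h y) (U := ⊤) trivial
  refine ⟨O, hyO, QuasiCompact.isCompact_preimage (f := h) (O : Set S) O.2 hO.isCompact, fun y' hy' => ?_⟩
  obtain ⟨x, rfl⟩ := SGA1Q.surjective hq y'
  have hpre : q ⁻¹ᵁ (h ⁻¹ᵁ O) = f ⁻¹ᵁ O := by rw [← Scheme.Hom.comp_preimage, hh]
  have hxO : f x ∈ O := by rw [← hh]; exact hy'
  obtain ⟨m, hm, a, ha, horb⟩ := exists_orbit_section hρ hL hO hxO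
  obtain ⟨b, hb⟩ := NormLine.exists_norm_section hq n hn hrel hfr m (h ⁻¹ᵁ O) (AModX.res _ hpre.le a)
  have hloc : AmpleX.locus (AModX.res _ hpre.le a) = AmpleX.locus a := by
    rw [AmpleX.locus_res, inf_eq_left.2 ((AmpleX.locus_le a).trans hpre.ge)]
  rw [hloc] at hb
  refine ⟨m, hm, b, (hb x hy').2 horb, ?_⟩
  -- affineness of the locus
  haveI := AmpleX.isSeparated_of_isAmple (hL.2 ⟨O, hO⟩)
  let j := (f ⁻¹ᵁ O).ι
  let A : G → (f ⁻¹ᵁ O).toScheme.Opens := fun g => j ⁻¹ᵁ ((ρ g).hom ⁻¹ᵁ AmpleX.locus a)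
  have hA : ∀ g, IsAffineOpen (A g) := fun g => by
    rw [← Scheme.Hom.isAffineOpen_iff_of_isOpenImmersion j, Scheme.Hom.image_preimage_eq_opensRange_inf,
      Scheme.Opens.opensRange_ι, inf_eq_right.2]
    · exact ha.preimage_of_isIso (ρ g).hom
    · intro z hz
      have h1 := AmpleX.locus_le a hz
      show f z ∈ O
      rw [show f z = f ((ρ g).hom z) from (congr(($(hρ g)).base z)).symm]
      exact h1
  haveI : Nonempty G := ⟨1⟩
  have hB : IsAffineOpen (j ''ᵁ ⨅ g, A g) := (IsAffineOpen.iInf hA).image_of_isOpenImmersion j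
  have hmemA : ∀ z : (f ⁻¹ᵁ O).toScheme, z ∈ ⨅ g, A g ↔ ∀ g, (ρ g).hom z.1 ∈ AmpleX.locus a := fun z => by
    simp only [A, ← SetLike.mem_coe, Opens.coe_iInf, Set.mem_iInter]
    rfl
  have heq : q ⁻¹ᵁ AmpleX.locus b = j ''ᵁ ⨅ g, A g := by
    ext z
    constructor
    · intro hz
      have hzO : q z ∈ h ⁻¹ᵁ O := AmpleX.locus_le b hz
      have hzO' : z ∈ f ⁻¹ᵁ O := hpre.le hzO
      exact ⟨⟨z, hzO'⟩, (hmemA _).2 ((hb z hzO).1 hz), rfl⟩
    · rintro ⟨z', hz', rfl⟩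
      exact (hb _ (hpre.ge z'.2)).2 ((hmemA _).1 hz')
  haveI : IsAffine (q ⁻¹ᵁ AmpleX.locus b).toScheme := by rw [heq]; exact hB
  have hst := fun g => SGA1.preimage_le_of_inv ρ q hq.inv g (AmpleX.locus b)
  exact SGA1Q.isAffine_of_isQuot (SGA1Q.isQuot_morphismRestrict hq (AmpleX.locus b)
    (SGA1Q.restrictAction ρ _ hst) (SGA1Q.restrictAction_hom_ι ρ _ hst))

end Groth.Agent.IntTh85.QuotQProj
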