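import Groth.Agent.QuotPerm75.Basic
import Groth.Agent.MorLib.UnivHomeo

/-!
# Comparison maps out of quotients are universal homeomorphisms
-/

set_option autoImplicit false
universe u

open CategoryTheory CategoryTheory.Limits AlgebraicGeometry

namespace Groth.Agent.IntTh85.QuotUH

variable {X Y T : Scheme.{u}}

/-- If geometric points of `X` with the same image in `T` have the same image in `Y` then
`m : Y ⟶ T` is universally injective. -/
theorem universallyInjective_of_comp (r : X ⟶ Y) [Surjective r] (m : Y ⟶ T)
    (H : ∀ (Ω : Type u) [Field Ω] [IsAlgClosed Ω] (a b : Spec (CommRingCat.of Ω) ⟶ X),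
      a ≫ r ≫ m = b ≫ r ≫ m → a ≫ r = b ≫ r) :
    UniversallyInjective m := by
  rw [UniversallyInjective.iff_diagonal]
  refine ⟨fun z => ?_⟩
  let n : pullback (r ≫ m) (r ≫ m) ⟶ pullback m m :=
    pullback.map _ _ _ _ r r (𝟙 _) (by simp) (by simp)
  haveI : MorphismProperty.IsStableUnderComposition @Surjective :=
    ⟨fun f g (hf : Surjective f) (hg : Surjective g) => inferInstanceAs (Surjective (f ≫ g))⟩
  haveI : Surjective n := by
    exact MorphismProperty.pullbackMap (P := @Surjective) (f := r ≫ m) (g := r ≫ m) (f' := m)
      (g' := m) (i₁ := r) (i₂ := r) inferInstance inferInstance rfl rfl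
  obtain ⟨v, hv⟩ := n.surjective z
  let V := pullback (r ≫ m) (r ≫ m)
  let Ω := AlgebraicClosure (V.residueField v)
  let a : Spec (CommRingCat.of Ω) ⟶ V :=
    Spec.map (CommRingCat.ofHom (algebraMap (V.residueField v) Ω)) ≫ V.fromSpecResidueField v
  have ha : a.base (IsLocalRing.closedPoint Ω) = v := Scheme.fromSpecResidueField_apply v _
  have hsame : a ≫ pullback.fst _ _ ≫ r = a ≫ pullback.snd _ _ ≫ r := by
    rw [← Category.assoc, ← Category.assoc]
    refine H Ω _ _ ?_
    simp only [Category.assoc]
    rw [pullback.condition]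
  have hfac : a ≫ n = (a ≫ pullback.fst _ _ ≫ r) ≫ pullback.diagonal m := by
    apply pullback.hom_ext
    · simp only [Category.assoc, n, pullback.map, pullback.lift_fst, pullback.diagonal_fst,
        Category.comp_id]
    · simp only [Category.assoc, n, pullback.map, pullback.lift_snd, pullback.diagonal_snd,
        Category.comp_id, hsame]
  refine ⟨(a ≫ pullback.fst _ _ ≫ r) (IsLocalRing.closedPoint Ω), ?_⟩
  exact ((congr(($hfac).base (IsLocalRing.closedPoint Ω))).symm.trans
    (congrArg n.base ha)).trans hv

/-- A comparison map out of a surjective morphism, with universally closed surjective composite,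
and injective on geometric orbits, is a universal homeomorphism. -/
theorem isUnivHomeo_of_comp (r : X ⟶ Y) [Surjective r] (m : Y ⟶ T)
    [UniversallyClosed (r ≫ m)] [Surjective (r ≫ m)]
    (H : ∀ (Ω : Type u) [Field Ω] [IsAlgClosed Ω] (a b : Spec (CommRingCat.of Ω) ⟶ X),
      a ≫ r ≫ m = b ≫ r ≫ m → a ≫ r = b ≫ r) :
    FlatMor.IsUnivHomeo m := by
  haveI := universallyInjective_of_comp r m H
  haveI : UniversallyClosed m := UniversallyClosed.of_comp_surjective r m
  haveI : Surjective m := Surjective.of_comp r m
  exact MorLib.isUnivHomeo_of_universallyClosed m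

end Groth.Agent.IntTh85.QuotUH
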