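import Groth.Prelude.Def_Flat
import Mathlib.AlgebraicGeometry.Morphisms.Finite
import Mathlib.AlgebraicGeometry.Morphisms.UniversallyInjective
import Mathlib.FieldTheory.PurelyInseparable.Basic

/-!
# Residue degrees of a finite morphism are bounded
-/

set_option linter.style.haveILetI false

universe u

open CategoryTheory AlgebraicGeometry TopologicalSpace

namespace Groth.Agent.IntTh85.ResidueBound

variable {X Y : Scheme.{u}} (f : X ⟶ Y)

/-- The residue degree of `f` at `x`. -/
noncomputable abbrev resDeg (x : X) : ℕ :=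
  @Module.finrank (Y.residueField (f x)) (X.residueField x) _ _ (f.residueFieldMap x).hom.toAlgebra.toModule

theorem exists_bound_affineOpen [IsFinite f] {U : Y.Opens} (hU : IsAffineOpen U) :
    ∃ N : ℕ, ∀ x : X, f x ∈ U →
      @Module.Finite (Y.residueField (f x)) (X.residueField x) _ _
        (f.residueFieldMap x).hom.toAlgebra.toModule ∧ resDeg f x ≤ N := by
  classical
  let φ := (f.app U).hom
  have hfin : φ.Finite := f.finite_app U hU
  algebraize [(f.app U).hom]
  obtain ⟨G, hG⟩ := Module.Finite.fg_top (R := Γ(Y, U)) (M := Γ(X, f ⁻¹ᵁ U))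
  refine ⟨G.card, fun x hx => ?_⟩
  letI : Algebra (Y.residueField (f x)) (X.residueField x) := (f.residueFieldMap x).hom.toAlgebra
  let ev : Γ(X, f ⁻¹ᵁ U) →+* X.residueField x := (X.evaluation (f ⁻¹ᵁ U) x hx).hom
  let evY : Γ(Y, U) →+* Y.residueField (f x) := (Y.evaluation U (f x) hx).hom
  have nat : ∀ a : Γ(Y, U), algebraMap (Y.residueField (f x)) (X.residueField x) (evY a) = ev (φ a) :=
    fun a => Scheme.evaluation_naturality_apply f x hx a
  set S := Submodule.span (Y.residueField (f x)) ((G.image ev : Finset _) : Set (X.residueField x)) with hSdef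
  have hS : ∀ b, ev b ∈ S := by
    intro b
    have hb : b ∈ Submodule.span Γ(Y, U) (G : Set Γ(X, f ⁻¹ᵁ U)) := hG ▸ Submodule.mem_top
    induction hb using Submodule.span_induction with
    | mem c hc => exact Submodule.subset_span (Finset.mem_coe.2 (Finset.mem_image_of_mem _ hc))
    | zero => rw [map_zero]; exact zero_mem _
    | add c d _ _ h h' => rw [map_add]; exact add_mem h h'
    | smul a c _ h =>
      rw [Algebra.smul_def, map_mul,
        show ev (algebraMap Γ(Y, U) Γ(X, f ⁻¹ᵁ U) a) = algebraMap _ _ (evY a) from (nat a).symm,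
        ← Algebra.smul_def]
      exact S.smul_mem _ h
  let R := Algebra.adjoin (Y.residueField (f x)) (Set.range ev)
  have hR : ∀ z ∈ R, z ∈ S := by
    intro z hz
    have hz' : z ∈ Submodule.span (Y.residueField (f x)) (Set.range ev) := by
      have h := Algebra.adjoin_eq_span (Y.residueField (f x)) (Set.range ev)
      have hz' : z ∈ Subalgebra.toSubmodule R := hz
      rwa [h, show (Submonoid.closure (Set.range ev) : Set _) = Set.range ev from
        congrArg SetLike.coe (Submonoid.closure_eq (MonoidHom.mrange (ev : Γ(X, f ⁻¹ᵁ U) →* X.residueField x)))]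
        at hz'
    exact Submodule.span_le.2 (by rintro _ ⟨b, rfl⟩; exact hS b) hz'
  have hint : ∀ b, IsIntegral (Y.residueField (f x)) (ev b) := fun b => by
    obtain ⟨q, hq, hq0⟩ := hfin.to_isIntegral b
    refine ⟨q.map evY, hq.map evY, ?_⟩
    rw [Polynomial.eval₂_map, show (algebraMap (Y.residueField (f x)) (X.residueField x)).comp evY = ev.comp φ from
      RingHom.ext nat, ← Polynomial.hom_eval₂, hq0, map_zero]
  have hdiv : ∀ z : X.residueField x, ∃ a s, z = ev a * (ev s)⁻¹ := by
    intro z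
    obtain ⟨w, rfl⟩ := X.residue_surjective x z
    letI : Algebra Γ(X, f ⁻¹ᵁ U) (X.presheaf.stalk x) := (X.presheaf.germ (f ⁻¹ᵁ U) x hx).hom.toAlgebra
    haveI : IsLocalization.AtPrime (X.presheaf.stalk x)
        ((hU.preimage f).primeIdealOf ⟨x, hx⟩).asIdeal := (hU.preimage f).isLocalization_stalk ⟨x, hx⟩
    obtain ⟨⟨a, s⟩, has⟩ := IsLocalization.surj
      ((hU.preimage f).primeIdealOf ⟨x, hx⟩).asIdeal.primeCompl w
    refine ⟨a, s.1, ?_⟩
    have hs : IsUnit (algebraMap Γ(X, f ⁻¹ᵁ U) (X.presheaf.stalk x) s.1) := IsLocalization.map_units _ s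
    have hs0 : ev s.1 ≠ 0 := (hs.map (X.residue x).hom).ne_zero
    rw [eq_mul_inv_iff_mul_eq₀ hs0]
    exact ((map_mul (X.residue x).hom w _).symm.trans (congrArg (X.residue x).hom has))
  have htop : S = ⊤ := by
    refine eq_top_iff.2 fun z _ => ?_
    obtain ⟨a, s, rfl⟩ := hdiv z
    exact hR _ (mul_mem (Algebra.subset_adjoin ⟨a, rfl⟩)
      (Subalgebra.inv_mem_of_algebraic R (x := ⟨ev s, Algebra.subset_adjoin ⟨s, rfl⟩⟩) (hint s).isAlgebraic))
  refine ⟨⟨⟨G.image ev, by rw [← hSdef, htop]⟩⟩, ?_⟩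
  show Module.finrank (Y.residueField (f x)) (X.residueField x) ≤ G.card
  rw [← finrank_top (Y.residueField (f x)) (X.residueField x), ← htop]
  exact (finrank_span_finset_le_card _).trans Finset.card_image_le

theorem exists_bound [IsFinite f] [CompactSpace Y] :
    ∃ N : ℕ, ∀ x : X, @Module.Finite (Y.residueField (f x)) (X.residueField x) _ _
        (f.residueFieldMap x).hom.toAlgebra.toModule ∧ resDeg f x ≤ N := by
  classical
  have haff : ∀ y : Y, ∃ V : Y.Opens, IsAffineOpen V ∧ y ∈ V := fun y => by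
    obtain ⟨V, hV, hy, -⟩ := Opens.isBasis_iff_nbhd.1 Y.isBasis_affineOpens (show y ∈ (⊤ : Y.Opens) from trivial)
    exact ⟨V, hV, hy⟩
  choose U hU hxU using haff
  obtain ⟨t, ht⟩ := isCompact_univ.elim_finite_subcover (fun y : Y => (U y : Set Y)) (fun y => (U y).2)
    (fun y _ => Set.mem_iUnion.2 ⟨y, hxU y⟩)
  have := fun y => exists_bound_affineOpen f (hU y)
  choose N hN using this
  refine ⟨t.sup N, fun x => ?_⟩
  obtain ⟨y, hy, hxy⟩ := Set.mem_iUnion₂.1 (ht (Set.mem_univ (f x)))
  exact ⟨(hN y x hxy).1, (hN y x hxy).2.trans (Finset.le_sup hy)⟩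

theorem universallyInjective_of_isUnivHomeo {f : X ⟶ Y} (hf : FlatMor.IsUnivHomeo f) :
    UniversallyInjective f :=
  ⟨fun _ _ _ _ _ h => (hf _ _ _ h).injective⟩

theorem exists_pow_expChar_dvd [IsFinite f] (hf : FlatMor.IsUnivHomeo f) [CompactSpace Y] :
    ∃ d : ℕ, 0 < d ∧ ∀ x : X, ∃ e : ℕ,
      resDeg f x = ringExpChar (Y.residueField (f x)) ^ e ∧
      ringExpChar (Y.residueField (f x)) ^ e ∣ d := by
  obtain ⟨N, hN⟩ := exists_bound f
  refine ⟨N.factorial, N.factorial_pos, fun x => ?_⟩
  letI : Algebra (Y.residueField (f x)) (X.residueField x) := (f.residueFieldMap x).hom.toAlgebra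
  have hpi : IsPurelyInseparable (Y.residueField (f x)) (X.residueField x) :=
    (((tfae_universallyInjective f).out 0 2 :
      UniversallyInjective f ↔ Function.Injective f ∧ ∀ x, (f.residueFieldMap x).hom.IsPurelyInseparable).1
      (universallyInjective_of_isUnivHomeo hf)).2 x
  have : Module.Finite (Y.residueField (f x)) (X.residueField x) := (hN x).1
  obtain ⟨e, he⟩ := IsPurelyInseparable.finrank_eq_pow (Y.residueField (f x)) (X.residueField x)
    (ringExpChar (Y.residueField (f x)))
  refine ⟨e, he, ?_⟩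
  rw [← he]
  exact Nat.dvd_factorial Module.finrank_pos (hN x).2

end Groth.Agent.IntTh85.ResidueBound
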