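import Mathlib.LinearAlgebra.PiTensorProduct.Basis
import Mathlib.FieldTheory.PurelyInseparable.Basic
import Mathlib.GroupTheory.PGroup
import Mathlib.Algebra.CharP.Algebra
import Mathlib.Data.ZMod.Basic
import Mathlib.RingTheory.PiTensorProduct
import Mathlib.FieldTheory.Minpoly.Field

/-!
# Products of symmetric tensors in a purely inseparable extension
-/

universe u v

open scoped TensorProduct

set_option linter.style.haveILetI false

namespace Groth.Agent.IntTh85.SymMul

theorem pow_finrank_mem {k K : Type*} [Field k] [Field K] [Algebra k K] [IsPurelyInseparable k K]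
    [FiniteDimensional k K] (x : K) : x ^ Module.finrank k K ∈ (algebraMap k K).range := by
  obtain ⟨n, y, hy⟩ := IsPurelyInseparable.minpoly_eq_X_pow_sub_C k (ringExpChar k) x
  have hint : IsIntegral k x := Algebra.IsIntegral.isIntegral x
  obtain ⟨m, hm⟩ : ringExpChar k ^ n ∣ Module.finrank k K := by
    have h1 := minpoly.degree_dvd hint
    rwa [hy, Polynomial.natDegree_X_pow_sub_C] at h1
  refine ⟨y ^ m, ?_⟩
  have hx : x ^ (ringExpChar k ^ n) = algebraMap k K y := by
    have h := minpoly.aeval k x
    rw [hy, map_sub, map_pow, Polynomial.aeval_X, Polynomial.aeval_C, sub_eq_zero] at h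
    exact h
  rw [hm, pow_mul, hx, map_pow]

variable {k : Type u} {K : Type v} [Field k] [Field K] [Algebra k K]

/-- A symmetric tensor of degree divisible by the degree of a purely inseparable extension
multiplies into the base field. -/
theorem mul_mem_range [IsPurelyInseparable k K] [FiniteDimensional k K] {d : ℕ}
    (hd : Module.finrank k K ∣ d) (z : ⨂[k] _ : Fin d, K)
    (hz : ∀ σ : Equiv.Perm (Fin d), PiTensorProduct.reindex k (fun _ : Fin d => K) σ z = z) :
    PiTensorProduct.lift (MultilinearMap.mkPiAlgebra k (Fin d) K) z ∈ (algebraMap k K).range := by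
  classical
  let μ := PiTensorProduct.lift (MultilinearMap.mkPiAlgebra k (Fin d) K)
  obtain ⟨m, hm⟩ := hd
  set q := Module.finrank k K with hq
  have : NeZero q := ⟨Module.finrank_pos.ne'⟩
  let b : Module.Basis (Fin q) k K := Module.finBasis k K
  let Bz := Basis.piTensorProduct (fun _ : Fin d => b)
  let e : Fin d ≃ Fin m × ZMod q :=
    Fintype.equivOfCardEq (by rw [Fintype.card_prod, ZMod.card, Fintype.card_fin, Fintype.card_fin, hm, mul_comm])
  let val : (Fin d → Fin q) → K := fun f => Bz.repr z f • ∏ i, b (f i)
  have hval : μ z = ∑ f, val f := by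
    conv_lhs => rw [← Bz.sum_repr z, map_sum]
    refine Finset.sum_congr rfl fun f _ => ?_
    rw [map_smul, Basis.piTensorProduct_apply]
    simp only [μ, PiTensorProduct.lift.tprod, MultilinearMap.mkPiAlgebra_apply, val]
  have hinv : ∀ (σ : Equiv.Perm (Fin d)) (f : Fin d → Fin q), val (f ∘ σ) = val f := by
    intro σ f
    have hlin : (Finsupp.lapply f).comp (Bz.repr.toLinearMap.comp
        (PiTensorProduct.reindex k (fun _ : Fin d => K) σ).toLinearMap) =
        (Finsupp.lapply (f ∘ σ)).comp Bz.repr.toLinearMap := by
      refine Bz.ext fun g => ?_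
      have h1 : PiTensorProduct.reindex k (fun _ : Fin d => K) σ (Bz g) = Bz (g ∘ σ.symm) := by
        rw [Basis.piTensorProduct_apply, Basis.piTensorProduct_apply, PiTensorProduct.reindex_tprod]
        rfl
      simp only [LinearMap.comp_apply, LinearEquiv.coe_coe, Finsupp.lapply_apply, h1,
        Module.Basis.repr_self, Finsupp.single_apply]
      refine if_congr ⟨?_, ?_⟩ rfl rfl
      · rintro rfl; funext i; simp
      · rintro rfl; funext i; simp
    have h := LinearMap.congr_fun hlin z
    simp only [LinearMap.comp_apply, LinearEquiv.coe_coe, Finsupp.lapply_apply, hz σ] at h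
    show Bz.repr z (f ∘ σ) • ∏ i, b (f (σ i)) = _
    rw [← h, Equiv.prod_comp σ fun i => b (f i)]
  let act : Multiplicative (ZMod q) → Equiv.Perm (Fin d) := fun g =>
    (e.trans ((Equiv.refl _).prodCongr (Equiv.addRight g.toAdd))).trans e.symm
  letI : MulAction (Multiplicative (ZMod q)) (Fin d → Fin q) :=
    { smul := fun g f => f ∘ act g
      one_smul := fun f => funext fun i => congrArg f (by simp [act])
      mul_smul := fun g h f => funext fun i => congrArg f (by simp [act, Prod.map, add_assoc, add_comm, add_left_comm]) }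
  have hsmul : ∀ (g : Multiplicative (ZMod q)) (f : Fin d → Fin q), val (g • f) = val f :=
    fun g f => hinv (act g) f
  let fixd : Finset (Fin d → Fin q) := Finset.univ.filter fun f => f ∈ MulAction.fixedPoints (Multiplicative (ZMod q)) (Fin d → Fin q)
  have hfix : ∀ f ∈ fixd, val f ∈ (algebraMap k K).range := by
    intro f hf
    have hf' : ∀ (g : Multiplicative (ZMod q)), f ∘ act g = f := (Finset.mem_filter.1 hf).2
    have hconst : ∀ p : Fin m × ZMod q, f (e.symm p) = f (e.symm (p.1, 0)) := fun p => by
      have := congrFun (hf' (Multiplicative.ofAdd p.2)) (e.symm (p.1, 0))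
      simp [act] at this
      exact this
    show Bz.repr z f • ∏ i, b (f i) ∈ _
    rw [Algebra.smul_def, ← Equiv.prod_comp e.symm fun i => b (f i), Fintype.prod_prod_type]
    refine mul_mem ⟨_, rfl⟩ (prod_mem fun a _ => ?_)
    rw [Finset.prod_congr rfl (fun t _ => (congrArg b (hconst (a, t)) : _ = b (f (e.symm (a, 0))))),
      Finset.prod_const, Finset.card_univ, ZMod.card]
    exact pow_finrank_mem _
  change μ z ∈ _
  rw [hval]
  obtain ⟨p, hp⟩ := ExpChar.exists k
  obtain ⟨n, hn⟩ := IsPurelyInseparable.finrank_eq_pow k K p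
  rw [← hq] at hn
  rcases hp with _ | hprime
  · refine sum_mem fun f _ => hfix f ?_
    have : q = 1 := by rw [hn, one_pow]
    haveI : Subsingleton (ZMod q) := Fintype.card_le_one_iff_subsingleton.1 (by rw [ZMod.card, this])
    exact Finset.mem_filter.2 ⟨Finset.mem_univ _, fun g => by
      rw [Subsingleton.elim g 1, one_smul]⟩
  · haveI : Fact p.Prime := ⟨hprime⟩
    haveI : CharP K p := charP_of_injective_algebraMap (algebraMap k K).injective p
    have hG : IsPGroup p (Multiplicative (ZMod q)) := IsPGroup.of_card (n := n) (by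
      rw [Nat.card_congr Multiplicative.toAdd, Nat.card_zmod, hn])
    suffices ∑ f, val f = ∑ f ∈ fixd, val f by rw [this]; exact sum_mem hfix
    refine (Finset.sum_fiberwise_of_maps_to' (s := Finset.univ) (t := Finset.univ.image val) (g := val)
        (fun f _ => Finset.mem_image_of_mem val (Finset.mem_univ f)) id).symm.trans
      (Eq.trans ?_ (Finset.sum_fiberwise_of_maps_to' (s := fixd) (t := Finset.univ.image val) (g := val)
        (fun f _ => Finset.mem_image_of_mem val (Finset.mem_univ f)) id))
    refine Finset.sum_congr rfl fun w _ => ?_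
    rw [Finset.sum_const, Finset.sum_const, id, nsmul_eq_mul, nsmul_eq_mul]
    congr 1
    rw [CharP.natCast_eq_natCast K p]
    let F : SubMulAction (Multiplicative (ZMod q)) (Fin d → Fin q) :=
      { carrier := {f | val f = w}
        smul_mem' := fun g f hf => (hsmul g f).trans hf }
    have hF := hG.card_modEq_card_fixedPoints F
    have e1 : (Finset.univ.filter fun f => val f = w).card = Nat.card F := by
      rw [← Fintype.card_subtype, ← Nat.card_eq_fintype_card]
      rfl
    have e2 : (fixd.filter fun f => val f = w).card = Nat.card (MulAction.fixedPoints (Multiplicative (ZMod q)) F) := by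
      rw [Finset.filter_filter, ← Fintype.card_subtype, ← Nat.card_eq_fintype_card]
      refine Nat.card_congr
        { toFun := fun f => ⟨⟨f.1, f.2.2⟩, fun g => Subtype.ext (f.2.1 g)⟩
          invFun := fun f => ⟨f.1.1, fun g => congrArg Subtype.val (f.2 g), f.1.2⟩
          left_inv := fun _ => rfl
          right_inv := fun _ => rfl }
    rw [e1, e2]
    exact hF

/-- The same, for tensors over a ring mapping to the base field. -/
theorem mul_mem_range' {A : Type*} [CommRing A] [Algebra A k] [Algebra A K] [IsScalarTower A k K]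
    [IsPurelyInseparable k K] [FiniteDimensional k K] {B : Type*} [CommRing B] [Algebra A B]
    {d : ℕ} (hd : Module.finrank k K ∣ d) (ψ : B →ₐ[A] K) (x : ⨂[A] _ : Fin d, B)
    (hx : ∀ σ : Equiv.Perm (Fin d), PiTensorProduct.reindex A (fun _ : Fin d => B) σ x = x) :
    ψ (PiTensorProduct.lift (MultilinearMap.mkPiAlgebra A (Fin d) B) x) ∈ (algebraMap k K).range := by
  let F : (⨂[A] _ : Fin d, B) →ₗ[A] (⨂[k] _ : Fin d, K) :=
    PiTensorProduct.lift (((PiTensorProduct.tprod k).restrictScalars A).compLinearMap fun _ : Fin d => ψ.toLinearMap)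
  have hF : ∀ g, F (PiTensorProduct.tprod A g) = PiTensorProduct.tprod k (fun i => ψ (g i)) := fun g =>
    PiTensorProduct.lift.tprod g
  have hsym : ∀ σ : Equiv.Perm (Fin d), PiTensorProduct.reindex k (fun _ : Fin d => K) σ (F x) = F x := by
    intro σ
    conv_rhs => rw [← hx σ]
    clear hx
    induction x using PiTensorProduct.induction_on with
    | smul_tprod a g =>
      rw [map_smul (PiTensorProduct.reindex A (fun _ : Fin d => B) σ), map_smul F, map_smul F]
      refine ((PiTensorProduct.reindex k (fun _ : Fin d => K) σ).toLinearMap.map_smul_of_tower a _).trans ?_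
      refine congrArg (a • ·) ?_
      show PiTensorProduct.reindex k (fun _ : Fin d => K) σ _ = _
      rw [hF, PiTensorProduct.reindex_tprod, PiTensorProduct.reindex_tprod, hF]
    | add a c ha hc => simp only [map_add, ha, hc]
  have key : ψ (PiTensorProduct.lift (MultilinearMap.mkPiAlgebra A (Fin d) B) x) =
      PiTensorProduct.lift (MultilinearMap.mkPiAlgebra k (Fin d) K) (F x) := by
    clear hx hsym
    induction x using PiTensorProduct.induction_on with
    | smul_tprod a g =>
      rw [map_smul, map_smul, map_smul, hF,
        LinearMap.map_smul_of_tower (PiTensorProduct.lift (MultilinearMap.mkPiAlgebra k (Fin d) K)) a]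
      simp
    | add a c ha hc => simp only [map_add, ha, hc]
  rw [key]
  exact mul_mem_range hd _ hsym

end Groth.Agent.IntTh85.SymMul
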