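import Groth.Agent.IntTh85.InvLocal
import Mathlib.RingTheory.Localization.BaseChange
import Mathlib.Algebra.Module.LocalizedModule.IsLocalization
import Mathlib.RingTheory.TensorProduct.Maps
import Mathlib.LinearAlgebra.TensorProduct.RightExactness

/-!
# The semilinear action on `B' ⊗ N`

For a map of rings `B → B'` over `R`, equivariant for a finite group, the module `B' ⊗ N` carries a
semilinear action; the statements of `InvLocal` are specialised to it.
-/

set_option autoImplicit false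
set_option linter.style.haveILetI false

universe u

open scoped TensorProduct

namespace Groth.Agent.IntTh85.TensorAct

open InvLocal

variable {R : Type u} [CommRing R] {G : Type*} [Group G]
  {B B' : Type u} [CommRing B] [CommRing B'] [Algebra R B] [Algebra R B'] [Algebra B B']
  [IsScalarTower R B B'] (N : Type u) [AddCommGroup N] [Module R N]

theorem smul_tmul_eq (b : B) (x : B') (n : N) :
    b • (x ⊗ₜ[R] n) = (algebraMap B B' b * x) ⊗ₜ[R] n := by
  rw [TensorProduct.smul_tmul', Algebra.smul_def]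

/-- The action on `B' ⊗ N`. -/
noncomputable def tensorAct (r : G → B →+* B) (r' : G → B' →ₐ[R] B')
    (r_one : ∀ b, r 1 b = b) (r_mul : ∀ g h b, r (g * h) b = r g (r h b))
    (r'_one : ∀ b, r' 1 b = b) (r'_mul : ∀ g h b, r' (g * h) b = r' g (r' h b))
    (compat : ∀ g b, r' g (algebraMap B B' b) = algebraMap B B' (r g b)) :
    Act G B (B' ⊗[R] N) where
  r := r
  m g := ((r' g).toLinearMap.rTensor N).toAddMonoidHom
  r_one := r_one
  r_mul := r_mul
  m_one x := by
    have : (r' 1).toLinearMap = LinearMap.id := LinearMap.ext r'_one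
    simp [this]
  m_mul g h x := by
    have : (r' (g * h)).toLinearMap = (r' g).toLinearMap.comp (r' h).toLinearMap :=
      LinearMap.ext (r'_mul g h)
    simp [this, LinearMap.rTensor_comp]
  semi g b x := by
    induction x using TensorProduct.induction_on with
    | zero => simp
    | add x y hx hy => simp only [smul_add, map_add, hx, hy]
    | tmul x n =>
      simp only [LinearMap.toAddMonoidHom_coe, smul_tmul_eq, LinearMap.rTensor_tmul,
        AlgHom.toLinearMap_apply, map_mul, compat]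

variable {N}

theorem tensorAct_m {r : G → B →+* B} {r' : G → B' →ₐ[R] B'} {h₁ h₂ h₃ h₄ h₅} (g : G)
    (x : B' ⊗[R] N) :
    (tensorAct N r r' h₁ h₂ h₃ h₄ h₅).m g x = (r' g).toLinearMap.rTensor N x := rfl

theorem tensorAct_r {r : G → B →+* B} {r' : G → B' →ₐ[R] B'} {h₁ h₂ h₃ h₄ h₅} (g : G) (b : B) :
    (tensorAct N r r' h₁ h₂ h₃ h₄ h₅).r g b = r g b := rfl

theorem mfix_one_tmul {r : G → B →+* B} {r' : G → B' →ₐ[R] B'} {h₁ h₂ h₃ h₄ h₅} (n : N) :
    (tensorAct N r r' h₁ h₂ h₃ h₄ h₅).MFix (1 ⊗ₜ n) := fun g => by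
  rw [tensorAct_m, LinearMap.rTensor_tmul, AlgHom.toLinearMap_apply, map_one]

section Maps

variable {C C' : Type u} [CommRing C] [CommRing C'] [Algebra R C] [Algebra R C'] [Algebra C C']
  [IsScalarTower R C C']

theorem rTensor_smul (φ : B →ₐ[R] C) (φ' : B' →ₐ[R] C')
    (hsq : ∀ b, φ' (algebraMap B B' b) = algebraMap C C' (φ b)) (b : B) (x : B' ⊗[R] N) :
    φ'.toLinearMap.rTensor N (b • x) = φ b • φ'.toLinearMap.rTensor N x := by
  induction x using TensorProduct.induction_on with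
  | zero => simp
  | add x y hx hy => simp only [smul_add, map_add, hx, hy]
  | tmul x n =>
    simp only [smul_tmul_eq, LinearMap.rTensor_tmul, AlgHom.toLinearMap_apply, map_mul, hsq]

/-- A map of rings localising at `u` still does after tensoring. -/
theorem rTensor_away (φ' : B' →ₐ[R] C') (u : B')
    (hloc : @IsLocalization.Away _ _ u C' _ φ'.toRingHom.toAlgebra) :
    (∀ y : C' ⊗[R] N, ∃ (k : ℕ) (w : B' ⊗[R] N),
      (LinearMap.mulLeft R (φ' u ^ k)).rTensor N y = φ'.toLinearMap.rTensor N w) ∧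
    (∀ w : B' ⊗[R] N, φ'.toLinearMap.rTensor N w = 0 →
      ∃ k : ℕ, (LinearMap.mulLeft R (u ^ k)).rTensor N w = 0) := by
  letI := φ'.toRingHom.toAlgebra
  haveI : IsScalarTower R B' C' := IsScalarTower.of_algebraMap_eq fun r => (φ'.commutes r).symm
  haveI : IsLocalization (Submonoid.powers u) C' := hloc
  let Φ := TensorProduct.AlgebraTensorModule.rTensor R N (Algebra.linearMap B' C')
  haveI : IsLocalizedModule (Submonoid.powers u) Φ := inferInstance
  have hΦ : ∀ w, Φ w = φ'.toLinearMap.rTensor N w := fun w => by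
    induction w using TensorProduct.induction_on with
    | zero => simp
    | add x y hx hy => simp only [map_add, hx, hy]
    | tmul x n => rfl
  have hsm : ∀ (b : B') (y : C' ⊗[R] N), b • y = (LinearMap.mulLeft R (φ' b)).rTensor N y := fun b y => by
    induction y using TensorProduct.induction_on with
    | zero => simp
    | add x y hx hy => simp only [smul_add, map_add, hx, hy]
    | tmul x n => rfl
  have hsm' : ∀ (b : B') (w : B' ⊗[R] N), b • w = (LinearMap.mulLeft R b).rTensor N w := fun b w => by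
    induction w using TensorProduct.induction_on with
    | zero => simp
    | add x y hx hy => simp only [smul_add, map_add, hx, hy]
    | tmul x n => rfl
  refine ⟨fun y => ?_, fun w hw => ?_⟩
  · obtain ⟨⟨w, ⟨_, k, rfl⟩⟩, hk⟩ := IsLocalizedModule.surj (Submonoid.powers u) Φ y
    refine ⟨k, w, ?_⟩
    rw [← hΦ, ← hk, ← map_pow φ', ← hsm]
    rfl
  · obtain ⟨⟨_, k, rfl⟩, hk⟩ := (IsLocalizedModule.eq_zero_iff (Submonoid.powers u) Φ).1 ((hΦ w).trans hw)
    refine ⟨k, ?_⟩
    rw [← hsm']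
    exact hk

theorem mulLeft_rTensor_eq_smul (b : B) (x : B' ⊗[R] N) :
    (LinearMap.mulLeft R (algebraMap B B' b)).rTensor N x = b • x := by
  induction x using TensorProduct.induction_on with
  | zero => simp
  | add x y hx hy => simp only [smul_add, map_add, hx, hy]
  | tmul x n => rw [smul_tmul_eq]; rfl

variable {T T' : Type u} [CommRing T] [CommRing T'] [Algebra R T] [Algebra R T'] [Algebra T T']
  [IsScalarTower R T T']

/-- **Transfer along two localisations**, tensored. -/
theorem exists_pow_smul_mem [Finite G] {AB : Act G B (B' ⊗[R] N)} {AC : Act G C (C' ⊗[R] N)}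
    {AT : Act G T (T' ⊗[R] N)} (φ : B →ₐ[R] C) (φ' : B' →ₐ[R] C') (ψ : T →ₐ[R] C) (ψ' : T' →ₐ[R] C')
    (hsqB : ∀ b, φ' (algebraMap B B' b) = algebraMap C C' (φ b))
    (hsqT : ∀ b, ψ' (algebraMap T T' b) = algebraMap C C' (ψ b))
    (hφr : ∀ g b, φ (AB.r g b) = AC.r g (φ b)) (hψr : ∀ g b, ψ (AT.r g b) = AC.r g (ψ b))
    (hφm : ∀ g x, φ'.toLinearMap.rTensor N (AB.m g x) = AC.m g (φ'.toLinearMap.rTensor N x))
    (hψm : ∀ g x, ψ'.toLinearMap.rTensor N (AT.m g x) = AC.m g (ψ'.toLinearMap.rTensor N x))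
    {t : B} (ht : AB.RFix t) {c : T} (hc : AT.RFix c)
    (hB : @IsLocalization.Away _ _ t C _ φ.toRingHom.toAlgebra)
    (hT : @IsLocalization.Away _ _ c C _ ψ.toRingHom.toAlgebra)
    (hB' : @IsLocalization.Away _ _ (algebraMap B B' t) C' _ φ'.toRingHom.toAlgebra)
    (hT' : @IsLocalization.Away _ _ (algebraMap T T' c) C' _ ψ'.toRingHom.toAlgebra)
    (hspan : ∀ w, AT.MFix w → w ∈ AT.fspan fun n : N => (1 : T') ⊗ₜ[R] n)
    {z : B' ⊗[R] N} (hz : AB.MFix z) :
    ∃ k : ℕ, t ^ k • z ∈ AB.fspan fun n : N => (1 : B') ⊗ₜ[R] n := by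
  have huc : IsUnit (ψ c) := by
    letI := ψ.toRingHom.toAlgebra
    exact IsLocalization.Away.algebraMap_isUnit (S := C) c
  refine InvLocal.exists_pow_smul_mem_fspan AC AT φ.toRingHom ψ.toRingHom
    (φ'.toLinearMap.rTensor N).toAddMonoidHom (ψ'.toLinearMap.rTensor N).toAddMonoidHom
    (fC := fun n => (1 : C') ⊗ₜ[R] n) (fT := fun n => (1 : T') ⊗ₜ[R] n)
    (rTensor_smul φ φ' hsqB) (rTensor_smul ψ ψ' hsqT) hφr hψr hφm hψm ht hc huc
    (fun γ => ?_) (fun b hb => ?_) (fun x hx => ?_) (fun y => ?_) (fun w hw => ?_) (fun n => ?_)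
    (fun n => ?_) hspan hz
  · letI := φ.toRingHom.toAlgebra
    obtain ⟨k, b, hb⟩ := IsLocalization.Away.surj (S := C) t γ
    exact ⟨k, b, (mul_comm _ _).trans hb⟩
  · letI := φ.toRingHom.toAlgebra
    obtain ⟨k, hk⟩ := IsLocalization.Away.exists_of_eq (S := C) t (a := b) (b := 0)
      (by rw [map_zero]; exact hb)
    exact ⟨k, by rwa [mul_zero] at hk⟩
  · obtain ⟨k, hk⟩ := (rTensor_away φ' _ hB').2 x hx
    exact ⟨k, by rw [← mulLeft_rTensor_eq_smul, map_pow]; exact hk⟩
  · obtain ⟨k, w, hk⟩ := (rTensor_away ψ' _ hT').1 y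
    refine ⟨k, w, ?_⟩
    rw [← mulLeft_rTensor_eq_smul, map_pow, show (algebraMap C C') (ψ.toRingHom c) = ψ' (algebraMap T T' c)
      from (hsqT c).symm]
    exact hk
  · obtain ⟨k, hk⟩ := (rTensor_away ψ' _ hT').2 w hw
    exact ⟨k, by rw [← mulLeft_rTensor_eq_smul, map_pow]; exact hk⟩
  · show φ'.toLinearMap.rTensor N ((1 : B') ⊗ₜ[R] n) = _
    simp
  · show ψ'.toLinearMap.rTensor N ((1 : T') ⊗ₜ[R] n) = _
    simp

end Maps

/-- **Retracts**, tensored. -/
theorem mem_fspan_retract [Finite G] {AB : Act G B (B' ⊗[R] N)} (H : Subgroup G)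
    {T T' : Type u} [CommRing T] [CommRing T'] [Algebra R T] [Algebra R T'] [Algebra T T']
    [IsScalarTower R T T'] {AT : Act H T (T' ⊗[R] N)}
    (π : B →ₐ[R] T) (π' : B' →ₐ[R] T') (hsq : ∀ b, π' (algebraMap B B' b) = algebraMap T T' (π b))
    (hr : ∀ (h : H) b, π (AB.r h b) = AT.r h (π b))
    (hm : ∀ (h : H) x, π'.toLinearMap.rTensor N (AB.m h x) = AT.m h (π'.toLinearMap.rTensor N x))
    (hsurj : Function.Surjective π') (ι' : T' →ₗ[R] B') (ε : B)
    (hι : ∀ b', ι' (π' b') = algebraMap B B' ε * b')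
    (hε : ∀ h ∈ H, AB.r h ε = ε) (hπε : π ε = 1) (horth : ∀ g ∉ H, π (AB.r g ε) = 0)
    (hspan : ∀ x, AB.MFix x → x ∈ AB.fspan fun n : N => (1 : B') ⊗ₜ[R] n)
    {w : T' ⊗[R] N} (hw : AT.MFix w) : w ∈ AT.fspan fun n : N => (1 : T') ⊗ₜ[R] n := by
  refine InvLocal.mem_fspan_of_retract (f := fun n : N => (1 : B') ⊗ₜ[R] n) H AT π.toRingHom
    (π'.toLinearMap.rTensor N).toAddMonoidHom (rTensor_smul π π' hsq) hr hm
    (LinearMap.rTensor_surjective N hsurj) ε (fun h => hε h h.2) hπε (fun x hx => ?_) horth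
    (fun n => ?_) hspan hw
  · have key : ∀ y : B' ⊗[R] N, ι'.rTensor N (π'.toLinearMap.rTensor N y) = ε • y := fun y => by
      induction y using TensorProduct.induction_on with
      | zero => simp
      | add y z hy hz => simp only [smul_add, map_add, hy, hz]
      | tmul y n => rw [LinearMap.rTensor_tmul, LinearMap.rTensor_tmul, AlgHom.toLinearMap_apply, hι,
          smul_tmul_eq]
    rw [← key, show π'.toLinearMap.rTensor N x = 0 from hx, map_zero]
  · show π'.toLinearMap.rTensor N ((1 : B') ⊗ₜ[R] n) = _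
    simp

end Groth.Agent.IntTh85.TensorAct
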