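import Groth.Agent.IntTh85.Pattern
import Groth.Agent.IntTh85.TensorAct
import Groth.Agent.GrpdLib.InvOpen

/-!
# Opens of fibre powers, their inverse images and the permutation action on sections
-/

set_option autoImplicit false
set_option linter.style.haveILetI false

universe u

open CategoryTheory CategoryTheory.Limits AlgebraicGeometry Opposite
open scoped TensorProduct
open Groth.Agent.SymProdLib (appLE_congr_hom)

namespace Groth.Agent.IntTh85.SymPair

open InvLocal TensorAct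

theorem restriction_bijective {X : Scheme.{u}} {A B : X.Opens} (e : A ≤ B) (h : A = B) :
    Function.Bijective (X.presheaf.map (homOfLE e).op).hom := by
  subst h
  have : X.presheaf.map (homOfLE e).op = 𝟙 _ := by
    rw [show (homOfLE e).op = 𝟙 (op A) from rfl, CategoryTheory.Functor.map_id]
  rw [this]
  exact Function.bijective_id

variable {X Z S : Scheme.{u}} {f : X ⟶ S} {fZ : Z ⟶ S} {d : ℕ}

/-- An open of `fibPow f d` over `V`, considered with its preimage under `c`. -/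
structure Pair (c : SymProd.fibPow fZ d ⟶ SymProd.fibPow f d) (V : S.Opens) where
  O : (SymProd.fibPow f d).Opens
  le : O ≤ (WidePullback.base fun _ : Fin d => f) ⁻¹ᵁ V
  ov : c ≫ (WidePullback.base fun _ : Fin d => f) = WidePullback.base fun _ : Fin d => fZ

variable {c : SymProd.fibPow fZ d ⟶ SymProd.fibPow f d} {V : S.Opens}

theorem Pair.le' (P : Pair c V) : c ⁻¹ᵁ P.O ≤ (WidePullback.base fun _ : Fin d => fZ) ⁻¹ᵁ V := by
  rw [← P.ov, Scheme.Hom.comp_preimage]
  exact c.preimage_mono P.le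

noncomputable instance algO (P : Pair c V) : Algebra Γ(S, V) Γ(SymProd.fibPow f d, P.O) :=
  ((WidePullback.base fun _ : Fin d => f).appLE V P.O P.le).hom.toAlgebra

noncomputable instance algO' (P : Pair c V) : Algebra Γ(S, V) Γ(SymProd.fibPow fZ d, c ⁻¹ᵁ P.O) :=
  ((WidePullback.base fun _ : Fin d => fZ).appLE V (c ⁻¹ᵁ P.O) P.le').hom.toAlgebra

noncomputable instance algOO' (P : Pair c V) :
    Algebra Γ(SymProd.fibPow f d, P.O) Γ(SymProd.fibPow fZ d, c ⁻¹ᵁ P.O) :=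
  (c.appLE P.O (c ⁻¹ᵁ P.O) le_rfl).hom.toAlgebra

instance towerO (P : Pair c V) :
    IsScalarTower Γ(S, V) Γ(SymProd.fibPow f d, P.O) Γ(SymProd.fibPow fZ d, c ⁻¹ᵁ P.O) := by
  refine IsScalarTower.of_algebraMap_eq' ?_
  show _ = (c.appLE P.O (c ⁻¹ᵁ P.O) le_rfl).hom.comp
    ((WidePullback.base fun _ : Fin d => f).appLE V P.O P.le).hom
  rw [← CommRingCat.hom_comp, Scheme.Hom.appLE_comp_appLE, appLE_congr_hom P.ov _ P.le']
  rfl

theorem algebraMap_eq_app (P : Pair c V) (b : Γ(SymProd.fibPow f d, P.O)) :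
    algebraMap Γ(SymProd.fibPow f d, P.O) Γ(SymProd.fibPow fZ d, c ⁻¹ᵁ P.O) b = (c.app P.O).hom b := by
  rw [Scheme.Hom.app_eq_appLE]
  rfl

/-- Restriction. -/
noncomputable def res (P Q : Pair c V) (e : Q.O ≤ P.O) :
    Γ(SymProd.fibPow f d, P.O) →ₐ[Γ(S, V)] Γ(SymProd.fibPow f d, Q.O) :=
  { ((SymProd.fibPow f d).presheaf.map (homOfLE e).op).hom with
    commutes' := fun r => by
      show ((SymProd.fibPow f d).presheaf.map (homOfLE e).op).hom
        (((WidePullback.base fun _ : Fin d => f).appLE V P.O P.le).hom r) = _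
      rw [← RingHom.comp_apply, ← CommRingCat.hom_comp, Scheme.Hom.appLE_map]
      rfl }

theorem res_apply (P Q : Pair c V) (e : Q.O ≤ P.O) (b : Γ(SymProd.fibPow f d, P.O)) :
    res P Q e b = ((SymProd.fibPow f d).presheaf.map (homOfLE e).op).hom b := rfl

/-- Restriction of the preimages. -/
noncomputable def res' (P Q : Pair c V) (e : Q.O ≤ P.O) :
    Γ(SymProd.fibPow fZ d, c ⁻¹ᵁ P.O) →ₐ[Γ(S, V)] Γ(SymProd.fibPow fZ d, c ⁻¹ᵁ Q.O) :=
  { ((SymProd.fibPow fZ d).presheaf.map (homOfLE (c.preimage_mono e)).op).hom with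
    commutes' := fun r => by
      show ((SymProd.fibPow fZ d).presheaf.map (homOfLE (c.preimage_mono e)).op).hom
        (((WidePullback.base fun _ : Fin d => fZ).appLE V (c ⁻¹ᵁ P.O) P.le').hom r) = _
      rw [← RingHom.comp_apply, ← CommRingCat.hom_comp, Scheme.Hom.appLE_map]
      rfl }

theorem res'_algebraMap (P Q : Pair c V) (e : Q.O ≤ P.O) (b : Γ(SymProd.fibPow f d, P.O)) :
    res' P Q e (algebraMap _ Γ(SymProd.fibPow fZ d, c ⁻¹ᵁ P.O) b) =
      algebraMap _ Γ(SymProd.fibPow fZ d, c ⁻¹ᵁ Q.O) (res P Q e b) := by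
  show ((SymProd.fibPow fZ d).presheaf.map _).hom ((c.appLE P.O (c ⁻¹ᵁ P.O) le_rfl).hom b) =
    (c.appLE Q.O (c ⁻¹ᵁ Q.O) le_rfl).hom (((SymProd.fibPow f d).presheaf.map _).hom b)
  rw [← RingHom.comp_apply, ← CommRingCat.hom_comp, Scheme.Hom.appLE_map, ← RingHom.comp_apply,
    ← CommRingCat.hom_comp, Scheme.Hom.map_appLE]

theorem isLocalization_res (P Q : Pair c V) (hP : IsAffineOpen P.O) (t : Γ(SymProd.fibPow f d, P.O))
    (e : Q.O ≤ P.O) (h : Q.O = (SymProd.fibPow f d).basicOpen t) :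
    @IsLocalization.Away _ _ t Γ(SymProd.fibPow f d, Q.O) _ (res P Q e).toRingHom.toAlgebra :=
  hP.isLocalization_of_eq_basicOpen t (homOfLE e) h

theorem isLocalization_res' [IsAffineHom c] (P Q : Pair c V) (hP : IsAffineOpen P.O)
    (t : Γ(SymProd.fibPow f d, P.O)) (e : Q.O ≤ P.O) (h : Q.O = (SymProd.fibPow f d).basicOpen t) :
    @IsLocalization.Away _ _ (algebraMap _ Γ(SymProd.fibPow fZ d, c ⁻¹ᵁ P.O) t)
      Γ(SymProd.fibPow fZ d, c ⁻¹ᵁ Q.O) _ (res' P Q e).toRingHom.toAlgebra :=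
  (hP.preimage c).isLocalization_of_eq_basicOpen _ (homOfLE (c.preimage_mono e)) (by
    rw [algebraMap_eq_app, h, Scheme.preimage_basicOpen])

section Act

variable {K : Type*} [Group K] (ι : K →* Equiv.Perm (Fin d))

/-- Stability of an open. -/
def Stable (W : (SymProd.fibPow f d).Opens) : Prop := ∀ k, W ≤ (SymProd.permHom f d (ι k)) ⁻¹ᵁ W

variable {ι}

/-- The action on the sections of a stable open. -/
noncomputable def secPerm (P : Pair c V) (hst : Stable ι P.O) (k : K) :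
    Γ(SymProd.fibPow f d, P.O) →+* Γ(SymProd.fibPow f d, P.O) :=
  ((SymProd.permHom f d (ι k⁻¹)).appLE P.O P.O (hst k⁻¹)).hom

variable (heq : ∀ σ, SymProd.permHom fZ d σ ≫ c = c ≫ SymProd.permHom f d σ)

include heq in
theorem stable' (P : Pair c V) (hst : Stable ι P.O) (k : K) :
    c ⁻¹ᵁ P.O ≤ (SymProd.permHom fZ d (ι k)) ⁻¹ᵁ (c ⁻¹ᵁ P.O) := by
  rw [← Scheme.Hom.comp_preimage, heq, Scheme.Hom.comp_preimage]
  exact c.preimage_mono (hst k)

/-- The action on the sections of the preimage. -/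
noncomputable def secPerm' (P : Pair c V) (hst : Stable ι P.O) (k : K) :
    Γ(SymProd.fibPow fZ d, c ⁻¹ᵁ P.O) →ₐ[Γ(S, V)] Γ(SymProd.fibPow fZ d, c ⁻¹ᵁ P.O) :=
  { ((SymProd.permHom fZ d (ι k⁻¹)).appLE (c ⁻¹ᵁ P.O) (c ⁻¹ᵁ P.O) (stable' heq P hst k⁻¹)).hom with
    commutes' := fun r => by
      show ((SymProd.permHom fZ d (ι k⁻¹)).appLE _ _ (stable' heq P hst k⁻¹)).hom
        (((WidePullback.base fun _ : Fin d => fZ).appLE V (c ⁻¹ᵁ P.O) P.le').hom r) = _
      rw [← RingHom.comp_apply, ← CommRingCat.hom_comp, Scheme.Hom.appLE_comp_appLE,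
        appLE_congr_hom (SymProd.permHom_base fZ d _) _ P.le']
      rfl }

theorem appLE_id_apply {Y : Scheme.{u}} {U : Y.Opens} {g : Y ⟶ Y} (hg : g = 𝟙 Y) (e : U ≤ g ⁻¹ᵁ U)
    (x : Γ(Y, U)) : (g.appLE U U e).hom x = x := by
  subst hg
  show (Scheme.Hom.appLE (𝟙 Y) U U _).hom x = x
  rw [show Scheme.Hom.appLE (𝟙 Y) U U e = 𝟙 _ from (Scheme.Hom.appLE_eq_app (𝟙 Y)).trans (Scheme.Hom.id_app U)]
  rfl

theorem appLE_comp_apply {Y : Scheme.{u}} {U : Y.Opens} {g h k : Y ⟶ Y} (hk : k = g ≫ h)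
    (e : U ≤ k ⁻¹ᵁ U) (eg : U ≤ g ⁻¹ᵁ U) (eh : U ≤ h ⁻¹ᵁ U) (x : Γ(Y, U)) :
    (k.appLE U U e).hom x = (g.appLE U U eg).hom ((h.appLE U U eh).hom x) := by
  rw [← RingHom.comp_apply, ← CommRingCat.hom_comp, Scheme.Hom.appLE_comp_appLE]
  subst hk
  rfl

/-- The semilinear action on `Γ(c⁻¹ O) ⊗ N`. -/
noncomputable def secAct (P : Pair c V) (hst : Stable ι P.O) (N : Type u) [AddCommGroup N]
    [Module Γ(S, V) N] :
    Act K Γ(SymProd.fibPow f d, P.O) (Γ(SymProd.fibPow fZ d, c ⁻¹ᵁ P.O) ⊗[Γ(S, V)] N) :=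
  tensorAct N (secPerm P hst) (secPerm' heq P hst)
    (fun b => appLE_id_apply (by rw [inv_one, map_one, SymProd.permHom_one]) _ b)
    (fun g h b => appLE_comp_apply (by rw [mul_inv_rev, map_mul, SymProd.permHom_mul]) _ _ _ b)
    (fun b => appLE_id_apply (by rw [inv_one, map_one, SymProd.permHom_one]) _ b)
    (fun g h b => appLE_comp_apply (by rw [mul_inv_rev, map_mul, SymProd.permHom_mul]) _ _ _ b)
    (fun g b => by
      show ((SymProd.permHom fZ d (ι g⁻¹)).appLE _ _ (stable' heq P hst g⁻¹)).hom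
        ((c.appLE P.O (c ⁻¹ᵁ P.O) le_rfl).hom b) =
        (c.appLE P.O (c ⁻¹ᵁ P.O) le_rfl).hom (((SymProd.permHom f d (ι g⁻¹)).appLE _ _ (hst g⁻¹)).hom b)
      rw [← RingHom.comp_apply, ← CommRingCat.hom_comp, Scheme.Hom.appLE_comp_appLE,
        ← RingHom.comp_apply, ← CommRingCat.hom_comp, Scheme.Hom.appLE_comp_appLE,
        appLE_congr_hom (heq (ι g⁻¹)) _ _])

/-- Restrictions commute with the action. -/
theorem res_secPerm (P Q : Pair c V) (hP : Stable ι P.O) (hQ : Stable ι Q.O) (e : Q.O ≤ P.O) (k : K)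
    (b : Γ(SymProd.fibPow f d, P.O)) :
    res P Q e (secPerm P hP k b) = secPerm Q hQ k (res P Q e b) := by
  show ((SymProd.fibPow f d).presheaf.map _).hom
      (((SymProd.permHom f d (ι k⁻¹)).appLE _ _ (hP k⁻¹)).hom b) =
    ((SymProd.permHom f d (ι k⁻¹)).appLE _ _ (hQ k⁻¹)).hom (((SymProd.fibPow f d).presheaf.map _).hom b)
  rw [← RingHom.comp_apply, ← CommRingCat.hom_comp, Scheme.Hom.appLE_map, ← RingHom.comp_apply,
    ← CommRingCat.hom_comp, Scheme.Hom.map_appLE]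

theorem res'_secAct (P Q : Pair c V) (hP : Stable ι P.O) (hQ : Stable ι Q.O) (e : Q.O ≤ P.O)
    (N : Type u) [AddCommGroup N] [Module Γ(S, V) N] (k : K)
    (x : Γ(SymProd.fibPow fZ d, c ⁻¹ᵁ P.O) ⊗[Γ(S, V)] N) :
    (res' P Q e).toLinearMap.rTensor N ((secAct heq P hP N).m k x) =
      (secAct heq Q hQ N).m k ((res' P Q e).toLinearMap.rTensor N x) := by
  show (res' P Q e).toLinearMap.rTensor N ((secPerm' heq P hP k).toLinearMap.rTensor N x) =
    (secPerm' heq Q hQ k).toLinearMap.rTensor N ((res' P Q e).toLinearMap.rTensor N x)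
  rw [← LinearMap.rTensor_comp_apply, ← LinearMap.rTensor_comp_apply]
  congr 2
  refine LinearMap.ext fun b => ?_
  show ((SymProd.fibPow fZ d).presheaf.map _).hom
      (((SymProd.permHom fZ d (ι k⁻¹)).appLE _ _ (stable' heq P hP k⁻¹)).hom b) =
    ((SymProd.permHom fZ d (ι k⁻¹)).appLE _ _ (stable' heq Q hQ k⁻¹)).hom
      (((SymProd.fibPow fZ d).presheaf.map _).hom b)
  rw [← RingHom.comp_apply, ← CommRingCat.hom_comp, Scheme.Hom.appLE_map, ← RingHom.comp_apply,
    ← CommRingCat.hom_comp, Scheme.Hom.map_appLE]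

theorem stable_basicOpen (P : Pair c V) (hst : Stable ι P.O) {t : Γ(SymProd.fibPow f d, P.O)}
    (ht : ∀ k, secPerm P hst k t = t) : Stable ι ((SymProd.fibPow f d).basicOpen t) := by
  intro k
  conv_lhs => rw [← ht k⁻¹]
  rw [secPerm, Scheme.basicOpen_appLE]
  refine inf_le_right.trans ?_
  rw [inv_inv]

variable [Finite K]

/-- An invariant function cutting out a neighbourhood of the orbit of a point. -/
theorem exists_fixed_basicOpen (P : Pair c V) (hP : IsAffineOpen P.O) (hst : Stable ι P.O)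
    (p : ↥(SymProd.fibPow f d)) (hp : p ∈ P.O) (O : (SymProd.fibPow f d).Opens)
    (hO : ∀ k, (SymProd.permHom f d (ι k)).base p ∈ O) :
    ∃ t, (∀ k, secPerm P hst k t = t) ∧ p ∈ (SymProd.fibPow f d).basicOpen t ∧
      (SymProd.fibPow f d).basicOpen t ≤ O := by
  classical
  cases nonempty_fintype K
  obtain ⟨b, hb, hbO⟩ := GrpdLib.exists_basicOpen_of_finite hP
    (Set.finite_range fun k : K => (SymProd.permHom f d (ι k)).base p) O
    (by rintro _ ⟨k, rfl⟩; exact hst k hp) (by rintro _ ⟨k, rfl⟩; exact hO k)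
  have hmem : ∀ k, p ∈ (SymProd.fibPow f d).basicOpen (secPerm P hst k b) := fun k => by
    rw [secPerm, Scheme.basicOpen_appLE]
    exact ⟨hp, hb ⟨k⁻¹, rfl⟩⟩
  refine ⟨∏ k : K, secPerm P hst k b, fun g => ?_, ?_, ?_⟩
  · rw [map_prod]
    refine Eq.trans (Finset.prod_congr rfl fun k _ => ?_)
      (Equiv.prod_comp (Equiv.mulLeft g) fun k : K => secPerm P hst k b)
    exact (appLE_comp_apply (by rw [Equiv.coe_mulLeft, mul_inv_rev, map_mul, SymProd.permHom_mul])
      _ _ _ b).symm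
  · rw [Scheme.mem_basicOpen _ _ p hp, map_prod, IsUnit.prod_univ_iff]
    exact fun k => (Scheme.mem_basicOpen _ _ p hp).1 (hmem k)
  · rw [← Finset.mul_prod_erase _ _ (Finset.mem_univ (1 : K)), Scheme.basicOpen_mul]
    refine inf_le_left.trans ?_
    rw [show secPerm P hst 1 b = b from
      appLE_id_apply (by rw [inv_one, map_one, SymProd.permHom_one]) _ b]
    exact hbO

end Act

/-- The prime of a translate. -/
theorem point_of_comap_eq {K : Type*} [Group K] {ι : K →* Equiv.Perm (Fin d)} (P : Pair c V)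
    (hP : IsAffineOpen P.O) (hst : Stable ι P.O) (x : PrimeSpectrum Γ(SymProd.fibPow f d, P.O)) (k : K)
    (h : x.asIdeal.comap (secPerm P hst k) = x.asIdeal) :
    (SymProd.permHom f d (ι k⁻¹)).base (hP.fromSpec x) = hP.fromSpec x := by
  have key := congr(($(hP.SpecMap_appLE_fromSpec (SymProd.permHom f d (ι k⁻¹)) hP (hst k⁻¹))).base x)
  change hP.fromSpec ((Spec.map ((SymProd.permHom f d (ι k⁻¹)).appLE P.O P.O (hst k⁻¹))).base x) =
    (SymProd.permHom f d (ι k⁻¹)).base (hP.fromSpec x) at key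
  rw [← key]
  congr 1
  exact PrimeSpectrum.ext h

end Groth.Agent.IntTh85.SymPair
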