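import Groth.Prelude.Def_SymTen
import Mathlib.RingTheory.GradedAlgebra.Basic
import Mathlib.RingTheory.IntegralClosure.IsIntegralClosure.Basic
import Mathlib.RingTheory.LocalRing.ResidueField.Ideal
import Mathlib.RingTheory.Finiteness.Defs
import Mathlib.RingTheory.Ideal.GoingUp
import Mathlib.RingTheory.Spectrum.Prime.Topology

/-!
# Covering the projective symmetric product by standard opens
-/

set_option autoImplicit false
universe u

open scoped TensorProduct
open Function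

namespace Groth.Agent.IntTh85.SymProjCover

variable {A B : Type u} [CommRing A] [CommRing B] [Algebra A B] (𝒜 : ℕ → Submodule A B)
  [GradedAlgebra 𝒜] (d : ℕ)

/-- The pure tensors with all factors of one degree. -/
def gens : Set (⨂[A] _ : Fin d, B) :=
  {t | ∃ (k : ℕ) (b : Fin d → B), (∀ i, b i ∈ 𝒜 k) ∧ t = PiTensorProduct.tprod A b}

/-- The subalgebra they generate. -/
noncomputable def Calg : Subalgebra A (⨂[A] _ : Fin d, B) := Algebra.adjoin A (gens 𝒜 d)

variable {𝒜 d}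

omit [GradedAlgebra 𝒜] in
theorem tprod_mem {n : ℕ} {x : Fin d → B} (hx : ∀ i, x i ∈ 𝒜 n) :
    PiTensorProduct.tprod A x ∈ Calg 𝒜 d := Algebra.subset_adjoin ⟨n, x, hx, rfl⟩

omit [GradedAlgebra 𝒜] in
theorem perm_mem (σ : Equiv.Perm (Fin d)) {c : ⨂[A] _ : Fin d, B} (hc : c ∈ Calg 𝒜 d) :
    SymTen.perm A B d σ c ∈ Calg 𝒜 d := by
  induction hc using Algebra.adjoin_induction with
  | mem x hx =>
    obtain ⟨k, b, hb, rfl⟩ := hx
    rw [SymTen.perm_tprod]
    exact tprod_mem fun i => hb _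
  | algebraMap a => rw [AlgHom.commutes]; exact Subalgebra.algebraMap_mem _ a
  | add x y _ _ hx hy => rw [map_add]; exact add_mem hx hy
  | mul x y _ _ hx hy => rw [map_mul]; exact mul_mem hx hy

theorem perm_perm (σ τ : Equiv.Perm (Fin d)) (t : ⨂[A] _ : Fin d, B) :
    SymTen.perm A B d σ (SymTen.perm A B d τ t) = SymTen.perm A B d (σ * τ) t := by
  induction t using PiTensorProduct.induction_on with
  | smul_tprod r f =>
    simp only [map_smul, SymTen.perm_tprod]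
    rfl
  | add x y hx hy => simp [hx, hy]

theorem perm_one' (t : ⨂[A] _ : Fin d, B) : SymTen.perm A B d 1 t = t := by
  induction t using PiTensorProduct.induction_on with
  | smul_tprod r f => simp only [map_smul, SymTen.perm_tprod]; rfl
  | add x y hx hy => simp [hx, hy]

open Polynomial in
/-- A subalgebra stable under a finite group is integral over its fixed part. -/
theorem isIntegral_inclusion {T : Type u} [CommRing T] [Algebra A T] {G : Type u} [Group G] [Fintype G]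
    (π : G → T →ₐ[A] T) (h1 : ∀ t, π 1 t = t) (hmul : ∀ g h t, π g (π h t) = π (g * h) t)
    (C' D : Subalgebra A T) (hC : ∀ g, ∀ c ∈ C', π g c ∈ C')
    (hD : ∀ t, t ∈ D ↔ t ∈ C' ∧ ∀ g, π g t = t) (hle : D ≤ C') :
    (Subalgebra.inclusion hle).toRingHom.IsIntegral := fun c => by
  rcases subsingleton_or_nontrivial T with hT | hT
  · exact ⟨X, monic_X, Subtype.ext (Subsingleton.elim _ _)⟩
  let F : Polynomial T := ∏ g : G, (X - C (π g c.1))
  have hl : F ∈ lifts (C'.val : C' →+* T) :=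
    prod_mem fun g _ => by
      rw [sub_eq_add_neg, ← map_neg]
      exact add_mem (X_mem_lifts (C'.val : C' →+* T))
        (C'_mem_lifts (f := (C'.val : C' →+* T)) ⟨-⟨_, hC g _ c.2⟩, rfl⟩)
  have hfix : ∀ g, F.map (π g : T →+* T) = F := fun g => by
    simp only [F, Polynomial.map_prod, Polynomial.map_sub, map_X, map_C]
    refine Fintype.prod_equiv (Equiv.mulLeft g) _ (fun h => X - C (π h c.1)) fun h => ?_
    simp only [RingHom.coe_coe, hmul, Equiv.coe_mulLeft]
  have hcoef : ∀ n, F.coeff n ∈ D := fun n => by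
    obtain ⟨a, ha⟩ := (lifts_iff_coeff_lifts F).1 hl n
    refine (hD _).2 ⟨ha ▸ a.2, fun g => ?_⟩
    conv_rhs => rw [← hfix g, coeff_map]
    rfl
  have hF : F ∈ lifts (D.val : D →+* T) :=
    (lifts_iff_coeff_lifts F).2 fun n => ⟨⟨_, hcoef n⟩, rfl⟩
  have hmon : F.Monic := monic_prod_of_monic _ _ fun g _ => monic_X_sub_C _
  obtain ⟨G', hG, -, hGm⟩ := lifts_and_degree_eq_and_monic hF hmon
  refine ⟨G', hGm, Subtype.ext ?_⟩
  show (C'.val : C' →+* T) (G'.eval₂ _ c) = 0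
  rw [hom_eval₂]
  change G'.eval₂ (D.val : D →+* T) c.1 = 0
  rw [eval₂_eq_eval_map, hG, eval_prod]
  exact Finset.prod_eq_zero (Finset.mem_univ 1) (by simp [h1])

open Polynomial in
omit [GradedAlgebra 𝒜] in
/-- A prime of the invariant subalgebra lifts. -/
theorem exists_prime_over (D : Subalgebra A (⨂[A] _ : Fin d, B))
    (hD : D = Calg 𝒜 d ⊓ SymTen.TS A B d) (P : Ideal D) [P.IsPrime] :
    ∃ Q : Ideal (Calg 𝒜 d), Q.IsPrime ∧
      ∀ x : D, ∀ hx : (x : ⨂[A] _ : Fin d, B) ∈ Calg 𝒜 d, (⟨x, hx⟩ : Calg 𝒜 d) ∈ Q ↔ x ∈ P := by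
  have hle : D ≤ Calg 𝒜 d := hD ▸ inf_le_left
  let ι : D →+* Calg 𝒜 d := (Subalgebra.inclusion hle).toRingHom
  letI : Algebra D (Calg 𝒜 d) := ι.toAlgebra
  have hint : Algebra.IsIntegral D (Calg 𝒜 d) :=
    ⟨isIntegral_inclusion (G := ULift.{u} (Equiv.Perm (Fin d))) (fun σ => SymTen.perm A B d σ.down)
      perm_one' (fun σ τ => perm_perm σ.down τ.down) (Calg 𝒜 d) D (fun σ _ => perm_mem σ.down)
      (fun t => by
        rw [hD, Algebra.mem_inf, SymTen.mem_TS_iff]
        refine and_congr_right fun _ => ⟨fun h σ => (SymTen.perm_apply A B d _ _).trans (h σ.down),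
          fun h σ => (SymTen.perm_apply A B d _ _).symm.trans (h ⟨σ⟩)⟩) hle⟩
  obtain ⟨Q, -, hQ, hQP⟩ := Ideal.exists_ideal_over_prime_of_isIntegral (S := Calg 𝒜 d) P ⊥ (by
    refine le_trans ?_ bot_le
    intro x hx
    rw [Ideal.mem_comap, Ideal.mem_bot] at hx
    rw [Ideal.mem_bot]
    have h' : ((ι x : Calg 𝒜 d) : ⨂[A] _ : Fin d, B) = 0 := by
      rw [show ι x = 0 from hx]; rfl
    exact Subtype.ext h')
  refine ⟨Q, hQ, fun x hx => ?_⟩
  rw [← hQP, Ideal.mem_comap]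
  rfl

section Eval

variable {R : Type u} [CommRing R] (ψ : Calg 𝒜 d →+* R)

open scoped Classical in
/-- The value on a pure tensor. -/
noncomputable def ev (x : Fin d → B) : R :=
  if h : PiTensorProduct.tprod A x ∈ Calg 𝒜 d then ψ ⟨_, h⟩ else 0

omit [GradedAlgebra 𝒜] in
theorem ev_eq {n : ℕ} {x : Fin d → B} (hx : ∀ i, x i ∈ 𝒜 n) :
    ev ψ x = ψ ⟨_, tprod_mem hx⟩ := dif_pos (tprod_mem hx)

theorem ev_mul {n m : ℕ} {x y : Fin d → B} (hx : ∀ i, x i ∈ 𝒜 n) (hy : ∀ i, y i ∈ 𝒜 m) :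
    ev ψ (x * y) = ev ψ x * ev ψ y := by
  rw [ev_eq ψ (n := n + m) (x := x * y) fun i => SetLike.mul_mem_graded (hx i) (hy i),
    ev_eq ψ hx, ev_eq ψ hy, ← map_mul]
  refine congrArg ψ (Subtype.ext ?_)
  exact (PiTensorProduct.tprod_mul_tprod x y).symm

omit [GradedAlgebra 𝒜] in
theorem upd_mem {n : ℕ} {b : Fin d → B} (hb : ∀ i, b i ∈ 𝒜 n) {i : Fin d} {u : B} (hu : u ∈ 𝒜 n) :
    ∀ j, update b i u j ∈ 𝒜 n := fun j => by
  by_cases h : j = i
  · subst h; simpa using hu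
  · simpa [update_of_ne h] using hb j

theorem ev_swap {n : ℕ} {x y : Fin d → B} (hx : ∀ i, x i ∈ 𝒜 n) (hy : ∀ i, y i ∈ 𝒜 n) (i : Fin d) :
    ev ψ x * ev ψ y = ev ψ (update x i (y i)) * ev ψ (update y i (x i)) := by
  rw [← ev_mul ψ hx hy, ← ev_mul ψ (upd_mem hx (hy i)) (upd_mem hy (hx i))]
  congr 1
  funext j
  by_cases h : j = i
  · subst h; simp [mul_comm]
  · simp [update_of_ne h]

theorem ev_factor {n : ℕ} {x b : Fin d → B} (hx : ∀ i, x i ∈ 𝒜 n) (hb : ∀ i, b i ∈ 𝒜 n) :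
    ev ψ x * ev ψ b ^ d = ev ψ b * ∏ i, ev ψ (update b i (x i)) := by
  classical
  suffices h : ∀ s : Finset (Fin d), ev ψ x * ev ψ b ^ s.card =
      ev ψ (s.piecewise b x) * ∏ i ∈ s, ev ψ (update b i (x i)) by
    simpa using h Finset.univ
  intro s
  induction s using Finset.induction_on with
  | empty => simp
  | @insert a s ha ih =>
    have hp : ∀ i, s.piecewise b x i ∈ 𝒜 n := fun i => by
      by_cases h : i ∈ s <;> simp [h, hx i, hb i]
    rw [Finset.card_insert_of_notMem ha, pow_succ, ← mul_assoc, ih, Finset.prod_insert ha,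
      mul_right_comm, ev_swap ψ hp hb a, Finset.piecewise_eq_of_notMem _ _ _ ha,
      Finset.piecewise_insert]
    ring

omit [GradedAlgebra 𝒜] in
theorem ev_update_add {n : ℕ} {b : Fin d → B} (hb : ∀ i, b i ∈ 𝒜 n) (i : Fin d) {u v : B}
    (hu : u ∈ 𝒜 n) (hv : v ∈ 𝒜 n) :
    ev ψ (update b i (u + v)) = ev ψ (update b i u) + ev ψ (update b i v) := by
  rw [ev_eq ψ (upd_mem hb (add_mem hu hv)), ev_eq ψ (upd_mem hb hu), ev_eq ψ (upd_mem hb hv),
    ← map_add]
  exact congrArg ψ (Subtype.ext ((PiTensorProduct.tprod A).map_update_add b i u v))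

omit [GradedAlgebra 𝒜] in
theorem ev_update_smul {n : ℕ} {b : Fin d → B} (hb : ∀ i, b i ∈ 𝒜 n) (i : Fin d) {u : B} (a : A)
    (hu : u ∈ 𝒜 n) :
    ev ψ (update b i (a • u)) = ψ (algebraMap A _ a) * ev ψ (update b i u) := by
  rw [ev_eq ψ (upd_mem hb (Submodule.smul_mem _ a hu)), ev_eq ψ (upd_mem hb hu), ← map_mul]
  refine congrArg ψ (Subtype.ext ?_)
  refine ((PiTensorProduct.tprod A).map_update_smul b i a u).trans ?_
  exact Algebra.smul_def a _

omit [GradedAlgebra 𝒜] in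
/-- A form vanishing on spanning elements vanishes. -/
theorem exists_ne_zero_of_span {n : ℕ} {b : Fin d → B} (hb : ∀ i, b i ∈ 𝒜 n) (i : Fin d) {s : Set B}
    (hs : s ⊆ 𝒜 n) {u : B} (hu : u ∈ Submodule.span A s) (h : ev ψ (update b i u) ≠ 0) :
    ∃ v ∈ s, ev ψ (update b i v) ≠ 0 := by
  by_contra! H
  suffices ∀ u ∈ Submodule.span A s, ev ψ (update b i u) = 0 from h (this u hu)
  intro u hu
  have hmem : ∀ z ∈ Submodule.span A s, z ∈ 𝒜 n := fun z hz => Submodule.span_le.2 hs hz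
  induction hu using Submodule.span_induction with
  | mem x hx => exact H x hx
  | zero =>
    rw [← zero_smul A (0 : B), ev_update_smul ψ hb i (0 : A) (zero_mem _)]
    simp
  | add x y hx' hy' hx hy => rw [ev_update_add ψ hb i (hmem x hx') (hmem y hy'), hx, hy, add_zero]
  | smul a x hx' hx => rw [ev_update_smul ψ hb i a (hmem x hx'), hx, mul_zero]

theorem mem_span_mul (hgen : Algebra.adjoin A (𝒜 1 : Set B) = ⊤) {k : ℕ} {b : B} (hb : b ∈ 𝒜 (k + 1)) :
    b ∈ Submodule.span A {w | ∃ u ∈ 𝒜 1, ∃ v ∈ 𝒜 k, w = u * v} := by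
  have hcl : ∀ w ∈ Submonoid.closure (𝒜 1 : Set B), ∃ n, w ∈ 𝒜 n ∧
      ∀ k, n = k + 1 → ∃ u ∈ 𝒜 1, ∃ v ∈ 𝒜 k, w = u * v := by
    intro w hw
    induction hw using Submonoid.closure_induction_left with
    | one => exact ⟨0, SetLike.one_mem_graded _, fun k hk => absurd hk (by omega)⟩
    | mul_left x hx y _ ih =>
      obtain ⟨n, hy, -⟩ := ih
      refine ⟨1 + n, SetLike.mul_mem_graded hx hy, fun k hk => ⟨x, hx, y, ?_, rfl⟩⟩
      obtain rfl : n = k := by omega
      exact hy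
  have hmem : b ∈ Submodule.span A (Submonoid.closure (𝒜 1 : Set B) : Set B) := by
    rw [← Algebra.adjoin_eq_span, hgen]; trivial
  have := Submodule.apply_mem_span_image_of_mem_span (GradedAlgebra.proj 𝒜 (k + 1)) hmem
  rw [GradedAlgebra.proj_apply, DirectSum.decompose_of_mem_same 𝒜 hb] at this
  refine Submodule.span_le.2 ?_ this
  rintro _ ⟨w, hw, rfl⟩
  obtain ⟨n, hn, hw'⟩ := hcl w hw
  rw [GradedAlgebra.proj_apply]
  by_cases h : n = k + 1
  · subst h
    rw [DirectSum.decompose_of_mem_same 𝒜 hn]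
    exact Submodule.subset_span (hw' k rfl)
  · rw [DirectSum.decompose_of_mem_ne 𝒜 hn h]
    exact zero_mem _

variable [IsDomain R]

/-- A point not vanishing on some tensor of positive degree does not vanish in degree one. -/
theorem exists_ev_one_ne_zero (hgen : Algebra.adjoin A (𝒜 1 : Set B) = ⊤) {k : ℕ} {b : Fin d → B}
    (hb : ∀ i, b i ∈ 𝒜 (k + 1)) (h : ev ψ b ≠ 0) :
    ∃ c : Fin d → B, (∀ i, c i ∈ 𝒜 1) ∧ ev ψ c ≠ 0 := by
  have hch : ∀ i, ∃ v, (∃ u ∈ 𝒜 1, ∃ w ∈ 𝒜 k, v = u * w) ∧ ev ψ (update b i v) ≠ 0 := fun i =>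
    exists_ne_zero_of_span ψ hb i (by
      rintro _ ⟨u, hu, w, hw, rfl⟩
      exact (add_comm 1 k) ▸ SetLike.mul_mem_graded hu hw) (mem_span_mul hgen (hb i))
      (by rwa [update_eq_self])
  choose v hv hne using hch
  choose u hu w hw huw using hv
  have hvm : ∀ i, v i ∈ 𝒜 (k + 1) := fun i => by
    rw [huw i, add_comm k 1]; exact SetLike.mul_mem_graded (hu i) (hw i)
  have hvne : ev ψ v ≠ 0 := fun h0 => by
    have := ev_factor ψ hvm hb
    rw [h0, zero_mul] at this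
    exact mul_ne_zero h (Finset.prod_ne_zero_iff.2 fun i _ => hne i) this.symm
  refine ⟨u, hu, fun h0 => hvne ?_⟩
  rw [show v = u * w from funext huw, ev_mul ψ hu hw, h0, zero_mul]

theorem ev_ne_zero_of_forall {n : ℕ} {x b : Fin d → B} (hx : ∀ i, x i ∈ 𝒜 n) (hb : ∀ i, b i ∈ 𝒜 n)
    (h : ev ψ b ≠ 0) (hne : ∀ i, ev ψ (update b i (x i)) ≠ 0) : ev ψ x ≠ 0 := fun h0 => by
  have := ev_factor ψ hx hb
  rw [h0, zero_mul] at this
  exact mul_ne_zero h (Finset.prod_ne_zero_iff.2 fun i _ => hne i) this.symm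

/-- A symmetric tensor of degree one not vanishing at the point. -/
theorem exists_symm_ne_zero (hfg : (𝒜 1).FG) {c : Fin d → B} (hc : ∀ i, c i ∈ 𝒜 1)
    (h : ev ψ c ≠ 0) :
    ∃ s : Calg 𝒜 d, (s : ⨂[A] _ : Fin d, B) ∈ SymTen.TS A B d ∧
      (s : ⨂[A] _ : Fin d, B) ∈ Submodule.span A
        {t | ∃ b : Fin d → B, (∀ i, b i ∈ 𝒜 1) ∧ t = PiTensorProduct.tprod A b} ∧ ψ s ≠ 0 := by
  classical
  obtain ⟨n, g, hg⟩ := Submodule.fg_iff_exists_fin_generating_family.1 hfg
  have hgm : ∀ k, g k ∈ 𝒜 1 := fun k => hg ▸ Submodule.subset_span ⟨k, rfl⟩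
  have hex : ∀ i, (Finset.univ.filter fun k => ev ψ (update c i (g k)) ≠ 0).Nonempty := fun i => by
    obtain ⟨v, ⟨k, rfl⟩, hk⟩ := exists_ne_zero_of_span ψ hc i (s := Set.range g)
      (by rintro _ ⟨k, rfl⟩; exact hgm k) (hg ▸ hc i) (by rwa [update_eq_self])
    exact ⟨k, Finset.mem_filter.2 ⟨Finset.mem_univ _, hk⟩⟩
  let j : Fin d → Fin n := fun i => (Finset.univ.filter fun k => ev ψ (update c i (g k)) ≠ 0).min' (hex i)
  have hj : ∀ i, ev ψ (update c i (g (j i))) ≠ 0 := fun i =>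
    (Finset.mem_filter.1 (Finset.min'_mem _ (hex i))).2
  have hjle : ∀ i k, ev ψ (update c i (g k)) ≠ 0 → j i ≤ k := fun i k hk =>
    Finset.min'_le (Finset.univ.filter fun k => ev ψ (update c i (g k)) ≠ 0) k (by simpa using hk)
  let O : Finset (Fin d → Fin n) := Finset.univ.image fun σ : Equiv.Perm (Fin d) => j ∘ σ
  let s : Calg 𝒜 d := ∑ u ∈ O, ⟨PiTensorProduct.tprod A (g ∘ u), tprod_mem fun i => hgm (u i)⟩
  have hs : (s : ⨂[A] _ : Fin d, B) = ∑ u ∈ O, PiTensorProduct.tprod A (g ∘ u) := by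
    simp only [s, AddSubmonoidClass.coe_finsetSum]
  have hclosed : ∀ (τ : Equiv.Perm (Fin d)), ∀ u ∈ O, u ∘ τ ∈ O := by
    intro τ u hu
    obtain ⟨σ, -, rfl⟩ := Finset.mem_image.1 hu
    exact Finset.mem_image.2 ⟨σ * τ, Finset.mem_univ _, rfl⟩
  refine ⟨s, fun τ => ?_, ?_, ?_⟩
  · rw [← SymTen.perm_apply, hs, map_sum]
    refine Finset.sum_nbij' (fun u => u ∘ ⇑τ.symm) (fun u => u ∘ ⇑τ)
      (fun u hu => hclosed τ.symm u hu) (fun u hu => hclosed τ u hu)
      (fun u _ => funext fun i => by simp) (fun u _ => funext fun i => by simp) fun u _ => ?_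
    rw [SymTen.perm_tprod]; rfl
  · rw [hs]
    exact sum_mem fun u _ => Submodule.subset_span ⟨g ∘ u, fun i => hgm (u i), rfl⟩
  · intro h0
    have hsum : ∑ u ∈ O, ev ψ (g ∘ u) = 0 := by
      rw [← h0, map_sum]
      exact Finset.sum_congr rfl fun u _ => ev_eq ψ fun i => hgm (u i)
    have hzero : ∀ u ∈ O, u ≠ j → ev ψ (g ∘ u) = 0 := by
      intro u hu hne
      have hf := ev_factor ψ (x := g ∘ u) (fun i => hgm (u i)) hc
      suffices ∏ i, ev ψ (update c i ((g ∘ u) i)) = 0 by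
        rw [this, mul_zero] at hf
        exact (mul_eq_zero.1 hf).resolve_right (pow_ne_zero _ h)
      by_contra hp
      have hle : ∀ i ∈ Finset.univ, (j i : ℕ) ≤ u i := fun i _ =>
        hjle i (u i) (Finset.prod_ne_zero_iff.1 hp i (Finset.mem_univ i))
      obtain ⟨σ, -, rfl⟩ := Finset.mem_image.1 hu
      have := (Finset.sum_eq_sum_iff_of_le hle).1 (σ.sum_comp (Finset.univ) (fun i => (j i : ℕ))
        (by simp)).symm
      exact hne (funext fun i => Fin.ext (this i (Finset.mem_univ i)).symm)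
    rw [Finset.sum_eq_single_of_mem j (Finset.mem_image.2 ⟨1, Finset.mem_univ _, rfl⟩) hzero] at hsum
    exact ev_ne_zero_of_forall ψ (fun i => hgm (j i)) hc h hj hsum

theorem ev_update_pow {c : Fin d → B} (hc : ∀ i, c i ∈ 𝒜 1) (i : Fin d) {n m : ℕ} {f g : B}
    (hf : f ∈ 𝒜 n) (hg : g ∈ 𝒜 m) :
    ev ψ (update (c ^ (n + m)) i (f * g)) =
      ev ψ (update (c ^ n) i f) * ev ψ (update (c ^ m) i g) := by
  have h : ∀ l, ∀ j, (c ^ l) j ∈ 𝒜 l := fun l j => by
    simpa using SetLike.pow_mem_graded l (hc j)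
  rw [← ev_mul ψ (upd_mem (h n) hf) (upd_mem (h m) hg)]
  congr 1
  funext k
  by_cases hk : k = i
  · subst hk; simp
  · simp [update_of_ne hk, pow_add]

theorem ev_one : ev ψ (fun _ => 1) = 1 := by
  rw [ev_eq ψ (n := 0) fun _ => SetLike.one_mem_graded _, ← map_one ψ]
  exact congrArg ψ (Subtype.ext PiTensorProduct.one_def.symm)

theorem ev_update_npow {c : Fin d → B} (hc : ∀ i, c i ∈ 𝒜 1) (i : Fin d) {n : ℕ} {f : B}
    (hf : f ∈ 𝒜 n) (a : ℕ) :
    ev ψ (update (c ^ (a * n)) i (f ^ a)) = ev ψ (update (c ^ n) i f) ^ a := by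
  induction a with
  | zero =>
    rw [zero_mul, pow_zero, pow_zero, pow_zero, ← ev_one ψ]
    congr 1
    funext k
    by_cases hk : k = i
    · subst hk; simp
    · simp [update_of_ne hk]
  | succ a ih =>
    rw [pow_succ f, pow_succ _ a, ← ih, add_mul, one_mul]
    exact ev_update_pow ψ hc i (by simpa using SetLike.pow_mem_graded a hf) hf

/-- A homogeneous element not vanishing at any of the `d` factor points. -/
theorem exists_homogeneous_ne_zero {c : Fin d → B} (hc : ∀ i, c i ∈ 𝒜 1) (h : ev ψ c ≠ 0) :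
    ∃ (n : ℕ) (f : B), 0 < n ∧ f ∈ 𝒜 n ∧ ev ψ (fun _ => f) ≠ 0 := by
  classical
  have hcl : ∀ l, ∀ j, (c ^ l) j ∈ 𝒜 l := fun l j => by simpa using SetLike.pow_mem_graded l (hc j)
  have hpow : ∀ l, ev ψ (c ^ l) ≠ 0 := by
    intro l
    induction l with
    | zero => rw [pow_zero, show (1 : Fin d → B) = fun _ => 1 from rfl, ev_one]; exact one_ne_zero
    | succ l ih => rw [pow_succ, ev_mul ψ (hcl l) hc]; exact mul_ne_zero ih h
  suffices key : ∀ s : Finset (Fin d),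
      ∃ (n : ℕ) (f : B), 0 < n ∧ f ∈ 𝒜 n ∧ ∀ i ∈ s, ev ψ (update (c ^ n) i f) ≠ 0 by
    obtain ⟨n, f, hn, hf, hne⟩ := key Finset.univ
    exact ⟨n, f, hn, hf, ev_ne_zero_of_forall ψ (fun _ => hf) (hcl n) (hpow n)
      fun i => hne i (Finset.mem_univ i)⟩
  intro s
  induction s using Finset.strongInduction with
  | H s ih =>
    rcases s.eq_empty_or_nonempty with rfl | ⟨i0, hi0⟩
    · exact ⟨1, 0, one_pos, zero_mem _, by simp⟩
    choose! N F hN hF hne using fun i (hi : i ∈ s) => ih (s.erase i) (Finset.erase_ssubset hi)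
    by_cases hgood : ∃ i ∈ s, ev ψ (update (c ^ N i) i (F i)) ≠ 0
    · obtain ⟨i, hi, hgi⟩ := hgood
      refine ⟨N i, F i, hN i hi, hF i hi, fun k hk => ?_⟩
      by_cases hki : k = i
      · subst hki; exact hgi
      · exact hne i hi k (Finset.mem_erase.2 ⟨hki, hk⟩)
    push Not at hgood
    by_cases hsing : s = {i0}
    · subst hsing
      refine ⟨1, c i0, one_pos, hc i0, fun k hk => ?_⟩
      rw [Finset.mem_singleton] at hk
      subst hk
      rwa [pow_one, update_eq_self]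
    set s' := s.erase i0 with hs'
    have hne' : s'.Nonempty := by
      rw [Finset.nonempty_iff_ne_empty]
      exact fun e => hsing ((Finset.erase_eq_empty_iff _ _).1 e |>.resolve_left
        (Finset.nonempty_iff_ne_empty.1 ⟨i0, hi0⟩))
    have hsub : ∀ i ∈ s', i ∈ s := fun i hi => (Finset.mem_erase.1 hi).2
    -- product over the other indices
    have hprod : ∀ t ⊆ s', (∏ i ∈ t, F i) ∈ 𝒜 (∑ i ∈ t, N i) ∧ ∀ k ∈ s,
        ev ψ (update (c ^ (∑ i ∈ t, N i)) k (∏ i ∈ t, F i)) =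
          ∏ i ∈ t, ev ψ (update (c ^ N i) k (F i)) := by
      intro t ht
      induction t using Finset.induction_on with
      | empty =>
        refine ⟨SetLike.one_mem_graded _, fun k _ => ?_⟩
        simpa using ev_update_npow ψ hc k (n := 1) (f := c k) (hc k) 0
      | @insert a t ha iht =>
        obtain ⟨hm, he⟩ := iht fun z hz => ht (Finset.mem_insert_of_mem hz)
        have haF := hF a (hsub a (ht (Finset.mem_insert_self a t)))
        refine ⟨?_, fun k hk => ?_⟩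
        · rw [Finset.prod_insert ha, Finset.sum_insert ha]
          exact SetLike.mul_mem_graded haF hm
        · rw [Finset.prod_insert ha, Finset.sum_insert ha, Finset.prod_insert ha,
            ev_update_pow ψ hc k haF hm, he k hk]
    obtain ⟨hm, he⟩ := hprod s' subset_rfl
    set M := ∑ i ∈ s', N i with hM
    have hMpos : 0 < M := Finset.sum_pos (fun i hi => hN i (hsub i hi)) hne'
    have hN0 := hN i0 hi0
    have hd1 : F i0 ^ M ∈ 𝒜 (M * N i0) := by simpa using SetLike.pow_mem_graded M (hF i0 hi0)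
    have hd2 : (∏ i ∈ s', F i) ^ N i0 ∈ 𝒜 (M * N i0) := by
      simpa [mul_comm M] using SetLike.pow_mem_graded (N i0) hm
    refine ⟨M * N i0, F i0 ^ M + (∏ i ∈ s', F i) ^ N i0, Nat.mul_pos hMpos hN0,
      add_mem hd1 hd2, fun k hk => ?_⟩
    rw [ev_update_add ψ (hcl _) k hd1 hd2, ev_update_npow ψ hc k (hF i0 hi0) M]
    conv => enter [1, 2]; rw [mul_comm M, ev_update_npow ψ hc k hm (N i0), he k hk]
    by_cases hk0 : k = i0
    · subst hk0
      rw [hgood k hi0, zero_pow hMpos.ne', zero_add]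
      exact pow_ne_zero _ (Finset.prod_ne_zero_iff.2 fun i hi =>
        hne i (hsub i hi) k (Finset.mem_erase.2 ⟨(Finset.mem_erase.1 hi).1.symm, hk⟩))
    · rw [Finset.prod_eq_zero (Finset.mem_erase.2 ⟨hk0, hk⟩) (hgood k hk), zero_pow hN0.ne', add_zero]
      exact pow_ne_zero _ (hne i0 hi0 k (Finset.mem_erase.2 ⟨hk0, hk⟩))

end Eval

/-- With enough elements in the residue fields one may take degree one. -/
theorem exists_deg_one_ne_zero {K : Type u} [Field K] (ψ : Calg 𝒜 d →+* K)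
    (hres : ∀ p : PrimeSpectrum A, (d : Cardinal) ≤ Cardinal.mk p.asIdeal.ResidueField)
    {c : Fin d → B} (hc : ∀ i, c i ∈ 𝒜 1) (h : ev ψ c ≠ 0) :
    ∃ f ∈ 𝒜 1, ev ψ (fun _ => f) ≠ 0 := by
  classical
  let π : A →+* K := ψ.comp (algebraMap A _)
  have hp : (RingHom.ker π).IsPrime := RingHom.ker_isPrime π
  let F := (RingHom.ker π).ResidueField
  let L : F →+* K := IsFractionRing.lift
    (g := Ideal.Quotient.lift (RingHom.ker π) π fun a ha => ha) (RingHom.kerLift_injective π)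
  have hL : ∀ a, L (algebraMap (A ⧸ RingHom.ker π) F (Ideal.Quotient.mk _ a)) = π a := fun a =>
    IsFractionRing.lift_algebraMap _ _
  suffices key : ∀ s : Finset (Fin d), ∃ f ∈ 𝒜 1, ∀ i ∈ s, ev ψ (update c i f) ≠ 0 by
    obtain ⟨f, hf, hne⟩ := key Finset.univ
    exact ⟨f, hf, ev_ne_zero_of_forall ψ (fun _ => hf) hc h fun i => hne i (Finset.mem_univ i)⟩
  intro s
  induction s using Finset.induction_on with
  | empty => exact ⟨0, zero_mem _, by simp⟩
  | @insert i0 s hi0 ih =>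
    obtain ⟨f, hf, hne⟩ := ih
    by_cases hf0 : ev ψ (update c i0 f) ≠ 0
    · exact ⟨f, hf, fun i hi => (Finset.mem_insert.1 hi).elim (fun e => e ▸ hf0) (hne i)⟩
    push Not at hf0
    have hg0 : ev ψ (update c i0 (c i0)) ≠ 0 := by rwa [update_eq_self]
    by_cases hgall : ∀ i ∈ s, ev ψ (update c i (c i0)) ≠ 0
    · exact ⟨c i0, hc i0, fun i hi => (Finset.mem_insert.1 hi).elim (fun e => e ▸ hg0) (hgall i)⟩
    push Not at hgall
    obtain ⟨i1, hi1, hg1⟩ := hgall
    -- the values to avoid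
    let bad : Finset K := insert 0 ((s.erase i1).image fun i =>
      -ev ψ (update c i f) / ev ψ (update c i (c i0)))
    have hcard : bad.card < d := by
      have h1 : bad.card ≤ (s.erase i1).card + 1 :=
        (Finset.card_insert_le _ _).trans (Nat.add_le_add_right Finset.card_image_le 1)
      have h2 : (insert i0 s).card ≤ d := by simpa using Finset.card_le_univ (insert i0 s)
      rw [Finset.card_insert_of_notMem hi0] at h2
      have h3 := Finset.card_erase_add_one hi1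
      omega
    obtain ⟨x, hx⟩ : ∃ x : F, L x ∉ bad := by
      by_contra! H
      have : Cardinal.mk F ≤ Cardinal.mk bad :=
        Cardinal.mk_le_of_injective (f := fun x => (⟨L x, H x⟩ : bad))
          fun a b e => L.injective (congrArg Subtype.val e)
      rw [Cardinal.mk_coe_finset] at this
      have := (hres ⟨_, hp⟩).trans this
      exact absurd (Nat.cast_le.1 this) (by omega)
    obtain ⟨a, b, hb, hab⟩ := IsFractionRing.div_surjective (A ⧸ RingHom.ker π) x
    obtain ⟨a, rfl⟩ := Ideal.Quotient.mk_surjective a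
    obtain ⟨b, rfl⟩ := Ideal.Quotient.mk_surjective b
    have hxab : L x = π a / π b := by rw [← hab, map_div₀, hL, hL]
    have hb0 : π b ≠ 0 := fun e => nonZeroDivisors.ne_zero hb (Ideal.Quotient.eq_zero_iff_mem.2 e)
    refine ⟨b • f + a • c i0, add_mem (Submodule.smul_mem _ _ hf) (Submodule.smul_mem _ _ (hc i0)),
      fun i hi e => ?_⟩
    rw [ev_update_add ψ hc i (Submodule.smul_mem _ _ hf) (Submodule.smul_mem _ _ (hc i0)),
      ev_update_smul ψ hc i b hf, ev_update_smul ψ hc i a (hc i0)] at e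
    change π b * _ + π a * _ = 0 at e
    have ha0 : π a ≠ 0 := fun e0 => hx (by simp [bad, hxab, e0])
    rcases Finset.mem_insert.1 hi with rfl | hi
    · rw [hf0, mul_zero, zero_add] at e
      exact mul_ne_zero ha0 hg0 e
    by_cases hgi : ev ψ (update c i (c i0)) = 0
    · rw [hgi, mul_zero, add_zero] at e
      exact mul_ne_zero hb0 (hne i hi) e
    refine hx (Finset.mem_insert_of_mem (Finset.mem_image.2 ⟨i,
      Finset.mem_erase.2 ⟨fun e1 => hgi (e1 ▸ hg1), hi⟩, ?_⟩))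
    rw [hxab]
    field_simp
    linear_combination -e

/-- The generic point of a prime. -/
theorem exists_point {R : Type u} [CommRing R] (Q : Ideal R) [Q.IsPrime] :
    ∃ (K : Type u) (_ : Field K) (ψ : R →+* K), ∀ z, ψ z = 0 ↔ z ∈ Q :=
  ⟨FractionRing (R ⧸ Q), inferInstance, (algebraMap (R ⧸ Q) _).comp (Ideal.Quotient.mk Q), fun z => by
    rw [RingHom.comp_apply, map_eq_zero_iff _ (IsFractionRing.injective _ _),
      Ideal.Quotient.eq_zero_iff_mem]⟩

omit [GradedAlgebra 𝒜] in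
/-- Radical membership is checked at points of the big algebra. -/
theorem exists_pow_mem (D : Subalgebra A (⨂[A] _ : Fin d, B)) (hD : D = Calg 𝒜 d ⊓ SymTen.TS A B d)
    (k : ℕ) (t : ⨂[A] _ : Fin d, B) (htD : t ∈ D)
    (htk : t ∈ Submodule.span A {s | ∃ b : Fin d → B, (∀ i, b i ∈ 𝒜 k) ∧ s = PiTensorProduct.tprod A b})
    (S : Set D)
    (H : ∀ (K : Type u) [Field K] (ψ : Calg 𝒜 d →+* K) (b : Fin d → B), (∀ i, b i ∈ 𝒜 k) →
      ev ψ b ≠ 0 → ∃ x ∈ S, ∃ hx : (x : ⨂[A] _ : Fin d, B) ∈ Calg 𝒜 d, ψ ⟨x, hx⟩ ≠ 0) :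
    ∃ m : ℕ, 0 < m ∧ (⟨t, htD⟩ : D) ^ m ∈ Ideal.span S := by
  suffices h : (⟨t, htD⟩ : D) ∈ (Ideal.span S).radical by
    obtain ⟨m, hm⟩ := h
    exact ⟨m + 1, m.succ_pos, by rw [pow_succ]; exact Ideal.mul_mem_right _ _ hm⟩
  rw [Ideal.radical_eq_sInf, Submodule.mem_sInf]
  rintro P ⟨hSP, hP⟩
  haveI := hP
  obtain ⟨Q, hQ, hQP⟩ := exists_prime_over D hD P
  obtain ⟨K, hK, ψ, hker⟩ := exists_point (R := Calg 𝒜 d) Q
  have hzero : ∀ b : Fin d → B, (∀ i, b i ∈ 𝒜 k) → ev ψ b = 0 := by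
    intro b hb
    by_contra hne
    obtain ⟨x, hxS, hxC, hx⟩ := H K ψ b hb hne
    exact hx ((hker _).2 ((hQP x hxC).2 (hSP (Ideal.subset_span hxS))))
  have : ∀ z ∈ Submodule.span A {s | ∃ b : Fin d → B, (∀ i, b i ∈ 𝒜 k) ∧ s = PiTensorProduct.tprod A b},
      ∃ hz : z ∈ Calg 𝒜 d, ψ ⟨z, hz⟩ = 0 := by
    intro z hz
    induction hz using Submodule.span_induction with
    | mem x hx =>
      obtain ⟨b, hb, rfl⟩ := hx
      exact ⟨tprod_mem hb, (ev_eq ψ hb) ▸ hzero b hb⟩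
    | zero => exact ⟨zero_mem _, map_zero ψ⟩
    | add x y _ _ hx hy =>
      obtain ⟨hx1, hx2⟩ := hx
      obtain ⟨hy1, hy2⟩ := hy
      refine ⟨add_mem hx1 hy1, (map_add ψ ⟨x, hx1⟩ ⟨y, hy1⟩).trans ?_⟩
      rw [hx2, hy2, add_zero]
    | smul a x _ hx =>
      obtain ⟨hx1, hx2⟩ := hx
      refine ⟨Subalgebra.smul_mem _ hx1 a, ?_⟩
      have e : (⟨a • x, Subalgebra.smul_mem _ hx1 a⟩ : Calg 𝒜 d) = algebraMap A _ a * ⟨x, hx1⟩ :=
        Subtype.ext (Algebra.smul_def a x)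
      rw [e, map_mul, hx2, mul_zero]
  obtain ⟨htC, ht⟩ := this t htk
  exact (hQP ⟨t, htD⟩ htC).1 ((hker _).1 ht)

end Groth.Agent.IntTh85.SymProjCover
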