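import Groth.Agent.IntTh85.SymSpan
import Groth.Agent.IntTh85.InvAlg
import Groth.Agent.SymProdLib.BaseChange
import Groth.Agent.SymProdLib.FibPow
import Mathlib.AlgebraicGeometry.Morphisms.Flat

/-!
# Invariant sections on the charts of a symmetric product, tensored
-/

set_option autoImplicit false
set_option linter.style.haveILetI false

universe u

open CategoryTheory CategoryTheory.Limits AlgebraicGeometry Opposite
open scoped TensorProduct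
open Groth.Agent.SymProdLib (appLE_congr_hom)

namespace Groth.Agent.IntTh85.SymQuot

open InvLocal TensorAct SymPair SymSpan

theorem flat_base {X S : Scheme.{u}} (f : X ⟶ S) [Flat f] :
    ∀ n : ℕ, Flat (WidePullback.base fun _ : Fin n => f)
  | 0 => by
    haveI := SymProdLib.isIso_base_zero f
    infer_instance
  | n + 1 => by
    haveI := flat_base f n
    haveI : Flat (SymProdLib.dropLast f n) :=
      MorphismProperty.of_isPullback (SymProdLib.isPullback_succ f n).flip inferInstance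
    rw [show (WidePullback.base fun _ : Fin (n + 1) => f) =
        SymProdLib.dropLast f n ≫ WidePullback.base _ from (SymProdLib.dropLast_base f n).symm]
    infer_instance

variable {X Z S : Scheme.{u}} {f : X ⟶ S} {fZ : Z ⟶ S} {d : ℕ} {V : S.Opens}

section Quot

variable {Y : Scheme.{u}} {q : SymProd.fibPow f d ⟶ Y} (hq : SGA1.IsQuot (SymProd.permActU f d) q)
  {Y₀ : Y.Opens}

include hq in
theorem stable_of_preimage {B : (SymProd.fibPow f d).Opens} (hB : q ⁻¹ᵁ Y₀ = B) :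
    Stable (MonoidHom.id (Equiv.Perm (Fin d))) B := by
  intro σ
  subst hB
  exact SGA1.preimage_le_of_inv _ q hq.inv ⟨σ⟩ Y₀

include hq in
theorem appLE_perm {B : (SymProd.fibPow f d).Opens} (hB : q ⁻¹ᵁ Y₀ = B) (σ : Equiv.Perm (Fin d))
    (e : B ≤ (SymProd.permHom f d σ) ⁻¹ᵁ B) (b : Γ(Y, Y₀)) :
    ((SymProd.permHom f d σ).appLE B B e).hom ((q.appLE Y₀ B hB.ge).hom b) = (q.appLE Y₀ B hB.ge).hom b := by
  rw [← RingHom.comp_apply, ← CommRingCat.hom_comp, Scheme.Hom.appLE_comp_appLE]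
  have : SymProd.permHom f d σ ≫ q = q := hq.inv ⟨σ⟩
  rw [appLE_congr_hom this _ hB.ge]

include hq in
theorem mem_range_of_fixed {B : (SymProd.fibPow f d).Opens} (hB : q ⁻¹ᵁ Y₀ = B)
    (hst : ∀ σ, B ≤ (SymProd.permHom f d σ) ⁻¹ᵁ B) (b : Γ(SymProd.fibPow f d, B))
    (hb : ∀ σ, ((SymProd.permHom f d σ).appLE B B (hst σ)).hom b = b) :
    b ∈ Set.range (q.appLE Y₀ B hB.ge).hom := by
  subst hB
  rw [← Scheme.Hom.app_eq_appLE]
  exact (hq.range_iff Y₀ b).2 fun σ => hb σ.down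

end Quot

/-- The action of the symmetric group on the sections of the preimage of a stable open. -/
noncomputable abbrev act' {c : SymProd.fibPow fZ d ⟶ SymProd.fibPow f d}
    (heq : ∀ σ, SymProd.permHom fZ d σ ≫ c = c ≫ SymProd.permHom f d σ) (P : Pair c V)
    (hst : Stable (MonoidHom.id (Equiv.Perm (Fin d))) P.O) (σ : Equiv.Perm (Fin d)) :
    Γ(SymProd.fibPow fZ d, c ⁻¹ᵁ P.O) →ₐ[Γ(S, V)] Γ(SymProd.fibPow fZ d, c ⁻¹ᵁ P.O) :=
  secPerm' heq P hst σ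

theorem range_of_fspan {c : SymProd.fibPow fZ d ⟶ SymProd.fibPow f d}
    (heq : ∀ σ, SymProd.permHom fZ d σ ≫ c = c ≫ SymProd.permHom f d σ)
    {Y : Scheme.{u}} {q : SymProd.fibPow f d ⟶ Y} (hq : SGA1.IsQuot (SymProd.permActU f d) q)
    {Y₀ : Y.Opens} (P : Pair c V) (hPO : q ⁻¹ᵁ Y₀ = P.O)
    (hst : Stable (MonoidHom.id (Equiv.Perm (Fin d))) P.O)
    [Algebra Γ(S, V) Γ(Y, Y₀)] (ι : Γ(Y, Y₀) →ₐ[Γ(S, V)] Γ(SymProd.fibPow fZ d, c ⁻¹ᵁ P.O))
    (hι : ∀ b, ι b = algebraMap Γ(SymProd.fibPow f d, P.O) Γ(SymProd.fibPow fZ d, c ⁻¹ᵁ P.O)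
      ((q.appLE Y₀ P.O hPO.ge).hom b))
    (N : Type u) [AddCommGroup N] [Module Γ(S, V) N]
    {z : Γ(SymProd.fibPow fZ d, c ⁻¹ᵁ P.O) ⊗[Γ(S, V)] N}
    (h : z ∈ (secAct heq P hst N).fspan fun n : N =>
      (1 : Γ(SymProd.fibPow fZ d, c ⁻¹ᵁ P.O)) ⊗ₜ[Γ(S, V)] n) :
    z ∈ Set.range (ι.toLinearMap.rTensor N) := by
  show z ∈ LinearMap.range (ι.toLinearMap.rTensor N)
  induction h using AddSubmonoid.closure_induction with
  | mem y hy =>
    obtain ⟨b, n, hb, rfl⟩ := hy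
    obtain ⟨b₀, hb₀⟩ := mem_range_of_fixed hq hPO hst b fun σ => by
      have := hb σ⁻¹
      change ((SymProd.permHom f d σ⁻¹⁻¹).appLE P.O P.O (hst σ⁻¹⁻¹)).hom b = b at this
      simp only [inv_inv] at this
      exact this
    refine ⟨b₀ ⊗ₜ n, ?_⟩
    rw [LinearMap.rTensor_tmul, AlgHom.toLinearMap_apply, hι, hb₀, smul_tmul_eq, mul_one]
  | zero => exact zero_mem _
  | add y y' _ _ hy hy' => exact add_mem hy hy'

/-- **Invariants of `Γ ⊗ N` on a chart come from the quotient.** -/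
theorem mem_range_rTensor {i : Z ⟶ X} (w : i ≫ f = fZ) [IsAffineHom i]
    {c : SymProd.fibPow fZ d ⟶ SymProd.fibPow f d} [IsAffineHom c]
    (hcπ : ∀ a : Fin d, c ≫ WidePullback.π (fun _ => f) a = WidePullback.π (fun _ => fZ) a ≫ i)
    (hV : IsAffineOpen V) (heq : ∀ σ, SymProd.permHom fZ d σ ≫ c = c ≫ SymProd.permHom f d σ)
    {Y : Scheme.{u}} {q : SymProd.fibPow f d ⟶ Y} (hq : SGA1.IsQuot (SymProd.permActU f d) q)
    {Y₀ : Y.Opens} (P : Pair c V) (hP : IsAffineOpen P.O) (hPO : q ⁻¹ᵁ Y₀ = P.O)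
    (hst : Stable (MonoidHom.id (Equiv.Perm (Fin d))) P.O)
    [Algebra Γ(S, V) Γ(Y, Y₀)] (ι : Γ(Y, Y₀) →ₐ[Γ(S, V)] Γ(SymProd.fibPow fZ d, c ⁻¹ᵁ P.O))
    (hι : ∀ b, ι b = algebraMap Γ(SymProd.fibPow f d, P.O) Γ(SymProd.fibPow fZ d, c ⁻¹ᵁ P.O)
      ((q.appLE Y₀ P.O hPO.ge).hom b))
    (N : Type u) [AddCommGroup N] [Module Γ(S, V) N] (hN : LocalSpan f fZ i w d V N)
    (z : Γ(SymProd.fibPow fZ d, c ⁻¹ᵁ P.O) ⊗[Γ(S, V)] N)
    (hz : ∀ σ, (act' heq P hst σ).toLinearMap.rTensor N z = z) :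
    z ∈ Set.range (ι.toLinearMap.rTensor N) := by
  exact range_of_fspan heq hq P hPO hst ι hι N (SymSpan.mem_fspan w hcπ hV heq P hP hst N hN (z := z) hz)

theorem act'_mul {c : SymProd.fibPow fZ d ⟶ SymProd.fibPow f d}
    (heq : ∀ σ, SymProd.permHom fZ d σ ≫ c = c ≫ SymProd.permHom f d σ) (P : Pair c V)
    (hst : Stable (MonoidHom.id (Equiv.Perm (Fin d))) P.O) (σ τ : Equiv.Perm (Fin d))
    (b : Γ(SymProd.fibPow fZ d, c ⁻¹ᵁ P.O)) :
    act' heq P hst (σ * τ) b = act' heq P hst σ (act' heq P hst τ b) :=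
  appLE_comp_apply (by rw [mul_inv_rev, map_mul, SymProd.permHom_mul]) _ _ _ b

theorem act'_fixed {c : SymProd.fibPow fZ d ⟶ SymProd.fibPow f d}
    (heq : ∀ σ, SymProd.permHom fZ d σ ≫ c = c ≫ SymProd.permHom f d σ)
    {Y : Scheme.{u}} {q : SymProd.fibPow f d ⟶ Y} (hq : SGA1.IsQuot (SymProd.permActU f d) q)
    {Y₀ : Y.Opens} (P : Pair c V) (hPO : q ⁻¹ᵁ Y₀ = P.O)
    (hst : Stable (MonoidHom.id (Equiv.Perm (Fin d))) P.O) (σ : Equiv.Perm (Fin d)) (b : Γ(Y, Y₀)) :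
    act' heq P hst σ (algebraMap Γ(SymProd.fibPow f d, P.O) Γ(SymProd.fibPow fZ d, c ⁻¹ᵁ P.O)
      ((q.appLE Y₀ P.O hPO.ge).hom b)) =
      algebraMap Γ(SymProd.fibPow f d, P.O) Γ(SymProd.fibPow fZ d, c ⁻¹ᵁ P.O)
        ((q.appLE Y₀ P.O hPO.ge).hom b) := by
  have h1 : ((SymProd.permHom f d σ⁻¹).appLE P.O P.O (hst σ⁻¹)).hom ((q.appLE Y₀ P.O hPO.ge).hom b) =
      (q.appLE Y₀ P.O hPO.ge).hom b := appLE_perm hq hPO σ⁻¹ _ b
  conv_rhs => rw [← h1]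
  rw [act', secPerm'_apply]
  exact SymSpan.appLE_square _ c c _ (heq σ⁻¹) _ _ _ _ _

/-- For `c = 𝟙` the sections of the quotient are the invariants. -/
theorem isInv_id {Y : Scheme.{u}} {q : SymProd.fibPow f d ⟶ Y}
    (hq : SGA1.IsQuot (SymProd.permActU f d) q) {Y₀ : Y.Opens}
    {c : SymProd.fibPow f d ⟶ SymProd.fibPow f d} (hc : c = 𝟙 _)
    (heq : ∀ σ, SymProd.permHom f d σ ≫ c = c ≫ SymProd.permHom f d σ)
    (P : Pair c V) (hPO : q ⁻¹ᵁ Y₀ = P.O)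
    (hst : Stable (MonoidHom.id (Equiv.Perm (Fin d))) P.O)
    [Algebra Γ(S, V) Γ(Y, Y₀)] (ι : Γ(Y, Y₀) →ₐ[Γ(S, V)] Γ(SymProd.fibPow f d, c ⁻¹ᵁ P.O))
    (hι : ∀ b, ι b = algebraMap Γ(SymProd.fibPow f d, P.O) Γ(SymProd.fibPow f d, c ⁻¹ᵁ P.O)
      ((q.appLE Y₀ P.O hPO.ge).hom b)) :
    InvAlg.IsInv (act' heq P hst) ι := by
  have hbij : Function.Bijective
      (algebraMap Γ(SymProd.fibPow f d, P.O) Γ(SymProd.fibPow f d, c ⁻¹ᵁ P.O)) := by
    have h1 : IsIso (c.app P.O) := by subst hc; rw [Scheme.Hom.id_app]; exact IsIso.id _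
    have h2 := ConcreteCategory.bijective_of_isIso (c.app P.O)
    rw [Scheme.Hom.app_eq_appLE] at h2
    exact h2
  refine ⟨fun a b h => ?_, fun σ b => ?_, fun b hb => ?_, fun σ => ⟨Equiv.mulLeft σ, fun τ b => ?_⟩⟩
  · rw [hι, hι] at h
    exact SymProdLib.appLE_injective hq hPO (hbij.1 h)
  · rw [hι]; exact act'_fixed heq hq P hPO hst σ b
  · obtain ⟨b, rfl⟩ := hbij.2 b
    obtain ⟨b₀, hb₀⟩ := mem_range_of_fixed hq hPO hst b fun σ => hbij.1 (by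
      have h1 := hb σ⁻¹
      rw [act', secPerm'_apply] at h1
      simp only [inv_inv] at h1
      exact (SymSpan.appLE_square _ c c _ (heq σ) le_rfl (hst σ) _ le_rfl b).symm.trans h1)
    exact ⟨b₀, by rw [hι, hb₀]⟩
  · exact (act'_mul heq P hst σ τ b).symm

section LocalSpan

variable {i : Z ⟶ X} (w : i ≫ f = fZ) [IsClosedImmersion i]

theorem famMap_surjective {κ : Type u} (U : κ → X.Opens) (hU : ∀ a, IsAffineOpen (U a))
    (e : ∀ a, U a ≤ f ⁻¹ᵁ V) : Function.Surjective (famMap f fZ i w U e) := fun y => by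
  choose x hx using fun a => i.app_surjective (U a) (hU a) (y a)
  exact ⟨x, funext fun a => (famMap_apply f fZ i w U e x a).trans (hx a)⟩

theorem flat_pi {R : Type u} [CommRing R] {κ : Type u} [Fintype κ] (M : κ → Type u) [∀ a, AddCommGroup (M a)]
    [∀ a, Module R (M a)] (h : ∀ a, Module.Flat R (M a)) : Module.Flat R (∀ a, M a) := by
  classical
  exact Module.Flat.of_linearEquiv (DFinsupp.linearEquivFunOnFintype (R := R) (M := M)).symm

theorem localSpan_of_flat [Flat fZ] (hV : IsAffineOpen V) (d : ℕ) (N : Type u) [AddCommGroup N]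
    [Module Γ(S, V) N] : LocalSpan f fZ i w d V N := by
  intro κ _ _ U hU e
  letI := algFam f U e
  letI := algFam fZ (fun a => i ⁻¹ᵁ U a) (fun a => preimage_le f fZ i w (e a))
  haveI : Module.Flat Γ(S, V) (∀ a, Γ(Z, i ⁻¹ᵁ U a)) :=
    flat_pi _ fun a => (RingHom.flat_algebraMap_iff (R := Γ(S, V)) (S := Γ(Z, i ⁻¹ᵁ U a))).1
      (fZ.flat_appLE hV ((hU a).preimage i) (preimage_le f fZ i w (e a)))
  exact SymTS.spanTS_of_flat d N _ (famMap_surjective w U hU e)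

theorem localSpan_of_flat_baseChange (d : ℕ) (R' : Type u) [CommRing R'] [Algebra Γ(S, V) R']
    (h : ∀ (U : X.Opens), IsAffineOpen U → ∀ e : U ≤ f ⁻¹ᵁ V,
      letI := (fZ.appLE V (i ⁻¹ᵁ U) (preimage_le f fZ i w e)).hom.toAlgebra
      Module.Flat R' (R' ⊗[Γ(S, V)] Γ(Z, i ⁻¹ᵁ U))) :
    LocalSpan f fZ i w d V R' := by
  intro κ _ _ U hU e
  letI := algFam f U e
  letI := algFam fZ (fun a => i ⁻¹ᵁ U a) (fun a => preimage_le f fZ i w (e a))
  haveI : Module.Flat R' (∀ a, R' ⊗[Γ(S, V)] Γ(Z, i ⁻¹ᵁ U a)) := flat_pi _ fun a => h (U a) (hU a) (e a)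
  classical
  haveI : Module.Flat R' (R' ⊗[Γ(S, V)] (∀ a, Γ(Z, i ⁻¹ᵁ U a))) :=
    Module.Flat.of_linearEquiv (TensorProduct.piRight Γ(S, V) R' R' fun a => Γ(Z, i ⁻¹ᵁ U a))
  exact SymTS.spanTS_of_flat_baseChange d R' _ (famMap_surjective w U hU e)

theorem localSpan_of_field (d : ℕ) (L : Type u) [Field L] [Algebra Γ(S, V) L] :
    LocalSpan f fZ i w d V L :=
  localSpan_of_flat_baseChange w d L fun _ _ _ => inferInstance

end LocalSpan

section Chart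

variable {Y : Scheme.{u}} {q : SymProd.fibPow f d ⟶ Y} {g : Y ⟶ S} {Y₀ : Y.Opens}
  {c : SymProd.fibPow fZ d ⟶ SymProd.fibPow f d}

/-- From the sections of an open of the quotient to those of the preimage of its chart. -/
noncomputable def chartHom (hover : q ≫ g = WidePullback.base fun _ : Fin d => f) (P : Pair c V)
    (hPO : q ⁻¹ᵁ Y₀ = P.O) (e₀ : Y₀ ≤ g ⁻¹ᵁ V) [Algebra Γ(S, V) Γ(Y, Y₀)]
    (halg : ∀ r, algebraMap Γ(S, V) Γ(Y, Y₀) r = (g.appLE V Y₀ e₀).hom r) :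
    Γ(Y, Y₀) →ₐ[Γ(S, V)] Γ(SymProd.fibPow fZ d, c ⁻¹ᵁ P.O) :=
  { ((c ≫ q).appLE Y₀ (c ⁻¹ᵁ P.O) (by rw [Scheme.Hom.comp_preimage, hPO])).hom with
    commutes' := fun r => by
      show ((c ≫ q).appLE Y₀ (c ⁻¹ᵁ P.O) _).hom (algebraMap Γ(S, V) Γ(Y, Y₀) r) = _
      rw [halg, ← RingHom.comp_apply, ← CommRingCat.hom_comp, Scheme.Hom.appLE_comp_appLE,
        appLE_congr_hom ((Category.assoc _ _ _).trans ((congrArg (fun k => c ≫ k) hover).trans P.ov)) _ P.le']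
      rfl }

variable (hover : q ≫ g = WidePullback.base fun _ : Fin d => f) (P : Pair c V)
  (hPO : q ⁻¹ᵁ Y₀ = P.O) (e₀ : Y₀ ≤ g ⁻¹ᵁ V) [Algebra Γ(S, V) Γ(Y, Y₀)]
  (halg : ∀ r, algebraMap Γ(S, V) Γ(Y, Y₀) r = (g.appLE V Y₀ e₀).hom r)

theorem chartHom_apply (e : c ⁻¹ᵁ P.O ≤ (c ≫ q) ⁻¹ᵁ Y₀) (b : Γ(Y, Y₀)) :
    chartHom hover P hPO e₀ halg b = ((c ≫ q).appLE Y₀ (c ⁻¹ᵁ P.O) e).hom b := rfl

theorem chartHom_eq (b : Γ(Y, Y₀)) :
    chartHom hover P hPO e₀ halg b = algebraMap Γ(SymProd.fibPow f d, P.O)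
      Γ(SymProd.fibPow fZ d, c ⁻¹ᵁ P.O) ((q.appLE Y₀ P.O hPO.ge).hom b) := by
  show _ = (c.appLE P.O (c ⁻¹ᵁ P.O) le_rfl).hom ((q.appLE Y₀ P.O hPO.ge).hom b)
  rw [← RingHom.comp_apply, ← CommRingCat.hom_comp, Scheme.Hom.appLE_comp_appLE]
  rfl

end Chart

/-- Charts of a symmetric product of a flat scheme, or in characteristic zero: invariants commute with
tensor products. -/
theorem chart_good {Y : Scheme.{u}} {q : SymProd.fibPow f d ⟶ Y}
    (hq : SGA1.IsQuot (SymProd.permActU f d) q) {Y₀ : Y.Opens}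
    {c : SymProd.fibPow f d ⟶ SymProd.fibPow f d} (hc : c = 𝟙 _) (hV : IsAffineOpen V)
    (heq : ∀ σ, SymProd.permHom f d σ ≫ c = c ≫ SymProd.permHom f d σ)
    (P : Pair c V) (hP : IsAffineOpen P.O) (hPO : q ⁻¹ᵁ Y₀ = P.O)
    (hst : Stable (MonoidHom.id (Equiv.Perm (Fin d))) P.O)
    [Algebra Γ(S, V) Γ(Y, Y₀)] (ι : Γ(Y, Y₀) →ₐ[Γ(S, V)] Γ(SymProd.fibPow f d, c ⁻¹ᵁ P.O))
    (hι : ∀ b, ι b = algebraMap Γ(SymProd.fibPow f d, P.O) Γ(SymProd.fibPow f d, c ⁻¹ᵁ P.O)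
      ((q.appLE Y₀ P.O hPO.ge).hom b))
    (h : Flat f ∨ IsUnit ((Nat.card (Equiv.Perm (Fin d)) : ℕ) : Γ(S, V)))
    (N : Type u) [AddCommGroup N] [Module Γ(S, V) N] :
    Function.Injective (ι.toLinearMap.rTensor N) ∧
      ∀ z, (∀ σ, (act' heq P hst σ).toLinearMap.rTensor N z = z) →
        z ∈ Set.range (ι.toLinearMap.rTensor N) := by
  have hinv := isInv_id hq hc heq P hPO hst ι hι
  rcases h with hflat | hu
  · haveI : IsAffineHom c := by rw [hc]; infer_instance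
    haveI : Flat (WidePullback.base fun _ : Fin d => f) := flat_base f d
    haveI : Module.Flat Γ(S, V) Γ(SymProd.fibPow f d, c ⁻¹ᵁ P.O) :=
      (RingHom.flat_algebraMap_iff (R := Γ(S, V)) (S := Γ(SymProd.fibPow f d, c ⁻¹ᵁ P.O))).1
        ((WidePullback.base fun _ : Fin d => f).flat_appLE hV (hP.preimage c) P.le')
    have hs : ∀ (M : Type u) [AddCommGroup M] [Module Γ(S, V) M]
        (z : Γ(SymProd.fibPow f d, c ⁻¹ᵁ P.O) ⊗[Γ(S, V)] M),
        (∀ σ, (act' heq P hst σ).toLinearMap.rTensor M z = z) →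
        z ∈ Set.range (ι.toLinearMap.rTensor M) := fun M _ _ z hz =>
      mem_range_rTensor (i := 𝟙 X) (Category.id_comp f) (fun a => by simp [hc]) hV heq hq P hP hPO
        hst ι hι M (localSpan_of_flat (Category.id_comp f) hV d M) z hz
    exact ⟨InvAlg.injective_of_flat hinv hs N, hs N⟩
  · obtain ⟨v, hv⟩ := hu.exists_left_inv
    have h1 : ∀ n : N, Nat.card (Equiv.Perm (Fin d)) • n = 0 → n = 0 := fun n hn => by
      rw [← Nat.cast_smul_eq_nsmul Γ(S, V)] at hn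
      rw [← one_smul Γ(S, V) n, ← hv, mul_smul, hn, smul_zero]
    have h2 : ∀ n : N, ∃ n', n = Nat.card (Equiv.Perm (Fin d)) • n' := fun n => ⟨v • n, by
      rw [← Nat.cast_smul_eq_nsmul Γ(S, V), ← mul_smul, mul_comm, hv, one_smul]⟩
    exact ⟨InvAlg.injective_of_average hinv N h1 h2, InvAlg.range_of_average hinv N h1 h2⟩

end Groth.Agent.IntTh85.SymQuot
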