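import Groth.Agent.HTopAwn.SchemeProps
import Groth.Agent.IntTh85.SymMul
import Groth.Prelude.Def_SymTen
import Mathlib.RingTheory.QuasiFinite.Basic

/-!
# Symmetric products land in a seminormal ring
-/

set_option backward.isDefEq.respectTransparency false
set_option backward.isDefEq.respectTransparency.types false
set_option linter.style.haveILetI false

universe u

namespace Groth.Agent.IntTh85.SymSeminormal

open AlgebraicGeometry CategoryTheory HTop Groth.Agent.HTopAwn Groth.Agent.MorLib.RUH
open scoped TensorProduct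

variable {A : Type u} [CommRing A]

theorem exists_preimage_of_residue_values (hA : IsSeminormalRing A) {N : Type u} [CommRing N] [IsReduced N] [Algebra A N]
    (hinjN : Function.Injective (algebraMap A N)) (hNint : ∀ x : N, _root_.IsIntegral A x)
    (b : N) (G₀ : ∀ p : PrimeSpectrum A, p.asIdeal.ResidueField)
    (hb : ∀ (L : Type u) [Field L] (θ : N →+* L) (p : PrimeSpectrum A) (e : p.asIdeal.ResidueField →+* L),
      θ.comp (algebraMap A N) = e.comp (algebraMap A p.asIdeal.ResidueField) → θ b = e (G₀ p)) :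
    ∃ a : A, algebraMap A N a = b := by
  let κ := fun p : PrimeSpectrum A => p.asIdeal.ResidueField
  let C : Subalgebra A N :=
    { carrier := {c | ∃ G : ∀ p, κ p, ∀ (L : Type u) [Field L] (θ : N →+* L) (p : PrimeSpectrum A)
        (e : κ p →+* L), θ.comp (algebraMap A N) = e.comp (algebraMap A (κ p)) → θ c = e (G p)}
      add_mem' := by
        rintro c d ⟨G, hG⟩ ⟨H, hH⟩
        exact ⟨fun p => G p + H p, fun L _ θ p e h => by rw [map_add, map_add, hG L θ p e h, hH L θ p e h]⟩
      mul_mem' := by
        rintro c d ⟨G, hG⟩ ⟨H, hH⟩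
        exact ⟨fun p => G p * H p, fun L _ θ p e h => by rw [map_mul, map_mul, hG L θ p e h, hH L θ p e h]⟩
      algebraMap_mem' := fun a => ⟨fun p => algebraMap A (κ p) a, fun L _ θ p e h => RingHom.congr_fun h a⟩ }
  have hbC : b ∈ C := ⟨G₀, hb⟩
  have hinj : Function.Injective (algebraMap A C) := fun a a' h => hinjN (congrArg Subtype.val h)
  have hint : (algebraMap A C).IsIntegral := fun (x : C) =>
    (isIntegral_algHom_iff (A := C) C.val Subtype.val_injective).mp (hNint x.1)
  have hι : (C.val.toRingHom).IsIntegral := RingHom.IsIntegral.tower_top (algebraMap A C) _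
    (fun x => hNint x)
  have hlift : ∀ (K : Type u) [Field K] (g : C →+* K), ∃ (θ : N →+* AlgebraicClosure K)
      (p : PrimeSpectrum A) (e : κ p →+* AlgebraicClosure K),
      θ.comp C.val.toRingHom = (algebraMap K (AlgebraicClosure K)).comp g ∧
        θ.comp (algebraMap A N) = e.comp (algebraMap A (κ p)) ∧ p.asIdeal = RingHom.ker (g.comp (algebraMap A C)) := by
    intro K _ g
    obtain ⟨q, hq⟩ := hι.comap_surjective Subtype.val_injective
      ⟨_, RingHom.ker_isPrime ((algebraMap K (AlgebraicClosure K)).comp g)⟩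
    obtain ⟨θ, hθ⟩ := exists_extension C.val.toRingHom hι ((algebraMap K (AlgebraicClosure K)).comp g)
      ⟨q, congrArg PrimeSpectrum.asIdeal hq⟩
    let p : PrimeSpectrum A := ⟨RingHom.ker (g.comp (algebraMap A C)), RingHom.ker_isPrime _⟩
    haveI : p.asIdeal.IsPrime := p.isPrime
    have hp : ∀ a, a ∈ p.asIdeal ↔ θ (algebraMap A N a) = 0 := fun a => by
      rw [show θ (algebraMap A N a) = algebraMap K (AlgebraicClosure K) (g (algebraMap A C a)) from
        RingHom.congr_fun hθ (algebraMap A C a), map_eq_zero]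
      exact RingHom.mem_ker
    exact ⟨θ, p, Ideal.ResidueField.lift p.asIdeal (θ.comp (algebraMap A N)) (fun a ha => RingHom.mem_ker.mpr ((hp a).mp ha))
        (fun a ha => isUnit_iff_ne_zero.mpr fun h0 => ha ((hp a).mpr h0)),
      hθ, RingHom.ext fun a => by rw [RingHom.comp_apply, RingHom.comp_apply, Ideal.ResidueField.lift_algebraMap]; rfl, rfl⟩
  have hu : FlatMor.IsUnivHomeo (Spec.map (CommRingCat.ofHom (algebraMap A C))) := by
    refine (isUnivHomeo_SpecMap_iff _).mpr ⟨hint, fun K _ g₁ g₂ hg => RingHom.ext fun c => ?_,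
      hint.comap_surjective hinj⟩
    obtain ⟨G, hG⟩ := c.2
    obtain ⟨θ₁, p₁, e₁, h1, h1', hp1⟩ := hlift K g₁
    obtain ⟨θ₂, p₂, e₂, h2, h2', hp2⟩ := hlift K g₂
    obtain rfl : p₁ = p₂ := PrimeSpectrum.ext (by rw [hp1, hp2, hg])
    have hee : e₁ = e₂ := by
      refine Ideal.ResidueField.ringHom_ext ?_
      rw [← h1', ← h2', show algebraMap A N = C.val.toRingHom.comp (algebraMap A C) from rfl,
        ← RingHom.comp_assoc, ← RingHom.comp_assoc, h1, h2, RingHom.comp_assoc, RingHom.comp_assoc, hg]
    apply RingHom.injective (algebraMap K (AlgebraicClosure K))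
    rw [← RingHom.comp_apply, ← RingHom.comp_apply, ← h1, ← h2]
    exact (hG _ θ₁ p₁ e₁ h1').trans (hee ▸ (hG _ θ₂ p₁ e₂ h2').symm)
  haveI : IsReduced C := isReduced_of_injective C.val.toRingHom Subtype.val_injective
  have hbij := bijective_of_seminormal hA (algebraMap A C) hinj hu fun q => by
    rw [residueFieldMap_surjective_iff]
    intro c
    obtain ⟨G, hG⟩ := c.2
    haveI := q.isPrime
    obtain ⟨θ, p, e, h1, h1', hp⟩ := hlift (FractionRing (C ⧸ q.asIdeal))
      ((algebraMap _ _).comp (Ideal.Quotient.mk q.asIdeal))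
    obtain ⟨x, s, hs, hxs⟩ := IsFractionRing.div_surjective (A := A ⧸ p.asIdeal) (G p)
    obtain ⟨a, rfl⟩ := Ideal.Quotient.mk_surjective x
    obtain ⟨t, rfl⟩ := Ideal.Quotient.mk_surjective s
    have hqmem : ∀ d : C, d ∈ q.asIdeal ↔ θ d.1 = 0 := fun d => by
      rw [show θ d.1 = algebraMap _ (AlgebraicClosure _) (algebraMap _ (FractionRing (C ⧸ q.asIdeal)) (Ideal.Quotient.mk q.asIdeal d))
        from RingHom.congr_fun h1 d, map_eq_zero, IsFractionRing.to_map_eq_zero_iff, Ideal.Quotient.eq_zero_iff_mem]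
    have htp : t ∉ p.asIdeal := fun ht => nonZeroDivisors.ne_zero hs (Ideal.Quotient.eq_zero_iff_mem.mpr ht)
    refine ⟨a, t, fun hmem => htp ?_, ?_⟩
    · have := (hqmem _).mp hmem
      rw [show θ (algebraMap A C t).1 = e (algebraMap A (κ p) t) from RingHom.congr_fun h1' t, map_eq_zero,
        Ideal.algebraMap_residueField_eq_zero] at this
      exact this
    · rw [hqmem]
      change θ (algebraMap A N t * c.1 - algebraMap A N a) = 0
      rw [map_sub, map_mul, hG _ θ p e h1', show θ (algebraMap A N t) = e (algebraMap A (κ p) t) from RingHom.congr_fun h1' t,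
        show θ (algebraMap A N a) = e (algebraMap A (κ p) a) from RingHom.congr_fun h1' a, ← map_mul, ← map_sub, ← hxs]
      have ht0 : algebraMap (A ⧸ p.asIdeal) (κ p) (Ideal.Quotient.mk _ t) ≠ 0 :=
        fun h => nonZeroDivisors.ne_zero hs (IsFractionRing.to_map_eq_zero_iff.mp h)
      rw [show algebraMap A (κ p) t = algebraMap (A ⧸ p.asIdeal) (κ p) (Ideal.Quotient.mk _ t) from
          IsScalarTower.algebraMap_apply A (A ⧸ p.asIdeal) (κ p) t,
        show algebraMap A (κ p) a = algebraMap (A ⧸ p.asIdeal) (κ p) (Ideal.Quotient.mk _ a) from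
          IsScalarTower.algebraMap_apply A (A ⧸ p.asIdeal) (κ p) a,
        mul_div_cancel₀ _ ht0, sub_self, map_zero]
  obtain ⟨a, ha⟩ := hbij.2 ⟨b, hbC⟩
  exact ⟨a, congrArg Subtype.val ha⟩

theorem mul_symTensor_mem_range (A C C' B : Type u) [CommRing A] [CommRing C] [CommRing C'] [CommRing B]
    [Algebra A C] [Algebra A C'] [Algebra A B] (hC : IsSeminormalRing C) (g : C →ₐ[A] C') [IsReduced C']
    (hfin : g.toRingHom.Finite) (hg : FlatMor.IsUnivHomeo (Spec.map (CommRingCat.ofHom g.toRingHom)))
    (d : ℕ)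
    (hdeg : ∀ q : PrimeSpectrum C',
      @Module.finrank (PrimeSpectrum.comap g.toRingHom q).asIdeal.ResidueField q.asIdeal.ResidueField _ _
          (Ideal.ResidueField.map (PrimeSpectrum.comap g.toRingHom q).asIdeal q.asIdeal g.toRingHom
            rfl).toAlgebra.toModule ∣ d)
    (φ : B →ₐ[A] C') (x : ⨂[A] _ : Fin d, B) (hx : x ∈ SymTen.TS A B d) :
    φ (PiTensorProduct.lift (MultilinearMap.mkPiAlgebra A (Fin d) B) x) ∈ g.range := by
  letI : Algebra C C' := g.toRingHom.toAlgebra
  obtain ⟨hint, hrad, hsurj⟩ := (isUnivHomeo_SpecMap_iff g.toRingHom).1 hg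
  haveI : IsReduced C := HTopAwn.isReduced_of_seminormal hC
  have hinj : Function.Injective (algebraMap C C') := by
    rw [injective_iff_map_eq_zero]
    intro c hc
    refine (IsReduced.eq_zero c ?_)
    rw [← mem_nilradical, nilradical_eq_sInf, Submodule.mem_sInf]
    intro (P : Ideal C) hP
    haveI : P.IsPrime := hP
    obtain ⟨q, hq⟩ := hsurj ⟨P, hP⟩
    have hP' : P = (PrimeSpectrum.comap g.toRingHom q).asIdeal := (congrArg PrimeSpectrum.asIdeal hq).symm
    rw [hP']
    show g.toRingHom c ∈ q.asIdeal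
    rw [show g.toRingHom c = 0 from hc]
    exact zero_mem _
  have hinjS : Function.Injective (PrimeSpectrum.comap g.toRingHom) := fun q q' h =>
    ((tfae_universallyInjective (Spec.map (CommRingCat.ofHom g.toRingHom))).out 0 2 :
      UniversallyInjective (Spec.map (CommRingCat.ofHom g.toRingHom)) ↔ Function.Injective _ ∧ _).1
      ⟨fun _ _ _ _ _ h => (hg _ _ _ h).injective⟩ |>.1 h
  have hval : ∀ q : PrimeSpectrum C', algebraMap C' q.asIdeal.ResidueField
      (φ (PiTensorProduct.lift (MultilinearMap.mkPiAlgebra A (Fin d) B) x)) ∈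
      (Ideal.ResidueField.map (PrimeSpectrum.comap g.toRingHom q).asIdeal q.asIdeal g.toRingHom rfl).range := by
    intro q
    let k := (PrimeSpectrum.comap g.toRingHom q).asIdeal.ResidueField
    let K := q.asIdeal.ResidueField
    let r : k →+* K := Ideal.ResidueField.map (PrimeSpectrum.comap g.toRingHom q).asIdeal q.asIdeal g.toRingHom rfl
    letI : Algebra k K := r.toAlgebra
    letI : Algebra A k := ((algebraMap C k).comp (algebraMap A C)).toAlgebra
    have hr : ∀ c : C, r (algebraMap C k c) = algebraMap C' K (g c) := fun c =>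
      Ideal.ResidueField.map_algebraMap _ _ g.toRingHom rfl c
    have htower : ∀ a : A, algebraMap A K a = r (algebraMap A k a) := fun a =>
      (IsScalarTower.algebraMap_apply A C' K a).trans
        ((congrArg (algebraMap C' K) (g.commutes a).symm).trans (hr _).symm)
    haveI : IsScalarTower A k K := IsScalarTower.of_algebraMap_eq htower
    haveI : Module.Finite k K := by
      haveI : Module.Finite C C' := hfin
      haveI : IsScalarTower C k K := IsScalarTower.of_algebraMap_eq fun c =>
        ((IsScalarTower.algebraMap_apply C C' K c).trans (hr c).symm)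
      haveI : Algebra.QuasiFinite C K := inferInstanceAs (Algebra.QuasiFinite C q.asIdeal.ResidueField)
      haveI : Algebra.QuasiFinite k K := .of_restrictScalars C _ _
      exact Module.Finite.of_quasiFinite
    haveI : IsPurelyInseparable k K := by
      rw [isPurelyInseparable_iff_subsingleton_emb (F := k) (E := K)]
      refine ⟨fun σ τ => AlgHom.coe_ringHom_injective ?_⟩
      refine Ideal.ResidueField.ringHom_ext (hrad _ _ _ ?_)
      refine RingHom.ext fun c => ?_
      show σ (algebraMap C' K (g c)) = τ (algebraMap C' K (g c))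
      rw [← hr c]
      exact (σ.commutes _).trans (τ.commutes _).symm
    exact SymMul.mul_mem_range' (hdeg q) ((IsScalarTower.toAlgHom A C' K).comp φ) x hx
  choose q₀ hq₀ using hsurj
  have hG : ∀ p : PrimeSpectrum C, ∃ z : p.asIdeal.ResidueField,
      Ideal.ResidueField.map p.asIdeal (q₀ p).asIdeal g.toRingHom (congrArg PrimeSpectrum.asIdeal (hq₀ p)).symm z =
        algebraMap C' (q₀ p).asIdeal.ResidueField
          (φ (PiTensorProduct.lift (MultilinearMap.mkPiAlgebra A (Fin d) B) x)) := by
    intro p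
    have key : ∀ (p' : PrimeSpectrum C) (h : PrimeSpectrum.comap g.toRingHom (q₀ p) = p'),
        ∃ z : p'.asIdeal.ResidueField,
          Ideal.ResidueField.map p'.asIdeal (q₀ p).asIdeal g.toRingHom (congrArg PrimeSpectrum.asIdeal h).symm z =
            algebraMap C' (q₀ p).asIdeal.ResidueField
              (φ (PiTensorProduct.lift (MultilinearMap.mkPiAlgebra A (Fin d) B) x)) := by
      rintro _ rfl
      exact RingHom.mem_range.1 (hval (q₀ p))
    exact key p (hq₀ p)
  choose G₀ hG₀ using hG
  obtain ⟨c, hc⟩ := exists_preimage_of_residue_values hC hinj (fun y => hint y) _ G₀ fun L _ θ p e h => by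
    haveI : (RingHom.ker θ).IsPrime := RingHom.ker_isPrime θ
    obtain ⟨q', rfl⟩ : ∃ q', q' = q₀ p := ⟨_, rfl⟩
    have hq : (q₀ p).asIdeal = RingHom.ker θ := by
      have hker : PrimeSpectrum.comap g.toRingHom ⟨RingHom.ker θ, inferInstance⟩ = p := by
        refine PrimeSpectrum.ext (Ideal.ext fun c => ?_)
        show θ (algebraMap C C' c) = 0 ↔ _
        rw [show θ (algebraMap C C' c) = e (algebraMap C p.asIdeal.ResidueField c) from RingHom.congr_fun h c,
          map_eq_zero, Ideal.algebraMap_residueField_eq_zero]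
      exact (congrArg PrimeSpectrum.asIdeal (hinjS (hker.trans (hq₀ p).symm))).symm
    let e' : (q₀ p).asIdeal.ResidueField →+* L := Ideal.ResidueField.lift _ θ (fun y hy => by rwa [← hq])
      (fun y hy => isUnit_iff_ne_zero.mpr fun h0 => hy (by show y ∈ (q₀ p).asIdeal; rw [hq]; exact h0))
    have he : e'.comp (Ideal.ResidueField.map p.asIdeal (q₀ p).asIdeal g.toRingHom
        (congrArg PrimeSpectrum.asIdeal (hq₀ p)).symm) = e := by
      refine Ideal.ResidueField.ringHom_ext (RingHom.ext fun c => ?_)
      simp only [RingHom.comp_apply, Ideal.ResidueField.map_algebraMap, e', Ideal.ResidueField.lift_algebraMap]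
      exact RingHom.congr_fun h c
    rw [← he, RingHom.comp_apply, hG₀ p, Ideal.ResidueField.lift_algebraMap]
  exact ⟨c, hc⟩

end Groth.Agent.IntTh85.SymSeminormal
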