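import Groth.Agent.SymProdLib.Inv
import Groth.Prelude.Def_SymTen
import Mathlib.RingTheory.TensorProduct.Maps
import Mathlib.LinearAlgebra.TensorProduct.Pi

/-!
# Symmetric tensors after a change of ring and a surjection

If `M₂` is a flat `R'`-module spanned by the image of an `R`-linear `α : M₁ → M₂`, the symmetric tensors
of `M₂` over `R'` are spanned by the images of those of `M₁` over `R`.
-/

set_option autoImplicit false
set_option linter.style.haveILetI false

universe u

open scoped TensorProduct

namespace Groth.Agent.IntTh85.SymTS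

open PolLib (tp tp_comp tp_reindex invSub mem_invSub Orb rep orb beta eq_sum_orb)

section Theta

variable {R R' : Type u} [CommRing R] [CommRing R'] [Algebra R R']
  {M₁ M₂ : Type u} [AddCommGroup M₁] [Module R M₁] [AddCommGroup M₂] [Module R M₂] [Module R' M₂]
  [IsScalarTower R R' M₂] {d : ℕ}

/-- `m₁ ⊗ ⋯ ⊗ m_d ↦ α m₁ ⊗ ⋯ ⊗ α m_d`, from `R` to `R'`. -/
noncomputable def theta (α : M₁ →ₗ[R] M₂) : (⨂[R]^d M₁) →ₗ[R] (⨂[R']^d M₂) :=
  PiTensorProduct.lift (((PiTensorProduct.tprod R').restrictScalars R).compLinearMap fun _ => α)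

@[simp]
theorem theta_tprod (α : M₁ →ₗ[R] M₂) (a : Fin d → M₁) :
    theta α (PiTensorProduct.tprod R a) = PiTensorProduct.tprod R' fun i => α (a i) := by
  simp [theta]

theorem span_invariants [Module.Flat R' M₂] (α : M₁ →ₗ[R] M₂)
    (hα : Submodule.span R' (Set.range α) = ⊤) {z : ⨂[R']^d M₂} (hz : z ∈ invSub R' M₂ d) :
    z ∈ Submodule.span R' (theta α '' (invSub R M₁ d : Set (⨂[R]^d M₁))) := by
  classical
  obtain ⟨n, g, t, ht, hgt⟩ := PolLib.exists_invariant_lift_family (A := R') (fun _ : Fin 1 => z)
    (fun _ σ => mem_invSub.1 hz σ)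
  have hk : ∀ k, ∃ c : M₁ →₀ R', Finsupp.linearCombination R' α c = g (Pi.basisFun R' (Fin n) k) := by
    intro k
    rw [← Set.mem_range]
    have : g (Pi.basisFun R' (Fin n) k) ∈ Submodule.span R' (Set.range α) := hα ▸ trivial
    rwa [← Finsupp.range_linearCombination, LinearMap.mem_range] at this
  choose c hc using hk
  let supp : Finset M₁ := Finset.univ.biUnion fun k => (c k).support
  let e := (Fintype.equivFin supp).symm
  let a : Fin (Fintype.card supp) → M₁ := fun l => (e l).1
  let h : (Fin n → R') →ₗ[R'] (Fin (Fintype.card supp) → R') :=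
    (Pi.basisFun R' (Fin n)).constr R' fun k l => c k (a l)
  let G : (Fin (Fintype.card supp) → R') →ₗ[R'] M₂ :=
    (Pi.basisFun R' _).constr R' fun l => α (a l)
  have hGh : G.comp h = g := (Pi.basisFun R' (Fin n)).ext fun k => by
    rw [LinearMap.comp_apply]
    simp only [h, G, Module.Basis.constr_basis]
    rw [Module.Basis.constr_apply_fintype, ← hc k,
      Finsupp.linearCombination_apply, Finsupp.sum_of_support_subset (c k) (s := supp)
        (fun m hm => Finset.mem_biUnion.2 ⟨k, Finset.mem_univ _, hm⟩) _ (by simp),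
      ← Finset.sum_coe_sort supp, ← e.sum_comp]
    simp [a]
  let G₁ : (Fin (Fintype.card supp) → R) →ₗ[R] M₁ := (Pi.basisFun R _).constr R a
  have : Finite (Orb (Fin (Fintype.card supp)) d) := Finite.of_surjective PolLib.cls PolLib.cls_surjective
  let _ := Fintype.ofFinite (Orb (Fin (Fintype.card supp)) d)
  have horb : ∀ q, tp d G ((SymTen.TS R' (Fin (Fintype.card supp) → R') d).val
        (orb (Pi.basisFun R' _) q)) =
      theta α (tp d G₁ ((SymTen.TS R (Fin (Fintype.card supp) → R) d).val
        (orb (Pi.basisFun R _) q))) := fun q => by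
    simp only [PolLib.val_orb, map_sum, PolLib.beta_apply, PolLib.tp_tprod, theta_tprod, G, G₁,
      Module.Basis.constr_basis]
  have hz' : z = tp d G (tp d h (t 0)) := by rw [← LinearMap.comp_apply, ← tp_comp, hGh, hgt]
  rw [hz', eq_sum_orb (tp d h (t 0)) fun σ => by rw [← tp_reindex, ht], map_sum]
  refine Submodule.sum_mem _ fun q _ => ?_
  rw [map_smul, horb]
  refine Submodule.smul_mem _ _ (Submodule.subset_span ⟨_, mem_invSub.2 fun σ => ?_, rfl⟩)
  rw [← tp_reindex]
  exact congrArg _ ((orb (Pi.basisFun R (Fin (Fintype.card supp))) q).2 σ)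

end Theta

section Span

variable {R : Type u} [CommRing R] {A A' : Type u} [CommRing A] [Algebra R A] [CommRing A'] [Algebra R A']

/-- Every fixed element of `T^d(A') ⊗ N` is a combination of images of symmetric tensors of `A`. -/
def SpanTS (d : ℕ) (N : Type u) [AddCommGroup N] [Module R N] (α : A →ₐ[R] A') : Prop :=
  ∀ z : (⨂[R] _ : Fin d, A') ⊗[R] N,
    (∀ σ : Equiv.Perm (Fin d), (SymTen.perm R A' d σ).toLinearMap.rTensor N z = z) →
    z ∈ AddSubmonoid.closure {x : (⨂[R] _ : Fin d, A') ⊗[R] N |
      ∃ (u : ⨂[R] _ : Fin d, A) (n : N), u ∈ SymTen.TS R A d ∧ x = SymTen.tmap R d α u ⊗ₜ n}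

variable (d : ℕ)

theorem theta_eq_tmap (α : A →ₐ[R] A') (u : ⨂[R] _ : Fin d, A) :
    theta (R' := R) α.toLinearMap u = SymTen.tmap R d α u := by
  induction u using PiTensorProduct.induction_on with
  | smul_tprod r a =>
    rw [map_smul, map_smul, SymTen.tmap_tprod, theta_tprod]
    rfl
  | add x y hx hy => rw [map_add, map_add, hx, hy]

theorem spanTS_of_flat (N : Type u) [AddCommGroup N] [Module R N] (α : A →ₐ[R] A')
    (hα : Function.Surjective α) [Module.Flat R A'] : SpanTS d N α := by
  intro z hz
  obtain ⟨z, rfl⟩ := (TensorProduct.comm R N (⨂[R] _ : Fin d, A')).surjective z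
  obtain ⟨w, rfl⟩ := SymProdLib.exists_of_invariant z fun σ => by
    refine (TensorProduct.comm R N (⨂[R] _ : Fin d, A')).injective (Eq.trans ?_ (hz σ))
    clear hz
    induction z using TensorProduct.induction_on with
    | zero => simp
    | add a b ha hb => simp only [map_add, ha, hb]
    | tmul a b =>
      simp [SymTen.perm_apply]
  clear hz
  induction w using TensorProduct.induction_on with
  | zero => simp
  | add a b ha hb => rw [map_add, map_add]; exact add_mem ha hb
  | tmul n v =>
    rw [LinearMap.lTensor_tmul, TensorProduct.comm_tmul]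
    have hv := span_invariants α.toLinearMap
      (by rw [(show Set.range α.toLinearMap = Set.univ from Set.range_eq_univ.2 hα), Submodule.span_univ])
      v.2
    revert n
    suffices ∀ n : N, v.1 ⊗ₜ[R] n ∈ _ from fun n => this n
    generalize v.1 = v' at hv
    induction hv using Submodule.span_induction with
    | mem x hx =>
      obtain ⟨u, hu, rfl⟩ := hx
      exact fun n => AddSubmonoid.subset_closure ⟨u, n, (SymTen.mem_TS_iff _ _ _ u).2 (mem_invSub.1 hu),
        by rw [theta_eq_tmap]⟩
    | zero => intro n; rw [TensorProduct.zero_tmul]; exact zero_mem _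
    | add x y _ _ hx hy => intro n; rw [TensorProduct.add_tmul]; exact add_mem (hx n) (hy n)
    | smul r x _ hx => intro n; rw [TensorProduct.smul_tmul]; exact hx _

theorem spanTS_of_flat_baseChange (R' : Type u) [CommRing R'] [Algebra R R'] (α : A →ₐ[R] A')
    (hα : Function.Surjective α) [Module.Flat R' (R' ⊗[R] A')] : SpanTS d R' α := by
  intro z hz
  let mk1 : A' →ₗ[R] R' ⊗[R] A' := TensorProduct.mk R R' A' 1
  let Ξ : (⨂[R] _ : Fin d, A') ⊗[R] R' →ₗ[R] ⨂[R']^d (R' ⊗[R] A') :=
    TensorProduct.lift
      (((LinearMap.lsmul R' (⨂[R']^d (R' ⊗[R] A'))).restrictScalars₁₂ R R).flip ∘ₗ theta mk1)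
  have hΞ : ∀ u r, Ξ (u ⊗ₜ r) = r • theta mk1 u := fun u r => rfl
  let μ := (MultilinearMap.mkPiAlgebra R' (Fin d) (R' ⊗[R] (⨂[R] _ : Fin d, A'))).compLinearMap
    fun i => (Algebra.TensorProduct.map (AlgHom.id R' R')
      (PiTensorProduct.singleAlgHom (R := R) (A := fun _ : Fin d => A') i)).toLinearMap
  let Ω : (⨂[R']^d (R' ⊗[R] A')) →ₗ[R'] R' ⊗[R] (⨂[R] _ : Fin d, A') := PiTensorProduct.lift μ
  have hΩ : ∀ u, Ω (theta mk1 u) = 1 ⊗ₜ u := fun u => by
    induction u using PiTensorProduct.induction_on with
    | add x y hx hy => rw [map_add, map_add, hx, hy, TensorProduct.tmul_add]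
    | smul_tprod c a =>
      rw [map_smul, LinearMap.map_smul_of_tower, TensorProduct.tmul_smul]
      congr 1
      rw [theta_tprod, PiTensorProduct.lift.tprod]
      show ∏ i, Algebra.TensorProduct.map (AlgHom.id R' R') _ ((1 : R') ⊗ₜ[R] a i) = _
      simp only [Algebra.TensorProduct.map_tmul, map_one]
      simp only [← Algebra.TensorProduct.includeRight_apply]
      rw [← map_prod]
      congr 1
      simp only [PiTensorProduct.singleAlgHom_apply, ← PiTensorProduct.tprod_prod]
      congr 1
      funext j
      rw [Finset.prod_apply]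
      simp [MonoidHom.mulSingle_apply, Pi.mulSingle_apply]
  have hleft : ∀ w, (TensorProduct.comm R R' _) (Ω (Ξ w)) = w := fun w => by
    induction w using TensorProduct.induction_on with
    | zero => simp
    | add a b ha hb => simp only [map_add, ha, hb]
    | tmul u r => simp [hΞ, hΩ, TensorProduct.smul_tmul']
  have hinv : Ξ z ∈ invSub R' (R' ⊗[R] A') d := mem_invSub.2 fun σ => by
    conv_rhs => rw [← hz σ]
    clear hz hleft
    induction z using TensorProduct.induction_on with
    | zero => simp
    | add a b ha hb => simp only [map_add, ha, hb]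
    | tmul u r =>
      rw [LinearMap.rTensor_tmul, hΞ, hΞ, map_smul]
      congr 1
      induction u using PiTensorProduct.induction_on with
      | add x y hx hy => simp only [map_add, hx, hy]
      | smul_tprod c a =>
        simp only [map_smul, SymTen.perm_tprod, AlgHom.toLinearMap_apply, theta_tprod]
        rw [← IsScalarTower.algebraMap_smul R' c, map_smul, IsScalarTower.algebraMap_smul]
        simp
  have hspan : Submodule.span R' (Set.range (mk1 ∘ₗ α.toLinearMap)) = ⊤ := by
    rw [eq_top_iff]
    rintro w -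
    induction w using TensorProduct.induction_on with
    | zero => exact zero_mem _
    | add a b ha hb => exact add_mem ha hb
    | tmul r a =>
      obtain ⟨a, rfl⟩ := hα a
      have : r ⊗ₜ[R] α a = r • mk1 (α a) := by simp [mk1, TensorProduct.smul_tmul']
      rw [this]
      exact Submodule.smul_mem _ _ (Submodule.subset_span ⟨a, rfl⟩)
  have h := span_invariants (mk1 ∘ₗ α.toLinearMap) hspan hinv
  rw [← hleft z]
  revert h
  generalize Ξ z = y
  intro h
  induction h using Submodule.span_induction with
  | mem x hx =>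
    obtain ⟨u, hu, rfl⟩ := hx
    have hcomp : theta (R' := R') (mk1 ∘ₗ α.toLinearMap) u = theta mk1 (SymTen.tmap R d α u) := by
      clear hu
      induction u using PiTensorProduct.induction_on with
      | add x y hx hy => simp only [map_add, hx, hy]
      | smul_tprod c a => simp
    rw [hcomp, hΩ, TensorProduct.comm_tmul]
    exact AddSubmonoid.subset_closure ⟨u, 1, (SymTen.mem_TS_iff _ _ _ u).2 (mem_invSub.1 hu), rfl⟩
  | zero => simp
  | add x y _ _ hx hy => rw [map_add, map_add]; exact add_mem hx hy
  | smul r x _ hx =>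
    rw [map_smul]
    let sc : (⨂[R] _ : Fin d, A') ⊗[R] R' →ₗ[R] (⨂[R] _ : Fin d, A') ⊗[R] R' :=
      (LinearMap.mulLeft R r).lTensor _
    have key : TensorProduct.comm R R' _ (r • Ω x) = sc (TensorProduct.comm R R' _ (Ω x)) := by
      generalize Ω x = w
      induction w using TensorProduct.induction_on with
      | zero => simp
      | add a b ha hb => simp only [smul_add, map_add, ha, hb]
      | tmul s v => simp [sc, TensorProduct.smul_tmul']
    rw [key]
    revert hx
    generalize TensorProduct.comm R R' _ (Ω x) = w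
    intro hw
    induction hw using AddSubmonoid.closure_induction with
    | mem y hy =>
      obtain ⟨u, n, hu, rfl⟩ := hy
      exact AddSubmonoid.subset_closure ⟨u, r * n, hu, by simp [sc]⟩
    | zero => rw [map_zero]; exact zero_mem _
    | add y y' _ _ hy hy' => rw [map_add]; exact add_mem hy hy'

end Span

end Groth.Agent.IntTh85.SymTS
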