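import Groth.Agent.IntTh85.SymPair
import Groth.Agent.IntTh85.SymTS

/-!
# Invariant sections of fibre powers are spanned by invariant sections

`mem_fspan`: for an affine open `P.O` of `fibPow f d` stable under the symmetric group, every invariant
element of `Γ(c⁻¹ P.O) ⊗ N` is a combination of the `1 ⊗ n` with invariant coefficients, as soon as the
same holds for the tensor powers of the finite products of affine charts.  No (AF) condition is used: a
point is handled in a box belonging to the pattern of equalities of its coordinates.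
-/

set_option autoImplicit false
set_option linter.style.haveILetI false

universe u

open CategoryTheory CategoryTheory.Limits AlgebraicGeometry Opposite
open scoped TensorProduct
open Groth.Agent.SymProdLib (appLE_congr_hom)

namespace Groth.Agent.IntTh85.SymSpan

open InvLocal TensorAct SymPair

variable {X Z S : Scheme.{u}} (f : X ⟶ S) (fZ : Z ⟶ S) (i : Z ⟶ X) (w : i ≫ f = fZ) {V : S.Opens}

include w in
theorem preimage_le {U : X.Opens} (e : U ≤ f ⁻¹ᵁ V) : i ⁻¹ᵁ U ≤ fZ ⁻¹ᵁ V := by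
  rw [← w, Scheme.Hom.comp_preimage]
  exact i.preimage_mono e

/-- The algebra structures on the sections over a family of opens. -/
@[reducible] noncomputable def algFam {κ : Type u} (U : κ → X.Opens) (e : ∀ a, U a ≤ f ⁻¹ᵁ V) (a : κ) :
    Algebra Γ(S, V) Γ(X, U a) :=
  (f.appLE V (U a) (e a)).hom.toAlgebra

/-- Pulling back the sections of a family of opens. -/
noncomputable def famMap {κ : Type u} (U : κ → X.Opens) (e : ∀ a, U a ≤ f ⁻¹ᵁ V) :
    letI := algFam f U e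
    letI := algFam fZ (fun a => i ⁻¹ᵁ U a) (fun a => preimage_le f fZ i w (e a))
    (∀ a, Γ(X, U a)) →ₐ[Γ(S, V)] (∀ a, Γ(Z, i ⁻¹ᵁ U a)) :=
  letI := algFam f U e
  letI := algFam fZ (fun a => i ⁻¹ᵁ U a) (fun a => preimage_le f fZ i w (e a))
  AlgHom.pi fun a =>
    ({ (i.app (U a)).hom with
      commutes' := fun r => by
        show (i.app (U a)).hom ((f.appLE V (U a) (e a)).hom r) = (fZ.appLE V (i ⁻¹ᵁ U a) _).hom r
        rw [Scheme.Hom.app_eq_appLE, ← RingHom.comp_apply, ← CommRingCat.hom_comp,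
          Scheme.Hom.appLE_comp_appLE, appLE_congr_hom w _ (preimage_le f fZ i w (e a))] } :
      Γ(X, U a) →ₐ[Γ(S, V)] Γ(Z, i ⁻¹ᵁ U a)).comp (Pi.evalAlgHom Γ(S, V) (fun a => Γ(X, U a)) a)

theorem famMap_apply {κ : Type u} (U : κ → X.Opens) (e : ∀ a, U a ≤ f ⁻¹ᵁ V)
    (x : ∀ a, Γ(X, U a)) (a : κ) : famMap f fZ i w U e x a = (i.app (U a)).hom (x a) := rfl

/-- The hypothesis on the tensor powers of finite products of charts. -/
def LocalSpan (d : ℕ) (V : S.Opens) (N : Type u) [AddCommGroup N] [Module Γ(S, V) N] : Prop :=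
  ∀ (κ : Type u) [Fintype κ] [DecidableEq κ] (U : κ → X.Opens), (∀ a, IsAffineOpen (U a)) →
    ∀ e : ∀ a, U a ≤ f ⁻¹ᵁ V,
      letI := algFam f U e
      letI := algFam fZ (fun a => i ⁻¹ᵁ U a) (fun a => preimage_le f fZ i w (e a))
      SymTS.SpanTS d N (famMap f fZ i w U e)

variable {f fZ i} {d : ℕ} {c : SymProd.fibPow fZ d ⟶ SymProd.fibPow f d}

/-- A pair from an open (kept opaque, so that the instances on `Pair.O` apply). -/
def pairOf (O : (SymProd.fibPow f d).Opens) (le : O ≤ (WidePullback.base fun _ : Fin d => f) ⁻¹ᵁ V)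
    (ov : c ≫ (WidePullback.base fun _ : Fin d => f) = WidePullback.base fun _ : Fin d => fZ) :
    Pair c V :=
  ⟨O, le, ov⟩

theorem equivariant
    (hcπ : ∀ a : Fin d, c ≫ WidePullback.π (fun _ => f) a = WidePullback.π (fun _ => fZ) a ≫ i)
    (hcb : c ≫ (WidePullback.base fun _ : Fin d => f) = WidePullback.base fun _ : Fin d => fZ)
    (σ : Equiv.Perm (Fin d)) : SymProd.permHom fZ d σ ≫ c = c ≫ SymProd.permHom f d σ := by
  refine WidePullback.hom_ext _ _ _ (fun a => ?_) ?_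
  · rw [Category.assoc, hcπ, SymProd.permHom_π_assoc, Category.assoc, SymProd.permHom_π, hcπ]
  · rw [Category.assoc, hcb, SymProd.permHom_base, Category.assoc, SymProd.permHom_base, hcb]

include w in
theorem preimage_pbox (hi : IsAffineHom i)
    (hcπ : ∀ a : Fin d, c ≫ WidePullback.π (fun _ => f) a = WidePullback.π (fun _ => fZ) a ≫ i)
    (hcb : c ≫ (WidePullback.base fun _ : Fin d => f) = WidePullback.base fun _ : Fin d => fZ)
    (U : Fin d → X.Opens) :
    c ⁻¹ᵁ PBox.pbox f d V U = PBox.pbox fZ d V fun a => i ⁻¹ᵁ U a := by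
  refine TopologicalSpace.Opens.ext (Set.ext fun x => ?_)
  simp only [SetLike.mem_coe, Scheme.Hom.mem_preimage, PBox.mem_pbox, ← Scheme.Hom.comp_apply, hcπ, hcb]

/-- The permutations preserving a pattern. -/
def patternGroup {κ : Type u} (j : Fin d → κ) : Subgroup (Equiv.Perm (Fin d)) where
  carrier := {σ | ∀ a, j (σ a) = j a}
  one_mem' := fun _ => rfl
  mul_mem' := fun {σ τ} hσ hτ a => by rw [Equiv.Perm.mul_apply, hσ, hτ]
  inv_mem' := fun {σ} hσ a => by
    rw [← hσ (σ⁻¹ a)]; simp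

/-- The pair of the box of a pattern. -/
noncomputable def boxPair {κ : Type u} (U : κ → X.Opens) (j : Fin d → κ)
    (ov : c ≫ (WidePullback.base fun _ : Fin d => f) = WidePullback.base fun _ : Fin d => fZ) :
    Pair c V :=
  pairOf (PBox.pbox f d V fun a => U (j a)) PBox.pbox_le_base ov

theorem stable_boxPair {κ : Type u} (U : κ → X.Opens) (j : Fin d → κ)
    (ov : c ≫ (WidePullback.base fun _ : Fin d => f) = WidePullback.base fun _ : Fin d => fZ) :
    Stable (patternGroup j).subtype (boxPair (V := V) U j ov).O :=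
  fun k => by classical exact Pattern.box_le_perm j k.2

theorem appLE_res {A B : Scheme.{u}} (p : A ⟶ B) {V₁ : B.Opens} {W W' : A.Opens} (e : W ≤ p ⁻¹ᵁ V₁)
    (e' : W' ≤ W) (x : Γ(B, V₁)) :
    (A.presheaf.map (homOfLE e').op).hom ((p.appLE V₁ W e).hom x) = (p.appLE V₁ W' (e'.trans e)).hom x := by
  rw [← RingHom.comp_apply, ← CommRingCat.hom_comp, Scheme.Hom.appLE_map]

theorem appLE_square {A B C D : Scheme.{u}} (p : A ⟶ B) (q : B ⟶ D) (r : A ⟶ C) (t : C ⟶ D)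
    (h : p ≫ q = r ≫ t) {U : D.Opens} {V₁ : B.Opens} {V₂ : C.Opens} {W : A.Opens} (e₁ : V₁ ≤ q ⁻¹ᵁ U)
    (e₂ : V₂ ≤ t ⁻¹ᵁ U) (e₃ : W ≤ p ⁻¹ᵁ V₁) (e₄ : W ≤ r ⁻¹ᵁ V₂) (x : Γ(D, U)) :
    (p.appLE V₁ W e₃).hom ((q.appLE U V₁ e₁).hom x) = (r.appLE V₂ W e₄).hom ((t.appLE U V₂ e₂).hom x) := by
  rw [← RingHom.comp_apply, ← CommRingCat.hom_comp, Scheme.Hom.appLE_comp_appLE,
    ← RingHom.comp_apply, ← CommRingCat.hom_comp, Scheme.Hom.appLE_comp_appLE, appLE_congr_hom h _ _]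

theorem appLE_res_comm {A : Scheme.{u}} (p : A ⟶ A) {W W' : A.Opens} (e : W ≤ p ⁻¹ᵁ W) (e' : W' ≤ W)
    (e'' : W' ≤ p ⁻¹ᵁ W') (x : Γ(A, W)) :
    (A.presheaf.map (homOfLE e').op).hom ((p.appLE W W e).hom x) =
      (p.appLE W' W' e'').hom ((A.presheaf.map (homOfLE e').op).hom x) := by
  rw [← RingHom.comp_apply, ← CommRingCat.hom_comp, Scheme.Hom.appLE_map, ← RingHom.comp_apply,
    ← CommRingCat.hom_comp, Scheme.Hom.map_appLE]

theorem secPerm'_apply {K : Type*} [Group K] {ι : K →* Equiv.Perm (Fin d)}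
    (heq : ∀ σ, SymProd.permHom fZ d σ ≫ c = c ≫ SymProd.permHom f d σ) (P : Pair c V)
    (hst : Stable ι P.O) (k : K) (b : Γ(SymProd.fibPow fZ d, c ⁻¹ᵁ P.O)) :
    secPerm' heq P hst k b =
      ((SymProd.permHom fZ d (ι k⁻¹)).appLE _ _ (stable' heq P hst k⁻¹)).hom b := rfl

section Box

variable {κ : Type u} [DecidableEq κ] (U : κ → X.Opens) (j : Fin d → κ)
  (ov : c ≫ (WidePullback.base fun _ : Fin d => f) = WidePullback.base fun _ : Fin d => fZ)
  [∀ a, Algebra Γ(S, V) Γ(X, U a)] [∀ a, Algebra Γ(S, V) Γ(Z, i ⁻¹ᵁ U a)]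
  (e : ∀ a, U a ≤ f ⁻¹ᵁ V) (halg : ∀ a, algebraMap Γ(S, V) Γ(X, U a) = (f.appLE V (U a) (e a)).hom)
  (e' : ∀ a, i ⁻¹ᵁ U a ≤ fZ ⁻¹ᵁ V)
  (halg' : ∀ a, algebraMap Γ(S, V) Γ(Z, i ⁻¹ᵁ U a) = (fZ.appLE V (i ⁻¹ᵁ U a) (e' a)).hom)
  (hO : c ⁻¹ᵁ (boxPair (V := V) U j ov).O = PBox.pbox fZ d V fun a => i ⁻¹ᵁ U (j a))

/-- Onto the sections on the box. -/
noncomputable def boxMap : (⨂[Γ(S, V)] _ : Fin d, (∀ a, Γ(X, U a))) →ₐ[Γ(S, V)]
    Γ(SymProd.fibPow f d, (boxPair (V := V) U j ov).O) :=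
  { Pattern.toBox j e halg with
    commutes' := fun r => Pattern.toBox_algebraMap j e halg r }

theorem boxMap_apply (b : ⨂[Γ(S, V)] _ : Fin d, (∀ a, Γ(X, U a))) :
    boxMap U j ov e halg b = Pattern.toBox j e halg b := rfl

/-- Onto the sections on the preimage of the box. -/
noncomputable def boxMap' : (⨂[Γ(S, V)] _ : Fin d, (∀ a, Γ(Z, i ⁻¹ᵁ U a))) →ₐ[Γ(S, V)]
    Γ(SymProd.fibPow fZ d, c ⁻¹ᵁ (boxPair (V := V) U j ov).O) :=
  { ((SymProd.fibPow fZ d).presheaf.map (homOfLE hO.le).op).hom.comp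
      (Pattern.toBox (f := fZ) (U := fun a => i ⁻¹ᵁ U a) j e' halg') with
    commutes' := fun r => by
      show ((SymProd.fibPow fZ d).presheaf.map (homOfLE hO.le).op).hom
        (Pattern.toBox (f := fZ) (U := fun a => i ⁻¹ᵁ U a) j e' halg' (algebraMap Γ(S, V) _ r)) = _
      rw [Pattern.toBox_algebraMap, ← RingHom.comp_apply, ← CommRingCat.hom_comp, Scheme.Hom.appLE_map]
      rfl }

theorem boxMap'_apply (b : ⨂[Γ(S, V)] _ : Fin d, (∀ a, Γ(Z, i ⁻¹ᵁ U a))) :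
    boxMap' U j ov e' halg' hO b = ((SymProd.fibPow fZ d).presheaf.map (homOfLE hO.le).op).hom
      (Pattern.toBox (f := fZ) (U := fun a => i ⁻¹ᵁ U a) j e' halg' b) := rfl

theorem boxMap'_single
    (hcπ : ∀ a : Fin d, c ≫ WidePullback.π (fun _ => f) a = WidePullback.π (fun _ => fZ) a ≫ i)
    (a : Fin d) (y : ∀ b, Γ(X, U b)) (α : ∀ b, Γ(Z, i ⁻¹ᵁ U b))
    (hα : α (j a) = (i.app (U (j a))).hom (y (j a))) :
    boxMap' U j ov e' halg' hO (PiTensorProduct.singleAlgHom (R := Γ(S, V))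
        (A := fun _ : Fin d => (∀ b, Γ(Z, i ⁻¹ᵁ U b))) a α) =
      algebraMap Γ(SymProd.fibPow f d, (boxPair (V := V) U j ov).O)
        Γ(SymProd.fibPow fZ d, c ⁻¹ᵁ (boxPair (V := V) U j ov).O)
        (boxMap U j ov e halg (PiTensorProduct.singleAlgHom (R := Γ(S, V))
          (A := fun _ : Fin d => (∀ b, Γ(X, U b))) a y)) := by
  rw [boxMap'_apply, boxMap_apply, Pattern.toBox_single, Pattern.toBox_single, hα,
    Scheme.Hom.app_eq_appLE]
  exact (appLE_res _ _ hO.le _).trans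
    (appLE_square _ i c _ (hcπ a).symm _ (PBox.pbox_le_π (U := fun b => U (j b)) a) _ le_rfl (y (j a)))

theorem boxMap'_perm (heq : ∀ σ, SymProd.permHom fZ d σ ≫ c = c ≫ SymProd.permHom f d σ)
    (h : patternGroup j) (b : ⨂[Γ(S, V)] _ : Fin d, (∀ a, Γ(Z, i ⁻¹ᵁ U a))) :
    boxMap' U j ov e' halg' hO
        (SymTen.perm Γ(S, V) (∀ a, Γ(Z, i ⁻¹ᵁ U a)) d (h : Equiv.Perm (Fin d)) b) =
      secPerm' heq (boxPair U j ov) (stable_boxPair (V := V) U j ov) h
        (boxMap' U j ov e' halg' hO b) := by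
  have h1 : ∀ a, j ((h : Equiv.Perm (Fin d)) a) = j a := h.2
  have h2 : ∀ a, j ((h : Equiv.Perm (Fin d))⁻¹ a) = j a := (patternGroup j).inv_mem h.2
  have h3 := Pattern.box_le_perm (f := fZ) (V := V) (U := fun a => i ⁻¹ᵁ U a) j h2
  rw [boxMap'_apply, boxMap'_apply]
  rw [Pattern.toBox_perm (U := fun a => i ⁻¹ᵁ U a) j e' halg' h1 h3 b]
  rw [secPerm'_apply]
  exact appLE_res_comm (SymProd.permHom fZ d (h : Equiv.Perm (Fin d))⁻¹) _ hO.le _ _

end Box

set_option maxHeartbeats 1600000 in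
/-- The box of a pattern satisfies the conclusion. -/
theorem box_span [IsAffineHom i] [IsAffineHom c]
    (hcπ : ∀ a : Fin d, c ≫ WidePullback.π (fun _ => f) a = WidePullback.π (fun _ => fZ) a ≫ i)
    (ov : c ≫ (WidePullback.base fun _ : Fin d => f) = WidePullback.base fun _ : Fin d => fZ)
    (hV : IsAffineOpen V) (heq : ∀ σ, SymProd.permHom fZ d σ ≫ c = c ≫ SymProd.permHom f d σ)
    {κ : Type u} [Fintype κ] [DecidableEq κ] (U : κ → X.Opens) (j : Fin d → κ)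
    (hUa : ∀ a, IsAffineOpen (U a)) (hUV : ∀ a, U a ≤ f ⁻¹ᵁ V)
    (N : Type u) [AddCommGroup N] [Module Γ(S, V) N] (hN : LocalSpan f fZ i w d V N)
    {v : Γ(SymProd.fibPow fZ d, c ⁻¹ᵁ (boxPair (V := V) U j ov).O) ⊗[Γ(S, V)] N}
    (hv : (secAct heq (boxPair U j ov) (stable_boxPair U j ov) N).MFix v) :
    v ∈ (secAct heq (boxPair U j ov) (stable_boxPair U j ov) N).fspan fun n : N =>
      (1 : Γ(SymProd.fibPow fZ d, c ⁻¹ᵁ (boxPair (V := V) U j ov).O)) ⊗ₜ[Γ(S, V)] n := by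
  classical
  letI algX := algFam f U hUV
  have hUV' : ∀ a, i ⁻¹ᵁ U a ≤ fZ ⁻¹ᵁ V := fun a => preimage_le f fZ i w (hUV a)
  letI algZ := algFam fZ (fun a => i ⁻¹ᵁ U a) hUV'
  let PB : Pair c V := boxPair U j ov
  let H := patternGroup j
  have hstB : Stable H.subtype PB.O := stable_boxPair U j ov
  let α := famMap f fZ i w U hUV
  letI := (SymTen.tmap Γ(S, V) d α).toRingHom.toAlgebra
  haveI : IsScalarTower Γ(S, V) (⨂[Γ(S, V)] _ : Fin d, (∀ a, Γ(X, U a)))
      (⨂[Γ(S, V)] _ : Fin d, (∀ a, Γ(Z, i ⁻¹ᵁ U a))) :=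
    IsScalarTower.of_algebraMap_eq fun r => ((SymTen.tmap Γ(S, V) d α).commutes r).symm
  have hperm1 : ∀ (A : Type u) [CommRing A] [Algebra Γ(S, V) A] (t : ⨂[Γ(S, V)] _ : Fin d, A),
      SymTen.perm Γ(S, V) A d 1 t = t := fun A _ _ t => by
    rw [SymTen.perm_apply, show (1 : Equiv.Perm (Fin d)) = Equiv.refl _ from rfl,
      PiTensorProduct.reindex_refl]
    rfl
  have hpermmul : ∀ (A : Type u) [CommRing A] [Algebra Γ(S, V) A] (σ τ : Equiv.Perm (Fin d))
      (t : ⨂[Γ(S, V)] _ : Fin d, A),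
      SymTen.perm Γ(S, V) A d (σ * τ) t = SymTen.perm Γ(S, V) A d σ (SymTen.perm Γ(S, V) A d τ t) :=
    fun A _ _ σ τ t => by
    induction t using PiTensorProduct.induction_on with
    | add x y hx hy => simp only [map_add, hx, hy]
    | smul_tprod r a =>
      simp only [map_smul, SymTen.perm_tprod]
      rfl
  let AT := tensorAct N (fun σ => (SymTen.perm Γ(S, V) (∀ a, Γ(X, U a)) d σ).toRingHom)
    (fun σ => SymTen.perm Γ(S, V) (∀ a, Γ(Z, i ⁻¹ᵁ U a)) d σ) (hperm1 _) (hpermmul _) (hperm1 _)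
    (hpermmul _) (fun σ b => by
      show SymTen.perm _ _ d σ (SymTen.tmap Γ(S, V) d α b) = SymTen.tmap Γ(S, V) d α _
      rw [SymTen.perm_apply, ← SymTen.tmap_reindex, ← SymTen.perm_apply]
      rfl)
  have hspanT : ∀ y, AT.MFix y → y ∈ AT.fspan fun n : N =>
      (1 : ⨂[Γ(S, V)] _ : Fin d, (∀ a, Γ(Z, i ⁻¹ᵁ U a))) ⊗ₜ[Γ(S, V)] n := by
    intro y hy
    refine (AddSubmonoid.closure_le.2 ?_) (hN κ U hUa hUV y hy)
    rintro _ ⟨u, n, hu, rfl⟩
    have : SymTen.tmap Γ(S, V) d α u ⊗ₜ[Γ(S, V)] n =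
        u • ((1 : ⨂[Γ(S, V)] _ : Fin d, (∀ a, Γ(Z, i ⁻¹ᵁ U a))) ⊗ₜ[Γ(S, V)] n) := by
      rw [smul_tmul_eq, mul_one]
      rfl
    rw [SetLike.mem_coe, this]
    exact mem_fspan_gen (fun σ => by
      show SymTen.perm _ _ d σ u = u
      rw [SymTen.perm_apply]; exact hu σ) n
  have hO : c ⁻¹ᵁ PB.O = PBox.pbox fZ d V fun a => i ⁻¹ᵁ U (j a) :=
    preimage_pbox w inferInstance hcπ ov _
  let π := boxMap U j ov hUV (fun _ => rfl)
  let π' := boxMap' U j ov hUV' (fun _ => rfl) hO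
  have hres := restriction_bijective (hO.le) hO
  have hUZ : ∀ a, IsAffineOpen (i ⁻¹ᵁ U a) := fun a => (hUa a).preimage i
  have hsurj' : Function.Surjective π' :=
    hres.2.comp (Pattern.toBox_surjective j hUV' (fun _ => rfl) hV hUZ)
  let ε := Pattern.idem Γ(S, V) (fun a => Γ(X, U a)) j
  have hαε : SymTen.tmap Γ(S, V) d α ε = Pattern.idem Γ(S, V) (fun a => Γ(Z, i ⁻¹ᵁ U a)) j := by
    simp only [ε, Pattern.idem]
    rw [SymTen.tmap_tprod]
    congr 1
    funext a b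
    rw [famMap_apply]
    exact Pi.apply_single (fun b => (i.app (U b)).hom) (fun b => map_zero _) (j a) 1 b |>.trans
      (by rw [map_one])
  haveI : SMulCommClass Γ(S, V) (⨂[Γ(S, V)] _ : Fin d, (∀ a, Γ(Z, i ⁻¹ᵁ U a)))
      (⨂[Γ(S, V)] _ : Fin d, (∀ a, Γ(Z, i ⁻¹ᵁ U a))) :=
    Algebra.to_smulCommClass (R := Γ(S, V)) (A := ⨂[Γ(S, V)] _ : Fin d, (∀ a, Γ(Z, i ⁻¹ᵁ U a)))
  have hker : LinearMap.ker π'.toLinearMap ≤ LinearMap.ker (LinearMap.mulLeft Γ(S, V)
      (algebraMap (⨂[Γ(S, V)] _ : Fin d, (∀ a, Γ(X, U a)))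
        (⨂[Γ(S, V)] _ : Fin d, (∀ a, Γ(Z, i ⁻¹ᵁ U a))) ε)) := by
    intro y hy
    rw [LinearMap.mem_ker] at hy ⊢
    show SymTen.tmap Γ(S, V) d α ε * y = 0
    have hy' : Pattern.toBox (f := fZ) (U := fun a => i ⁻¹ᵁ U a) j hUV' (fun _ => rfl) y = 0 :=
      hres.1 (hy.trans (map_zero _).symm)
    rw [hαε, ← Pattern.ofBox_toBox j hUV' (fun _ => rfl) hV hUZ y, hy', Pattern.ofBox, map_zero, map_zero]
  let ι' := (Submodule.liftQ _ _ hker).comp
    (LinearMap.quotKerEquivOfSurjective π'.toLinearMap hsurj').symm.toLinearMap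
  have hι : ∀ b', ι' (π' b') =
      algebraMap (⨂[Γ(S, V)] _ : Fin d, (∀ a, Γ(X, U a))) _ ε * b' := fun b' => by
    have : (LinearMap.quotKerEquivOfSurjective π'.toLinearMap hsurj').symm (π' b') =
        Submodule.Quotient.mk b' := by
      rw [LinearEquiv.symm_apply_eq]
      rfl
    simp only [ι', LinearMap.comp_apply, LinearEquiv.coe_coe, this, Submodule.liftQ_apply]
    rfl
  have hsq : ∀ b, π' (SymTen.tmap Γ(S, V) d α b) =
      algebraMap Γ(SymProd.fibPow f d, PB.O) Γ(SymProd.fibPow fZ d, c ⁻¹ᵁ PB.O) (π b) := by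
    intro b
    refine RingHom.congr_fun (PBox.ringHom_ext (π'.toRingHom.comp (SymTen.tmap Γ(S, V) d α).toRingHom)
      ((algebraMap Γ(SymProd.fibPow f d, PB.O) _).comp π.toRingHom) ?_ ?_) b
    · refine RingHom.ext fun r => ?_
      simp only [RingHom.comp_apply, AlgHom.toRingHom_eq_coe, RingHom.coe_coe, AlgHom.commutes]
      exact IsScalarTower.algebraMap_apply Γ(S, V) Γ(SymProd.fibPow f d, (boxPair (V := V) U j ov).O)
        Γ(SymProd.fibPow fZ d, c ⁻¹ᵁ (boxPair (V := V) U j ov).O) r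
    · intro a y
      simp only [RingHom.comp_apply, AlgHom.toRingHom_eq_coe, RingHom.coe_coe]
      have hs : SymTen.tmap Γ(S, V) d α (PiTensorProduct.singleAlgHom (R := Γ(S, V))
          (A := fun _ : Fin d => (∀ b, Γ(X, U b))) a y) = PiTensorProduct.singleAlgHom (R := Γ(S, V))
            (A := fun _ : Fin d => (∀ b, Γ(Z, i ⁻¹ᵁ U b))) a (α y) := by
        simp only [PiTensorProduct.singleAlgHom_apply, SymTen.tmap_tprod]
        congr 1
        funext b
        by_cases hba : b = a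
        · subst hba; simp
        · simp [Pi.mulSingle_eq_of_ne hba]
      rw [hs]
      exact boxMap'_single U j ov hUV (fun _ => rfl) hUV' (fun _ => rfl) hO hcπ a y _ rfl
  have hr : ∀ (h : H) b, π (AT.r h b) = (secAct heq PB hstB N).r h (π b) := fun h b =>
    Pattern.toBox_perm j hUV (fun _ => rfl) h.2 _ b
  refine mem_fspan_retract (AB := AT) H π π' hsq hr (fun h y => ?_) hsurj' ι' ε hι
    (fun h hh => Pattern.perm_idem Γ(S, V) (fun a => Γ(X, U a)) j hh) ?_ ?_ hspanT hv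
  · show π'.toLinearMap.rTensor N
        ((SymTen.perm Γ(S, V) (∀ a, Γ(Z, i ⁻¹ᵁ U a)) d (h : Equiv.Perm (Fin d))).toLinearMap.rTensor N y) =
      (secPerm' heq PB hstB h).toLinearMap.rTensor N (π'.toLinearMap.rTensor N y)
    rw [← LinearMap.rTensor_comp_apply, ← LinearMap.rTensor_comp_apply]
    congr 2
    exact LinearMap.ext (boxMap'_perm U j ov hUV' (fun _ => rfl) hO heq h)
  · show Pattern.toBox j hUV (fun _ => rfl) ε = 1
    simp only [ε, Pattern.toBox, RingHom.comp_apply, AlgHom.toRingHom_eq_coe, RingHom.coe_coe,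
      Pattern.ev_idem, map_one]
  · intro σ hσ
    obtain ⟨a, ha⟩ := not_forall.1 (show ¬ ∀ a, j (σ a) = j a from hσ)
    show Pattern.toBox j hUV (fun _ => rfl) (SymTen.perm Γ(S, V) (∀ a, Γ(X, U a)) d σ ε) = 0
    simp only [ε, Pattern.toBox, RingHom.comp_apply, AlgHom.toRingHom_eq_coe, RingHom.coe_coe,
      Pattern.ev_perm_idem Γ(S, V) (fun a => Γ(X, U a)) j ha, map_zero]

/-- A common invariant basic open of two stable affine opens around a point. -/
theorem exists_common {K : Type*} [Group K] [Finite K] {ι : K →* Equiv.Perm (Fin d)}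
    (P PB : Pair c V) (hP : IsAffineOpen P.O) (hPB : IsAffineOpen PB.O)
    (hstH : Stable ι P.O) (hstB : Stable ι PB.O) (p : ↥(SymProd.fibPow f d)) (hp : p ∈ P.O)
    (hpB : p ∈ PB.O) :
    ∃ (Q : Pair c V) (t : Γ(SymProd.fibPow f d, P.O)) (c₀ : Γ(SymProd.fibPow f d, PB.O)),
      (∀ k, secPerm P hstH k t = t) ∧ (∀ k, secPerm PB hstB k c₀ = c₀) ∧
      p ∈ (SymProd.fibPow f d).basicOpen t ∧
      Q.O = (SymProd.fibPow f d).basicOpen t ∧ Q.O = (SymProd.fibPow f d).basicOpen c₀ := by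
  -- a common basic open
  obtain ⟨t₀, ht₀, hpt₀, hle₀⟩ := exists_fixed_basicOpen P hP hstH p hp (P.O ⊓ PB.O)
    fun k => ⟨hstH k hp, hstB k hpB⟩
  let P₀ : Pair c V :=
    pairOf ((SymProd.fibPow f d).basicOpen t₀) (((SymProd.fibPow f d).basicOpen_le t₀).trans P.le) P.ov
  have hst₀ : Stable ι P₀.O := stable_basicOpen P hstH ht₀
  obtain ⟨c₀, hc₀, hpc₀, hlec₀⟩ := exists_fixed_basicOpen PB hPB hstB p hpB P₀.O fun k => hst₀ k hpt₀
  let Q : Pair c V :=
    pairOf ((SymProd.fibPow f d).basicOpen c₀) (((SymProd.fibPow f d).basicOpen_le c₀).trans PB.le) P.ov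
  have hstQ : Stable ι Q.O := stable_basicOpen PB hstB hc₀
  have eP₀ : P₀.O ≤ P.O := (SymProd.fibPow f d).basicOpen_le t₀
  have eB₀ : P₀.O ≤ PB.O := hle₀.trans inf_le_right
  have eQ₀ : Q.O ≤ P₀.O := hlec₀
  have eQB : Q.O ≤ PB.O := (SymProd.fibPow f d).basicOpen_le c₀
  -- a fixed `t` with the same basic open
  let A₀ : InvLocal.Act K Γ(SymProd.fibPow f d, P.O) Γ(SymProd.fibPow f d, P.O) :=
    { r := secPerm P hstH
      m := fun k => (secPerm P hstH k).toAddMonoidHom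
      r_one := fun b => appLE_id_apply (by rw [inv_one, map_one, SymProd.permHom_one]) _ b
      r_mul := fun g h b => appLE_comp_apply (by rw [mul_inv_rev, map_mul, SymProd.permHom_mul]) _ _ _ b
      m_one := fun b => appLE_id_apply (by rw [inv_one, map_one, SymProd.permHom_one]) _ b
      m_mul := fun g h b => appLE_comp_apply (by rw [mul_inv_rev, map_mul, SymProd.permHom_mul]) _ _ _ b
      semi := fun g b x => map_mul (secPerm P hstH g) b x }
  obtain ⟨t, htfix, htopen⟩ : ∃ t, (∀ k, secPerm P hstH k t = t) ∧ Q.O = (SymProd.fibPow f d).basicOpen t := by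
    letI := (res P P₀ eP₀).toRingHom.toAlgebra
    haveI : IsLocalization.Away t₀ Γ(SymProd.fibPow f d, P₀.O) :=
      isLocalization_res P P₀ hP t₀ eP₀ rfl
    obtain ⟨k, b, hb⟩ := IsLocalization.Away.surj (S := Γ(SymProd.fibPow f d, P₀.O)) t₀ (res PB P₀ eB₀ c₀)
    change res PB P₀ eB₀ c₀ * res P P₀ eP₀ t₀ ^ k = res P P₀ eP₀ b at hb
    have hb' : ∀ h : K, res P P₀ eP₀ (secPerm P hstH h b) = res P P₀ eP₀ b := fun h => by
      rw [res_secPerm P P₀ hstH hst₀, ← hb, map_mul, map_pow, ← res_secPerm PB P₀ hstB hst₀,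
        ← res_secPerm P P₀ hstH hst₀, hc₀, ht₀]
    obtain ⟨l, hl⟩ := InvLocal.exists_pow_smul_fix (A := A₀) ht₀ b fun h => by
      obtain ⟨n, hn⟩ := IsLocalization.Away.exists_of_eq (S := Γ(SymProd.fibPow f d, P₀.O)) t₀
        (a := secPerm P hstH h b) (b := b) (hb' h)
      exact ⟨n, by
        show t₀ ^ n * (secPerm P hstH h b - b) = 0
        rw [mul_sub, hn, sub_self]⟩
    refine ⟨t₀ * t₀ ^ l • b, fun k => by rw [map_mul, ht₀ k]; exact congrArg _ (hl k), ?_⟩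
    have hu : IsUnit (res P P₀ eP₀ t₀) := IsLocalization.Away.algebraMap_isUnit t₀
    have h1 : (SymProd.fibPow f d).basicOpen (res P P₀ eP₀ (t₀ ^ l • b)) =
        P₀.O ⊓ (SymProd.fibPow f d).basicOpen (t₀ ^ l • b) := Scheme.basicOpen_res _ _ _
    have h2 : (SymProd.fibPow f d).basicOpen (res PB P₀ eB₀ c₀) =
        P₀.O ⊓ (SymProd.fibPow f d).basicOpen c₀ := Scheme.basicOpen_res _ _ _
    rw [Scheme.basicOpen_mul, show (SymProd.fibPow f d).basicOpen t₀ = P₀.O from rfl, ← h1, smul_eq_mul, map_mul, map_pow, ← hb, mul_left_comm, ← pow_add,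
      Scheme.basicOpen_mul, h2, Scheme.basicOpen_of_isUnit _ (hu.pow (l + k))]
    show Q.O = (P₀.O ⊓ Q.O) ⊓ P₀.O
    rw [inf_eq_right.2 eQ₀, inf_eq_left.2 eQ₀]
  exact ⟨Q, t, c₀, htfix, hc₀, htopen ▸ hpc₀, htopen, rfl⟩

/-- **Invariants are spanned.** -/
theorem mem_fspan [IsAffineHom i] [IsAffineHom c]
    (hcπ : ∀ a : Fin d, c ≫ WidePullback.π (fun _ => f) a = WidePullback.π (fun _ => fZ) a ≫ i)
    (hV : IsAffineOpen V) (heq : ∀ σ, SymProd.permHom fZ d σ ≫ c = c ≫ SymProd.permHom f d σ)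
    (P : Pair c V) (hP : IsAffineOpen P.O) (hst : Stable (MonoidHom.id _) P.O)
    (N : Type u) [AddCommGroup N] [Module Γ(S, V) N] (hN : LocalSpan f fZ i w d V N)
    {z : Γ(SymProd.fibPow fZ d, c ⁻¹ᵁ P.O) ⊗[Γ(S, V)] N} (hz : (secAct heq P hst N).MFix z) :
    z ∈ (secAct heq P hst N).fspan fun n : N =>
      (1 : Γ(SymProd.fibPow fZ d, c ⁻¹ᵁ P.O)) ⊗ₜ[Γ(S, V)] n := by
  classical
  refine InvLocal.mem_fspan_of_local (fun n => mfix_one_tmul n) hz fun x hx => ?_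
  set p : ↥(SymProd.fibPow f d) := hP.fromSpec ⟨x, hx⟩ with hpdef
  have hp : p ∈ P.O := by
    rw [← SetLike.mem_coe, ← hP.range_fromSpec]; exact ⟨_, rfl⟩
  let coord : Fin d → X := fun a => (WidePullback.π (fun _ : Fin d => f) a).base p
  let κ : Type u := ↥(Set.range coord)
  let j : Fin d → κ := fun a => ⟨coord a, a, rfl⟩
  haveI : Fintype κ := Fintype.ofFinite κ
  have hU' : ∀ a : κ, ∃ U : X.Opens, IsAffineOpen U ∧ U ≤ f ⁻¹ᵁ V ∧ (a : X) ∈ U := by
    rintro ⟨_, a, rfl⟩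
    obtain ⟨U, hU, ha, hle⟩ := exists_isAffineOpen_mem_and_subset (x := coord a) (U := f ⁻¹ᵁ V) (by
      show f.base ((WidePullback.π (fun _ : Fin d => f) a).base p) ∈ V
      rw [← Scheme.Hom.comp_apply, WidePullback.π_arrow]
      exact P.le hp)
    exact ⟨U, hU, hle, ha⟩
  choose U hUa hUV hmemU using hU'
  letI algX := algFam f U hUV
  have hUV' : ∀ a, i ⁻¹ᵁ U a ≤ fZ ⁻¹ᵁ V := fun a => preimage_le f fZ i w (hUV a)
  letI algZ := algFam fZ (fun a => i ⁻¹ᵁ U a) hUV'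
  refine ⟨patternGroup j, fun σ hσ a => ?_, ?_⟩
  · have h1 : (SymProd.permHom f d σ⁻¹).base p = p := point_of_comap_eq P hP hst ⟨x, hx⟩ σ hσ
    refine Subtype.ext ?_
    show coord (σ a) = coord a
    conv_rhs => rw [show coord a = (WidePullback.π (fun _ : Fin d => f) a).base
      ((SymProd.permHom f d σ⁻¹).base p) by rw [h1], ← Scheme.Hom.comp_apply, SymProd.permHom_π]
    rfl
  let PB : Pair c V := boxPair U j P.ov
  have hPB : IsAffineOpen PB.O :=
    PBox.isAffineOpen_box (fun a => hUV (j a)) hV fun a => hUa (j a)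
  have hstB : Stable (patternGroup j).subtype PB.O := stable_boxPair U j P.ov
  have hstH : Stable (patternGroup j).subtype P.O := fun k => hst k
  have hpB : p ∈ PB.O := PBox.mem_pbox.2 ⟨P.le hp, fun a => hmemU (j a)⟩
  obtain ⟨Q, t, c₀, htfix, hc₀, hpt, htopen, hcopen⟩ :=
    exists_common P PB hP hPB hstH hstB p hp hpB
  have htx : t ∉ x := by
    have : (⟨x, hx⟩ : PrimeSpectrum _) ∈ PrimeSpectrum.basicOpen t := by
      rw [← hP.fromSpec_preimage_basicOpen t]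
      exact hpt
    exact this
  have eQP : Q.O ≤ P.O := htopen.le.trans (Scheme.basicOpen_le _ _)
  have eQB : Q.O ≤ PB.O := hcopen.le.trans (Scheme.basicOpen_le _ _)
  have hstQ : Stable (patternGroup j).subtype Q.O := by
    rw [htopen]; exact stable_basicOpen P hstH htfix
  obtain ⟨k, hk⟩ := TensorAct.exists_pow_smul_mem (AB := secAct heq P hstH N)
    (AC := secAct heq Q hstQ N) (AT := secAct heq PB hstB N)
    (res P Q eQP) (res' P Q eQP) (res PB Q eQB) (res' PB Q eQB)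
    (res'_algebraMap P Q eQP) (res'_algebraMap PB Q eQB)
    (res_secPerm P Q hstH hstQ eQP) (res_secPerm PB Q hstB hstQ eQB)
    (res'_secAct heq P Q hstH hstQ eQP N) (res'_secAct heq PB Q hstB hstQ eQB N)
    (fun k => htfix k) (fun k => hc₀ k) (isLocalization_res P Q hP t eQP htopen) (isLocalization_res PB Q hPB c₀ eQB hcopen)
    (isLocalization_res' P Q hP t eQP htopen) (isLocalization_res' PB Q hPB c₀ eQB hcopen)
    (fun v hv => box_span w hcπ P.ov hV heq U j hUa hUV N hN hv) (z := z) (fun h => hz h)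
  exact ⟨t ^ k, rfix_pow _ (fun k => htfix k) k, fun hm => htx (hx.mem_of_pow_mem k hm), hk⟩

end Groth.Agent.IntTh85.SymSpan
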