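import Groth.Agent.IntTh85.TwistLcm
import Groth.Agent.IntTh85.PullSec
import Groth.Agent.Lib.AmpleEmbed
import Groth.Agent.S3572

/-!
# Projective embeddings of `Proj` by a twisting sheaf
-/

set_option autoImplicit false
set_option linter.style.haveILetI false
set_option backward.isDefEq.respectTransparency false
set_option backward.isDefEq.respectTransparency.types false
set_option maxHeartbeats 800000

universe u

open CategoryTheory CategoryTheory.Limits AlgebraicGeometry TopologicalSpace Opposite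
open HomogeneousLocalization

namespace Groth.Agent.IntTh85.TwistEmbed

open Groth.Agent TwistLcm

variable {R A : Type u} [CommRing R] [CommRing A] [Algebra R A]
  {𝒜 : ℕ → Submodule R A} [GradedAlgebra 𝒜]

theorem sec_eq_smul {n : ℕ} {a t : A} (ha : a ∈ 𝒜 n) (ht : t ∈ 𝒜 n) :
    AModX.res (Twist.twist 𝒜 (n : ℤ)) (le_top : Proj.basicOpen 𝒜 t ≤ ⊤) (sec ha) =
      (Proj.awayToSection 𝒜 t).hom (Away.mk 𝒜 ht 1 a (by rwa [one_smul])) •
        AModX.res (Twist.twist 𝒜 (n : ℤ)) (le_top : Proj.basicOpen 𝒜 t ≤ ⊤) (sec ht) := by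
  refine Subtype.ext (funext fun x => Subtype.ext ?_)
  show (Localization.mk a 1 : Twist.Loc 𝒜 x.1) = _
  refine Eq.trans ?_ (Twist.coe_smul_val (n : ℤ) x.1 _ _).symm
  erw [ProjectiveSpectrum.Proj.awayToSection_apply]
  rw [Away.val_mk]
  exact ProjUPX.loc_aux _ a t x.2 _

variable (𝒜) in
/-- The structure morphism. -/
noncomputable def str : Proj 𝒜 ⟶ Spec (CommRingCat.of R) :=
  Proj.toSpecZero 𝒜 ≫ Spec.map (CommRingCat.ofHom (algebraMap R (𝒜 0)))

variable (𝒜) in
theorem str_appLE (t : A) {n : ℕ} (ht : t ∈ 𝒜 n) (hn : 0 < n) (c : R) :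
    ((str 𝒜).appLE ⊤ (Proj.basicOpen 𝒜 t) le_top).hom ((Scheme.ΓSpecIso (CommRingCat.of R)).inv.hom c) =
      (Proj.awayToSection 𝒜 t).hom (fromZeroRingHom 𝒜 _ (algebraMap R (𝒜 0) c)) := by
  let U := Proj.basicOpen 𝒜 t
  have hU : IsAffineOpen U := Proj.isAffineOpen_basicOpen 𝒜 t ht hn
  let φ : CommRingCat.of R ⟶ Γ(Proj 𝒜, U) := CommRingCat.ofHom (algebraMap R (𝒜 0)) ≫
    CommRingCat.ofHom (fromZeroRingHom 𝒜 _) ≫ Proj.awayToSection 𝒜 t
  have h1 : U.ι ≫ str 𝒜 = U.toSpecΓ ≫ Spec.map φ := by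
    have := Proj.awayι_toSpecZero 𝒜 t ht hn
    rw [← Proj.basicOpenIsoSpec_inv_ι, Category.assoc, Iso.inv_comp_eq,
      Proj.basicOpenIsoSpec_hom] at this
    show (Proj.basicOpen 𝒜 t).ι ≫ Proj.toSpecZero 𝒜 ≫ _ = _
    rw [reassoc_of% this, Proj.basicOpenToSpec, Category.assoc]
    simp only [φ, Spec.map_comp, Category.assoc]
    rfl
  have h2 : hU.fromSpec ≫ str 𝒜 = Spec.map φ := by
    rw [← hU.isoSpec_inv_ι, Category.assoc, h1, ← hU.isoSpec_hom, Iso.inv_hom_id_assoc]
  have h3 : (Scheme.ΓSpecIso (CommRingCat.of R)).inv ≫ (str 𝒜).appLE ⊤ U le_top = φ := by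
    apply Spec.map_injective
    rw [Spec.map_comp, ← Scheme.isoSpec_Spec_inv, ← IsAffineOpen.fromSpec_top,
      IsAffineOpen.SpecMap_appLE_fromSpec _ (isAffineOpen_top _) hU, h2]
  exact DFunLike.congr_fun (congrArg CommRingCat.Hom.hom h3) c

set_option maxHeartbeats 2000000 in
/-- Sections of `O(n)` whose ratios generate the coordinate rings of a standard cover give a closed
immersion into projective space. -/
theorem exists_closedImmersion [UniversallyClosed (str 𝒜)] {n : ℕ} (hn : 0 < n) {κ : Type*} [Finite κ] (b : κ → A)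
    (hb : ∀ l, b l ∈ 𝒜 n) (J : Set κ) (hJ : ∀ x : Proj 𝒜, ∃ j ∈ J, b j ∉ x.asHomogeneousIdeal)
    (hgen : ∀ j ∈ J, ∀ (m : ℕ), ∀ x ∈ 𝒜 (m * n), ∃ k : ℕ,
      x * b j ^ k ∈ Submodule.span R (Set.range b) ^ (m + k)) :
    ∃ (N : ℕ) (i : Proj 𝒜 ⟶ CohB1.ProjSpaceOver N (Spec (CommRingCat.of R))), IsClosedImmersion i ∧
      i ≫ pullback.snd (CohB1.ProjSpace.toSpec N (ULift.{u} ℤ)) (specULiftZIsTerminal.from (Spec (CommRingCat.of R))) =
        str 𝒜 ∧
      Nonempty (Twist.twist 𝒜 (n : ℤ) ≅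
        (Scheme.Modules.pullback i).obj (Twist.twistOver N (Spec (CommRingCat.of R)) 1)) := by
  classical
  haveI := Fintype.ofFinite κ
  set L := Twist.twist 𝒜 (n : ℤ) with hLdef
  -- indices: `κ` and a zero section
  obtain ⟨N, ⟨e⟩⟩ : ∃ N, Nonempty (Fin (N + 1) ≃ Option κ) := by
    obtain ⟨N, hN⟩ := Nat.exists_eq_add_one.2 (Fintype.card_pos (α := Option κ))
    exact ⟨N, ⟨((finCongr hN.symm).trans (Fintype.equivFin _).symm)⟩⟩
  let b' : Fin (N + 1) → A := fun l => (e l).elim 0 b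
  have hb' : ∀ l, b' l ∈ 𝒜 n := fun l => by
    rcases h : e l with _ | k
    · simp only [b', h]; exact zero_mem _
    · simp only [b', h]; exact hb k
  let ι : κ → Fin (N + 1) := fun k => e.symm (some k)
  have hbι : ∀ k, b' (ι k) = b k := fun k => by simp [b', ι]
  have hcov : (⨆ g : 𝒜 n, Proj.basicOpen 𝒜 (g : A)) = ⊤ := eq_top_iff.2 fun x _ => by
    obtain ⟨j, -, hj⟩ := hJ x
    exact Opens.mem_iSup.2 ⟨⟨_, hb j⟩, hj⟩
  have hL : PicF.IsInvertible L := InvX.isInvertible_of_frames fun x => by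
    obtain ⟨g, hg⟩ := Opens.mem_iSup.1 (hcov.ge (trivial : x ∈ (⊤ : (Proj 𝒜).Opens)))
    exact ⟨_, hg, _, isFrame_sec g.2 le_rfl⟩
  let s : Fin (N + 1) → ProjUP.Γm L := fun l => sec (hb' l)
  have hs : ProjUP.GeneratedBy L s := ProjUPX.generatedBy_of_frames _ fun x => by
    obtain ⟨j, -, hj⟩ := hJ x
    exact ⟨ι j, Proj.basicOpen 𝒜 (b' (ι j)), show b' (ι j) ∉ x.asHomogeneousIdeal by rw [hbι]; exact hj,
      isFrame_sec (hb' _) le_rfl⟩
  let T := specULiftZIsTerminal.from (Spec (CommRingCat.of R))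
  obtain ⟨r₀, hr₀, τ, hτ⟩ := S3572.result N (str 𝒜 ≫ T) L hL s hs
  let i : Proj 𝒜 ⟶ CohB1.ProjSpaceOver N (Spec (CommRingCat.of R)) := pullback.lift r₀ (str 𝒜) hr₀
  have hi1 : i ≫ pullback.fst (CohB1.ProjSpace.toSpec N (ULift.{u} ℤ)) T = r₀ := pullback.lift_fst _ _ _
  have hi2 : i ≫ pullback.snd (CohB1.ProjSpace.toSpec N (ULift.{u} ℤ)) T = str 𝒜 := pullback.lift_snd _ _ _
  refine ⟨N, i, ?_, hi2, ⟨τ.symm ≪≫
    (eqToIso (congrArg (fun h => (Scheme.Modules.pullback h).obj (Twist.twistProjSpace N (ULift.{u} ℤ) 1))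
      hi1.symm) ≪≫ ((Scheme.Modules.pullbackComp i (pullback.fst _ T)).app _).symm)⟩⟩
  -- the charts
  let D : Fin (N + 1) → (CohB1.ProjSpace N (ULift.{u} ℤ)).Opens := fun l =>
    Proj.basicOpen (CohB1.polyGrading N (ULift.{u} ℤ)) (MvPolynomial.X l)
  let fstP : CohB1.ProjSpaceOver N (Spec (CommRingCat.of R)) ⟶ CohB1.ProjSpace N (ULift.{u} ℤ) :=
    pullback.fst _ T
  let sndP : CohB1.ProjSpaceOver N (Spec (CommRingCat.of R)) ⟶ Spec (CommRingCat.of R) :=
    pullback.snd _ T
  let D' : Fin (N + 1) → (CohB1.ProjSpaceOver N (Spec (CommRingCat.of R))).Opens := fun l => fstP ⁻¹ᵁ D l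
  have hτs : ∀ l, τ.hom.app ⊤ (ProjUP.pullSec r₀ _ (ProjUP.coord N (ULift.{u} ℤ) l)) = sec (hb' l) := hτ
  have hpre0 : ∀ l, r₀ ⁻¹ᵁ D l = Proj.basicOpen 𝒜 (b' l) := fun l =>
    (AmpleEmbed.preimage_chart r₀ τ l (hτs l)).trans (genLocus_sec hcov (hb' l))
  have hpre : ∀ l, i ⁻¹ᵁ D' l = Proj.basicOpen 𝒜 (b' l) := fun l => by
    show i ⁻¹ᵁ (fstP ⁻¹ᵁ D l) = _
    rw [← Scheme.Hom.comp_preimage, hi1, hpre0]
  have hD'aff : ∀ l, IsAffineOpen (D' l) := fun l =>
    PullSec.isAffineOpen_pullback (H := IsPullback.of_hasPullback (CohB1.ProjSpace.toSpec N (ULift.{u} ℤ)) T)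
      (US := ⊤) (UX := D l) (UT := ⊤) le_top le_top (by simp [D', fstP]) (isAffineOpen_top _)
      (isAffineOpen_top _) (Proj.isAffineOpen_basicOpen _ _ (ProjPt.X_mem l) one_pos)
  have hloc : ∀ j ∈ J, IsClosedImmersion (i ∣_ D' (ι j)) := by
    intro j hj
    set l₀ := ι j with hl₀
    set U := Proj.basicOpen 𝒜 (b' l₀) with hU
    haveI : IsAffine (D' l₀ : Scheme) := hD'aff l₀
    haveI : IsAffine (i ⁻¹ᵁ D' l₀ : Scheme) := by
      rw [hpre]; exact Proj.isAffineOpen_basicOpen 𝒜 _ (hb' l₀) hn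
    let S' : Subring (Away 𝒜 (b' l₀)) :=
      ((i.appLE (D' l₀) U (hpre l₀).ge).hom.range).comap (Proj.awayToSection 𝒜 (b' l₀)).hom
    -- scalars
    have hscal : ∀ c : R, fromZeroRingHom 𝒜 _ (algebraMap R (𝒜 0) c) ∈ S' := by
      intro c
      refine ⟨(sndP.appLE ⊤ (D' l₀) le_top).hom ((Scheme.ΓSpecIso (CommRingCat.of R)).inv.hom c), ?_⟩
      refine Eq.trans ?_ (str_appLE 𝒜 (b' l₀) (hb' l₀) hn c)
      show (sndP.appLE ⊤ (D' l₀) le_top ≫ i.appLE (D' l₀) U (hpre l₀).ge).hom _ = _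
      rw [Scheme.Hom.appLE_comp_appLE]
      simp only [sndP, hi2]
      rfl
    -- ratios
    have hrat : ∀ l, Away.mk 𝒜 (hb' l₀) 1 (b' l) (by rw [one_smul]; exact hb' l) ∈ S' := by
      intro l
      refine ⟨(fstP.appLE (D l₀) (D' l₀) le_rfl).hom
        ((Proj.awayToSection (CohB1.polyGrading N (ULift.{u} ℤ)) (MvPolynomial.X l₀)).hom
          (Away.mk (CohB1.polyGrading N (ULift.{u} ℤ)) (ProjPt.X_mem _) 1 (MvPolynomial.X l)
            (by rw [one_smul]; exact ProjPt.X_mem _))), ?_⟩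
      show (fstP.appLE (D l₀) (D' l₀) le_rfl ≫ i.appLE (D' l₀) U (hpre l₀).ge).hom _ = _
      rw [Scheme.Hom.appLE_comp_appLE]
      simp only [fstP, hi1]
      exact AmpleEmbed.ratioOf_eq r₀ τ l₀ l (hτs l₀) (hτs l) (hpre0 l₀).ge _
        (sec_eq_smul (hb' l) (hb' l₀))
    let Φ : A →+* Localization.Away (b' l₀) := algebraMap A _
    -- degree-wise membership
    have key : ∀ (M : ℕ) (y : A), y ∈ Submodule.span R (Set.range b) ^ M →
        ∃ hy : y ∈ 𝒜 (M • n), Away.mk 𝒜 (hb' l₀) M y hy ∈ S' := by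
      intro M
      induction M with
      | zero =>
        intro y hy
        rw [pow_zero, Submodule.one_eq_range] at hy
        obtain ⟨c, rfl⟩ := hy
        refine ⟨by rw [zero_smul]; exact SetLike.algebraMap_mem_graded 𝒜 c, ?_⟩
        convert hscal c using 1
        apply HomogeneousLocalization.val_injective
        rw [Away.val_mk, show (fromZeroRingHom 𝒜 (Submonoid.powers (b' l₀)) (algebraMap R (𝒜 0) c)).val =
          Localization.mk (algebraMap R A c) 1 from rfl]
        congr 1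
        exact Subtype.ext (pow_zero _)
      | succ M ih =>
        intro y hy
        rw [pow_succ] at hy
        refine Submodule.mul_induction_on (C := fun y => ∃ hy : y ∈ 𝒜 ((M + 1) • n),
          Away.mk 𝒜 (hb' l₀) (M + 1) y hy ∈ S') hy (fun u hu v hv => ?_) (fun x z hx hz => ?_)
        ·
          obtain ⟨hum, huS⟩ := ih u hu
          have hvm : ∃ hv : v ∈ 𝒜 n, Away.mk 𝒜 (hb' l₀) 1 v (by rwa [one_smul]) ∈ S' := by
            induction hv using Submodule.span_induction with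
            | mem x hx =>
              obtain ⟨k, rfl⟩ := hx
              refine ⟨hb k, ?_⟩
              convert hrat (ι k) using 2
              exact (hbι k).symm
            | zero =>
              refine ⟨zero_mem _, ?_⟩
              convert zero_mem S'
              apply HomogeneousLocalization.val_injective
              rw [Away.val_mk, HomogeneousLocalization.val_zero, Localization.mk_zero]
            | add x z _ _ hx hz =>
              obtain ⟨hx1, hx2⟩ := hx
              obtain ⟨hz1, hz2⟩ := hz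
              refine ⟨add_mem hx1 hz1, ?_⟩
              convert add_mem hx2 hz2
              apply HomogeneousLocalization.val_injective
              rw [HomogeneousLocalization.val_add, Away.val_mk, Away.val_mk, Away.val_mk,
                Localization.add_mk_self]
            | smul c x _ hx =>
              obtain ⟨hx1, hx2⟩ := hx
              refine ⟨Submodule.smul_mem _ c hx1, ?_⟩
              convert mul_mem (hscal c) hx2
              apply HomogeneousLocalization.val_injective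
              rw [HomogeneousLocalization.val_mul, Away.val_mk, Away.val_mk,
                show (fromZeroRingHom 𝒜 (Submonoid.powers (b' l₀)) (algebraMap R (𝒜 0) c)).val =
                  Localization.mk (algebraMap R A c) 1 from rfl,
                Localization.mk_mul, one_mul, Algebra.smul_def]
          obtain ⟨hvn, hvS⟩ := hvm
          refine ⟨by rw [succ_nsmul]; exact SetLike.mul_mem_graded hum hvn, ?_⟩
          convert mul_mem huS hvS
          apply HomogeneousLocalization.val_injective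
          rw [HomogeneousLocalization.val_mul, Away.val_mk, Away.val_mk, Away.val_mk,
            Localization.mk_mul]
          congr 1
          exact Subtype.ext (by simp [pow_succ])
        · obtain ⟨hx1, hx2⟩ := hx
          obtain ⟨hz1, hz2⟩ := hz
          refine ⟨add_mem hx1 hz1, ?_⟩
          convert add_mem hx2 hz2
          apply HomogeneousLocalization.val_injective
          rw [HomogeneousLocalization.val_add, Away.val_mk, Away.val_mk, Away.val_mk,
            Localization.add_mk_self]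
    have htop : ∀ z : Away 𝒜 (b' l₀), z ∈ S' := by
      intro z
      obtain ⟨m, x, hx, rfl⟩ := Away.mk_surjective 𝒜 (hb' l₀) z
      obtain ⟨k, hk⟩ := hgen j hj m x (by rwa [smul_eq_mul] at hx)
      obtain ⟨hy, hyS⟩ := key (m + k) _ hk
      convert hyS using 1
      apply HomogeneousLocalization.val_injective
      rw [Away.val_mk, Away.val_mk, Localization.mk_eq_mk_iff, Localization.r_iff_exists]
      refine ⟨1, ?_⟩
      simp only [OneMemClass.coe_one, one_mul, hl₀, hbι, pow_add]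
      ring
    refine IsClosedImmersion.of_surjective_of_isAffine _ ?_
    have hsurj : Function.Surjective (i.appLE (D' l₀) U (hpre l₀).ge) := by
      intro z
      obtain ⟨w, hw⟩ := (ConcreteCategory.bijective_of_isIso
        (Proj.basicOpenIsoAway 𝒜 (b' l₀) (hb' l₀) hn).hom).2 z
      obtain ⟨y, hy⟩ := htop w
      exact ⟨y, hy.trans hw⟩
    intro z
    rw [morphismRestrict_appTop]
    obtain ⟨y, hy⟩ := hsurj ((Proj 𝒜).presheaf.map (eqToHom (hpre l₀).symm).op
      ((i ⁻¹ᵁ D' l₀).topIso.hom z))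
    refine ⟨(D' l₀).topIso.inv y, (ConcreteCategory.bijective_of_isIso (i ⁻¹ᵁ D' l₀).topIso.hom).1 ?_⟩
    apply (ConcreteCategory.bijective_of_isIso ((Proj 𝒜).presheaf.map (eqToHom (hpre l₀).symm).op)).1
    rw [← hy]
    simp only [← CommRingCat.comp_apply]
    congr 2
    simp only [Scheme.Hom.appLE, Scheme.Opens.topIso, Category.assoc]
    simp [← Functor.map_comp]
    rw [i.naturality_assoc, ← Functor.map_comp]
    rfl
  -- the range is closed
  haveI : UniversallyClosed i := by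
    haveI : UniversallyClosed (i ≫ sndP) := by simp only [sndP, hi2]; infer_instance
    haveI : IsSeparated sndP := by
      haveI := PnCoh.Chow.isProper_toSpec N (ULift.{u} ℤ)
      exact MorphismProperty.pullback_snd _ _ inferInstance
    exact UniversallyClosed.of_comp_of_isSeparated i sndP
  let E : (CohB1.ProjSpaceOver N (Spec (CommRingCat.of R))).Opens :=
    ⟨(Set.range i)ᶜ, i.isClosedMap.isClosed_range.isOpen_compl⟩
  have hE : IsClosedImmersion (i ∣_ E) := by
    haveI : IsEmpty (i ⁻¹ᵁ E : Scheme) := ⟨fun x => x.2 ⟨x.1, rfl⟩⟩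
    infer_instance
  refine IsZariskiLocalAtTarget.of_iSup_eq_top (P := @IsClosedImmersion)
    (fun o : Option J => o.elim E (fun j => D' (ι j.1))) ?_ ?_
  · refine top_le_iff.1 fun y _ => ?_
    by_cases hy : y ∈ Set.range i
    · obtain ⟨x, rfl⟩ := hy
      obtain ⟨j, hjJ, hj⟩ := hJ x
      refine Opens.mem_iSup.2 ⟨some ⟨j, hjJ⟩, (hpre (ι j)).ge ?_⟩
      show b' (ι j) ∉ x.asHomogeneousIdeal
      rw [hbι]; exact hj
    · exact Opens.mem_iSup.2 ⟨none, hy⟩
  · rintro (_ | j)
    · exact hE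
    · exact hloc j.1 j.2

/-- The structure morphism is proper for generators in positive degrees. -/
theorem isProper_str {s : ℕ} {f : Fin s → A} {deg : Fin s → ℕ} (hdeg : ∀ i, 0 < deg i)
    (hf : ∀ i, f i ∈ 𝒜 (deg i)) (hgen : Algebra.adjoin R (Set.range f) = ⊤) : IsProper (str 𝒜) := by
  classical
  haveI : Algebra.FiniteType R A := ⟨⟨Finset.univ.image f, by simpa using hgen⟩⟩
  haveI : IsScalarTower R (𝒜 0) A := ⟨fun r a b => smul_mul_assoc r (a : A) b⟩
  haveI : Algebra.FiniteType (𝒜 0) A := Algebra.FiniteType.of_restrictScalars_finiteType R (𝒜 0) A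
  have hsurj : Function.Surjective (algebraMap R (𝒜 0)) := by
    rintro ⟨a, ha⟩
    obtain ⟨t, c, ht, hsum⟩ := exists_monomial_sum hf hgen ha
    refine ⟨∑ e ∈ t, c e, Subtype.ext ?_⟩
    show algebraMap R A (∑ e ∈ t, c e) = a
    rw [hsum, map_sum]
    refine Finset.sum_congr rfl fun e he => ?_
    have h0 : ∀ k, e k = 0 := fun k => by
      have h1 := (Finset.sum_eq_zero_iff.1 (ht e he)) k (Finset.mem_univ k)
      exact (Nat.mul_eq_zero.1 h1).resolve_right (hdeg k).ne'
    simp [h0]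
  haveI : IsClosedImmersion (Spec.map (CommRingCat.ofHom (algebraMap R (𝒜 0)))) :=
    IsClosedImmersion.spec_of_surjective _ hsurj
  unfold str
  infer_instance

end Groth.Agent.IntTh85.TwistEmbed
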