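import Groth.Agent.IntTh85.TwistEmbed

/-!
# Generation of Veronese subrings
-/

set_option autoImplicit false
set_option linter.style.haveILetI false

universe u

open CategoryTheory AlgebraicGeometry TopologicalSpace

namespace Groth.Agent.IntTh85.TwistGen

open Groth.Agent TwistLcm

variable {R A : Type u} [CommRing R] [CommRing A] [Algebra R A]
  {𝒜 : ℕ → Submodule R A} [GradedAlgebra 𝒜] {s : ℕ} {f : Fin s → A} {deg : Fin s → ℕ}

theorem exists_le_sum_eq (q : Fin s → ℕ) : ∀ a, a ≤ ∑ k, q k → ∃ q' : Fin s → ℕ, (∀ k, q' k ≤ q k) ∧ ∑ k, q' k = a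
  | 0, _ => ⟨0, fun _ => Nat.zero_le _, by simp⟩
  | a + 1, h => by
    obtain ⟨q', hq', hs⟩ := exists_le_sum_eq q a (Nat.le_of_succ_le h)
    obtain ⟨k, hk⟩ : ∃ k, q' k < q k := by
      by_contra! H
      have h' := Finset.sum_le_sum fun k (_ : k ∈ Finset.univ) => H k
      omega
    refine ⟨fun j => q' j + if j = k then 1 else 0, fun j => ?_, ?_⟩
    · by_cases hj : j = k
      · subst hj; simp only [if_pos]; omega
      · simp only [if_neg hj, add_zero]; exact hq' j
    · simp [Finset.sum_add_distrib, hs]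

/-- Exponents of degree `(m+2) a l` split off a part of degree `a l`. -/
theorem exists_split (hdeg : ∀ i, 0 < deg i) (a m : ℕ) (has : s - 1 ≤ a) (e : Fin s → ℕ)
    (he : ∑ k, e k * deg k = (m + 2) * (a * Finset.univ.lcm deg)) :
    ∃ e' : Fin s → ℕ, (∀ k, e' k ≤ e k) ∧ ∑ k, e' k * deg k = a * Finset.univ.lcm deg := by
  classical
  set l := Finset.univ.lcm deg with hl
  have hlpos : 0 < l := Nat.pos_of_ne_zero (Finset.lcm_ne_zero_iff.2 fun k _ => (hdeg k).ne')
  let L : Fin s → ℕ := fun k => l / deg k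
  have hL : ∀ k, L k * deg k = l := fun k => Nat.div_mul_cancel (Finset.dvd_lcm (Finset.mem_univ k))
  let q : Fin s → ℕ := fun k => e k / L k
  let ρ : Fin s → ℕ := fun k => e k % L k
  have hsplit : ∑ k, e k * deg k = (∑ k, ρ k * deg k) + (∑ k, q k) * l := by
    rw [Finset.sum_mul, ← Finset.sum_add_distrib]
    refine Finset.sum_congr rfl fun k _ => ?_
    rw [← hL k, ← mul_assoc, ← add_mul]
    congr 1
    exact (Nat.mod_add_div' (e k) (L k)).symm
  have hρ : (∑ k, ρ k * deg k) ≤ s * (l - 1) := by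
    refine (Finset.sum_le_card_nsmul _ _ (l - 1) fun k _ => ?_).trans (by simp)
    have hLpos : 0 < L k := by
      rcases Nat.eq_zero_or_pos (L k) with h | h
      · have := hL k; rw [h, zero_mul] at this; omega
      · exact h
    have h1 : ρ k * deg k < L k * deg k := Nat.mul_lt_mul_of_pos_right (Nat.mod_lt _ hLpos) (hdeg k)
    rw [hL k] at h1
    omega
  have hq : a ≤ ∑ k, q k := by
    by_contra! hlt
    have h1 : (∑ k, q k + 1) * l ≤ a * l := Nat.mul_le_mul_right _ hlt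
    have h2 : s * (l - 1) ≤ (a + 1) * (l - 1) := Nat.mul_le_mul_right _ (by omega)
    have h3 : (m + 2) * (a * l) = m * (a * l) + 2 * (a * l) := add_mul _ _ _
    have h4 : (a + 1) * (l - 1) + (a + 1) = (a + 1) * l := by
      rw [← Nat.mul_succ, Nat.succ_eq_add_one, Nat.sub_add_cancel hlpos]
    rw [add_mul, one_mul] at h1
    rw [add_mul a 1 l, one_mul] at h4
    have h5 : 0 ≤ m * (a * l) := Nat.zero_le _
    omega
  obtain ⟨q', hq', hsum⟩ := exists_le_sum_eq q a hq
  refine ⟨fun k => q' k * L k, fun k => (Nat.mul_le_mul_right _ (hq' k)).trans (Nat.div_mul_le_self _ _), ?_⟩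
  rw [← hsum, Finset.sum_mul]
  exact Finset.sum_congr rfl fun k _ => by rw [mul_assoc, hL k]

/-- The monomials of degree `n`. -/
def monos (deg : Fin s → ℕ) (n : ℕ) : Finset (Fin s → ℕ) :=
  (Fintype.piFinset fun _ => Finset.range (n + 1)).filter fun e => ∑ k, e k * deg k = n

theorem mem_monos (hdeg : ∀ i, 0 < deg i) {n : ℕ} {e : Fin s → ℕ} (he : ∑ k, e k * deg k = n) :
    e ∈ monos deg n := by
  refine Finset.mem_filter.2 ⟨Fintype.mem_piFinset.2 fun k => Finset.mem_range.2 ?_, he⟩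
  have h1 : e k * deg k ≤ n := he ▸ Finset.single_le_sum (f := fun k => e k * deg k) (fun _ _ => Nat.zero_le _) (Finset.mem_univ k)
  have h2 : e k ≤ e k * deg k := Nat.le_mul_of_pos_right _ (hdeg k)
  omega

theorem mono_mem (hf : ∀ i, f i ∈ 𝒜 (deg i)) (e : Fin s → ℕ) :
    ∏ k, f k ^ e k ∈ 𝒜 (∑ k, e k * deg k) :=
  SetLike.prod_mem_graded (A := 𝒜) (fun k => e k * deg k) (fun k => f k ^ e k) fun k _ => by
    simpa [smul_eq_mul] using SetLike.pow_mem_graded (e k) (hf k)

omit [GradedAlgebra 𝒜] in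
theorem mono_mem_span_pow (hdeg : ∀ i, 0 < deg i) (a : ℕ) (has : s - 1 ≤ a) :
    ∀ (m : ℕ) (e : Fin s → ℕ), ∑ k, e k * deg k = (m + 1) * (a * Finset.univ.lcm deg) →
      (∏ k, f k ^ e k) ∈ Submodule.span R
        (Set.range fun e : monos deg (a * Finset.univ.lcm deg) => ∏ k, f k ^ e.1 k) ^ (m + 1)
  | 0, e, he => by
    rw [zero_add, one_mul] at he
    rw [zero_add, pow_one]
    exact Submodule.subset_span ⟨⟨e, mem_monos hdeg he⟩, rfl⟩
  | m + 1, e, he => by
    obtain ⟨e', hle, he'⟩ := exists_split hdeg a m has e he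
    have hsplit : ∏ k, f k ^ e k = (∏ k, f k ^ (e k - e' k)) * ∏ k, f k ^ e' k := by
      rw [← Finset.prod_mul_distrib]
      exact Finset.prod_congr rfl fun k _ => by rw [← pow_add, Nat.sub_add_cancel (hle k)]
    have hrest : ∑ k, (e k - e' k) * deg k = (m + 1) * (a * Finset.univ.lcm deg) := by
      have h1 : ∑ k, e k * deg k = ∑ k, (e k - e' k) * deg k + ∑ k, e' k * deg k := by
        rw [← Finset.sum_add_distrib]
        exact Finset.sum_congr rfl fun k _ => by rw [← add_mul, Nat.sub_add_cancel (hle k)]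
      rw [he, he', show (m + 1 + 1) * (a * Finset.univ.lcm deg) =
        (m + 1) * (a * Finset.univ.lcm deg) + a * Finset.univ.lcm deg from Nat.succ_mul _ _] at h1
      omega
    rw [hsplit, pow_succ]
    exact Submodule.mul_mem_mul (mono_mem_span_pow hdeg a has m _ hrest)
      (Submodule.subset_span ⟨⟨e', mem_monos hdeg he'⟩, rfl⟩)

theorem exists_closedImmersion_lcm (hdeg : ∀ i, 0 < deg i) (hf : ∀ i, f i ∈ 𝒜 (deg i))
    (hgen : Algebra.adjoin R (Set.range f) = ⊤) (a : ℕ) (ha : 0 < a) (has : s - 1 ≤ a) :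
    ∃ (N : ℕ) (i : Proj 𝒜 ⟶ CohB1.ProjSpaceOver N (Spec (CommRingCat.of R))), IsClosedImmersion i ∧
      i ≫ Limits.pullback.snd (CohB1.ProjSpace.toSpec N (ULift.{u} ℤ)) (specULiftZIsTerminal.from (Spec (CommRingCat.of R))) =
        TwistEmbed.str 𝒜 ∧
      Nonempty (Twist.twist 𝒜 ((a * Finset.univ.lcm deg : ℕ) : ℤ) ≅
        (Scheme.Modules.pullback i).obj (Twist.twistOver N (Spec (CommRingCat.of R)) 1)) := by
  classical
  haveI := TwistEmbed.isProper_str hdeg hf hgen
  set n := a * Finset.univ.lcm deg with hn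
  have hnpos : 0 < n :=
    Nat.mul_pos ha (Nat.pos_of_ne_zero (Finset.lcm_ne_zero_iff.2 fun k _ => (hdeg k).ne'))
  refine TwistEmbed.exists_closedImmersion hnpos (fun e : monos deg n => ∏ k, f k ^ e.1 k)
    (fun e => ?_) Set.univ (fun x => ?_) fun j _ m x hx => ⟨0, ?_⟩
  · convert mono_mem hf e.1
    exact ((Finset.mem_filter.1 e.2).2).symm
  · obtain ⟨i, hi⟩ := exists_notMem hdeg hf hgen x
    refine ⟨⟨fun k => if k = i then n / deg i else 0, mem_monos hdeg ?_⟩, trivial, ?_⟩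
    · simp only [ite_mul, zero_mul, Finset.sum_ite_eq', Finset.mem_univ, if_true]
      exact Nat.div_mul_cancel (dvd_lcm a i)
    · show (∏ k, f k ^ (if k = i then n / deg i else 0)) ∉ _
      simp only [pow_ite, pow_zero, Finset.prod_ite_eq', Finset.mem_univ, if_true]
      exact TwistX.notMem_pow hi _
  · rw [pow_zero, mul_one, add_zero]
    obtain ⟨t, c, ht, hsum⟩ := exists_monomial_sum hf hgen hx
    rw [hsum]
    refine sum_mem fun e he => ?_
    rw [← Algebra.smul_def]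
    refine Submodule.smul_mem _ _ ?_
    cases m with
    | zero =>
      rw [pow_zero, Submodule.one_eq_range]
      refine ⟨1, ?_⟩
      have h0 : ∀ k, e k = 0 := fun k => by
        have h1 := (Finset.sum_eq_zero_iff.1 ((ht e he).trans (zero_mul n))) k (Finset.mem_univ k)
        exact (Nat.mul_eq_zero.1 h1).resolve_right (hdeg k).ne'
      simp [h0]
    | succ m => exact mono_mem_span_pow hdeg a has m _ (ht e he)

/-- Covered in degree one, generated in degrees at most `d ≤ n`. -/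
theorem exists_closedImmersion_covered (d : ℕ)
    (hgen : Algebra.adjoin R (⋃ i ∈ Finset.Icc 1 d, (𝒜 i : Set A)) = ⊤)
    (hcov : (⨆ g : 𝒜 1, Proj.basicOpen 𝒜 (g : A)) = ⊤) [Algebra.FiniteType R A] (n : ℕ) (hn : d ≤ n)
    (hn1 : 0 < n) :
    ∃ (N : ℕ) (i : Proj 𝒜 ⟶ CohB1.ProjSpaceOver N (Spec (CommRingCat.of R))), IsClosedImmersion i ∧
      i ≫ Limits.pullback.snd (CohB1.ProjSpace.toSpec N (ULift.{u} ℤ)) (specULiftZIsTerminal.from (Spec (CommRingCat.of R))) =
        TwistEmbed.str 𝒜 ∧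
      Nonempty (Twist.twist 𝒜 (n : ℤ) ≅
        (Scheme.Modules.pullback i).obj (Twist.twistOver N (Spec (CommRingCat.of R)) 1)) := by
  classical
  obtain ⟨G, hG⟩ := (inferInstance : Algebra.FiniteType R A).out
  -- finitely many homogeneous generators
  have hfin : ∀ y ∈ Algebra.adjoin R (⋃ i ∈ Finset.Icc 1 d, (𝒜 i : Set A)),
      ∃ T : Finset A, (T : Set A) ⊆ ⋃ i ∈ Finset.Icc 1 d, (𝒜 i : Set A) ∧ y ∈ Algebra.adjoin R (T : Set A) := by
    intro y hy
    induction hy using Algebra.adjoin_induction with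
    | mem y hy => exact ⟨{y}, by simpa using hy, Algebra.subset_adjoin (by simp)⟩
    | algebraMap r => exact ⟨∅, by simp, Subalgebra.algebraMap_mem _ r⟩
    | add y z _ _ hy hz =>
      obtain ⟨T, hT, hy⟩ := hy
      obtain ⟨U, hU, hz⟩ := hz
      exact ⟨T ∪ U, by simpa using Set.union_subset hT hU, add_mem
        (Algebra.adjoin_mono (by simp) hy) (Algebra.adjoin_mono (by simp) hz)⟩
    | mul y z _ _ hy hz =>
      obtain ⟨T, hT, hy⟩ := hy
      obtain ⟨U, hU, hz⟩ := hz
      exact ⟨T ∪ U, by simpa using Set.union_subset hT hU, mul_mem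
        (Algebra.adjoin_mono (by simp) hy) (Algebra.adjoin_mono (by simp) hz)⟩
  choose! T hT hTy using fun y (_ : y ∈ G) => hfin y (hgen ▸ Algebra.mem_top)
  let H : Finset A := G.biUnion T
  have hHgen : Algebra.adjoin R (H : Set A) = ⊤ := by
    rw [eq_top_iff, ← hG, Algebra.adjoin_le_iff]
    exact fun y hy => Algebra.adjoin_mono (by
      intro z hz; exact Finset.mem_biUnion.2 ⟨y, hy, hz⟩) (hTy y hy)
  have hHdeg : ∀ h : H, ∃ i, i ∈ Finset.Icc 1 d ∧ (h : A) ∈ 𝒜 i := fun h => by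
    obtain ⟨y, hy, hh⟩ := Finset.mem_biUnion.1 h.2
    simpa using hT y hy hh
  choose D hD hDh using hHdeg
  let E : Fin (Fintype.card H) ≃ H := (Fintype.equivFin H).symm
  let f : Fin (Fintype.card H) → A := fun k => (E k).1
  let deg : Fin (Fintype.card H) → ℕ := fun k => D (E k)
  have hdeg : ∀ k, 0 < deg k := fun k => (Finset.mem_Icc.1 (hD (E k))).1
  have hdn : ∀ k, deg k ≤ n := fun k => (Finset.mem_Icc.1 (hD (E k))).2.trans hn
  have hf : ∀ k, f k ∈ 𝒜 (deg k) := fun k => hDh (E k)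
  have hfgen : Algebra.adjoin R (Set.range f) = ⊤ := by
    rw [← hHgen]
    congr 1
    ext z
    exact ⟨fun ⟨k, hk⟩ => hk ▸ (E k).2, fun hz => ⟨E.symm ⟨z, hz⟩, by simp [f]⟩⟩
  haveI := compactSpace_proj hdeg hf hfgen
  haveI := TwistEmbed.isProper_str hdeg hf hfgen
  -- a finite cover
  obtain ⟨J, hJ⟩ := isCompact_univ.elim_finite_subcover (fun g : 𝒜 1 => (Proj.basicOpen 𝒜 (g : A) : Set (Proj 𝒜)))
    (fun g => (Proj.basicOpen 𝒜 (g : A)).isOpen) fun x _ => by
      obtain ⟨g, hg⟩ := Opens.mem_iSup.1 (hcov.ge (trivial : x ∈ (⊤ : (Proj 𝒜).Opens)))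
      exact Set.mem_iUnion.2 ⟨g, hg⟩
  let b : J ⊕ (J × Fin (Fintype.card H)) → A :=
    Sum.elim (fun g => (g.1 : A) ^ n) fun p => f p.2 * (p.1.1 : A) ^ (n - deg p.2)
  have hg1 : ∀ (g : J) (j : ℕ), (g.1 : A) ^ j ∈ 𝒜 j := fun g j => by
    simpa using SetLike.pow_mem_graded j g.1.2
  have hb : ∀ p, b p ∈ 𝒜 n := by
    rintro (g | ⟨g, k⟩)
    · exact hg1 g n
    · have := SetLike.mul_mem_graded (hf k) (hg1 g (n - deg k))
      rwa [Nat.add_sub_cancel' (hdn k)] at this
  refine TwistEmbed.exists_closedImmersion hn1 b hb (Set.range Sum.inl) (fun x => ?_) ?_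
  · obtain ⟨g, hgJ, hg⟩ := Set.mem_iUnion₂.1 (hJ (Set.mem_univ x))
    exact ⟨Sum.inl ⟨g, hgJ⟩, ⟨_, rfl⟩, TwistX.notMem_pow (show (g : A) ∉ x.asHomogeneousIdeal from hg) _⟩
  rintro _ ⟨g, rfl⟩ m x hx
  obtain ⟨t, c, ht, hsum⟩ := exists_monomial_sum hf hfgen hx
  set S := Submodule.span R (Set.range b) with hS
  have hgS : (g.1 : A) ^ n ∈ S := Submodule.subset_span ⟨Sum.inl g, rfl⟩
  refine ⟨t.sup (fun e => (∑ k, e k) - m), ?_⟩
  show x * ((g.1 : A) ^ n) ^ _ ∈ _
  rw [hsum, Finset.sum_mul]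
  refine sum_mem fun e he => ?_
  rw [← Algebra.smul_def, smul_mul_assoc]
  refine Submodule.smul_mem _ _ ?_
  set K := ∑ k, e k with hK
  set Q := t.sup (fun e => (∑ k, e k) - m)
  have hKm : m ≤ K := by
    by_contra! hlt
    have h1 : m * n ≤ K * n := by
      rw [← ht e he, hK, Finset.sum_mul]
      exact Finset.sum_le_sum fun k _ => Nat.mul_le_mul_left _ (hdn k)
    exact absurd (Nat.le_of_mul_le_mul_right h1 hn1) hlt.not_ge
  have hQ : K - m ≤ Q := Finset.le_sup (f := fun e => (∑ k, e k) - m) he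
  have hprod : (∏ k, f k ^ e k) * ((g.1 : A) ^ n) ^ (K - m) =
      ∏ k, (f k * (g.1 : A) ^ (n - deg k)) ^ e k := by
    simp only [mul_pow, Finset.prod_mul_distrib, ← pow_mul, Finset.prod_pow_eq_pow_sum]
    congr 2
    have h1 : ∑ k, (n - deg k) * e k + m * n = K * n := by
      rw [← ht e he, hK, Finset.sum_mul, ← Finset.sum_add_distrib]
      refine Finset.sum_congr rfl fun k _ => ?_
      rw [mul_comm (n - deg k), ← mul_add, Nat.sub_add_cancel (hdn k)]
    rw [Nat.mul_sub, mul_comm n K, mul_comm n m]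
    omega
  have hmem : ∏ k, (f k * (g.1 : A) ^ (n - deg k)) ^ e k ∈ S ^ K := by
    rw [hK]
    generalize (Finset.univ : Finset (Fin (Fintype.card H))) = u
    induction u using Finset.induction_on with
    | empty =>
      simp only [Finset.prod_empty, Finset.sum_empty, pow_zero]
      exact Submodule.one_le.mp le_rfl
    | insert k u hk ih =>
      rw [Finset.prod_insert hk, Finset.sum_insert hk, pow_add]
      exact Submodule.mul_mem_mul (Submodule.pow_mem_pow S
        (Submodule.subset_span ⟨Sum.inr (g, k), rfl⟩) _) ih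
  rw [show m + Q = K + (Q - (K - m)) by omega, pow_add S,
    show ((g.1 : A) ^ n) ^ Q = ((g.1 : A) ^ n) ^ (K - m) * ((g.1 : A) ^ n) ^ (Q - (K - m)) by
      rw [← pow_add, Nat.add_sub_cancel' hQ], ← mul_assoc, hprod]
  exact Submodule.mul_mem_mul hmem (Submodule.pow_mem_pow S hgS _)

end Groth.Agent.IntTh85.TwistGen
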