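import Groth.Prelude.Def_CAlg2
import Groth.Prelude.Def_EGA43
import Mathlib.RingTheory.Polynomial.IsIntegral
import Mathlib.RingTheory.Ideal.GoingUp
import Mathlib.RingTheory.Spectrum.Prime.Topology
import Mathlib.RingTheory.Localization.Integral
import Mathlib.RingTheory.Localization.LocalizationLocalization
import Mathlib.RingTheory.Localization.AtPrime.Basic
import Mathlib.FieldTheory.IsAlgClosed.AlgebraicClosure
import Mathlib.FieldTheory.Minpoly.Field

/-!
# Integral extensions are open over unibranch points (EGA IV 14.4.1.2), no finiteness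

For domains `A ⊆ B`, `B` integral over `A`, and a prime `q` of `B` over a point `p` at which `A` is
unibranch, every neighbourhood of `q` has image a neighbourhood of `p`.
-/

set_option autoImplicit false
set_option linter.style.haveILetI false

open Polynomial Topology

namespace Groth.Agent.IntTh85.UnibOpen

universe u

/-- A prime extends along `φ` if every element of the target has a multiple in the image by some
element outside it. -/
theorem exists_prime_over_of_den {R S : Type u} [CommRing R] [CommRing S] (φ : R →+* S)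
    (hφ : Function.Injective φ) (Q : Ideal R) [Q.IsPrime]
    (hden : ∀ x : S, ∃ m, m ∉ Q ∧ φ m * x ∈ φ.range) :
    ∃ Q' : Ideal S, Q'.IsPrime ∧ Q'.comap φ = Q := by
  refine (Ideal.comap_map_eq_self_iff_of_isPrime Q).1 (le_antisymm ?_ Ideal.le_comap_map)
  have key : ∀ x ∈ Q.map φ, ∃ m, m ∉ Q ∧ ∃ c ∈ Q, φ m * x = φ c := by
    intro x hx
    induction hx using Submodule.span_induction with
    | mem x hx =>
      obtain ⟨c, hc, rfl⟩ := hx
      exact ⟨1, fun h => Ideal.IsPrime.ne_top ‹_› ((Ideal.eq_top_iff_one _).2 h), c, hc, by simp⟩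
    | zero => exact ⟨1, fun h => Ideal.IsPrime.ne_top ‹_› ((Ideal.eq_top_iff_one _).2 h), 0, Q.zero_mem, by simp⟩
    | add x y _ _ hx hy =>
      obtain ⟨m, hm, c, hc, hmc⟩ := hx
      obtain ⟨n, hn, d, hd, hnd⟩ := hy
      refine ⟨m * n, fun h => ((‹Q.IsPrime›).mem_or_mem h).elim hm hn, n * c + m * d,
        Q.add_mem (Q.mul_mem_left _ hc) (Q.mul_mem_left _ hd), ?_⟩
      simp only [map_mul, map_add, ← hmc, ← hnd]
      ring
    | smul a x _ hx =>
      obtain ⟨m, hm, c, hc, hmc⟩ := hx
      obtain ⟨n, hn, d, hd⟩ := hden a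
      refine ⟨m * n, fun h => ((‹Q.IsPrime›).mem_or_mem h).elim hm hn, d * c, Q.mul_mem_left _ hc, ?_⟩
      simp only [map_mul, smul_eq_mul, ← hmc, hd]
      ring
  intro r hr
  obtain ⟨m, hm, c, hc, hmc⟩ := key _ hr
  rw [← map_mul] at hmc
  exact ((‹Q.IsPrime›).mem_or_mem (hφ hmc ▸ hc : m * r ∈ Q)).resolve_left hm

/-- The normalization of a domain has one prime over a unibranch point. -/
theorem eq_of_over_unibranch {A : Type u} [CommRing A] [IsDomain A] (p : Ideal A) [p.IsPrime]
    {O : Type u} [CommRing O] [IsLocalRing O] (hO : CAlg2.IsUnibranch O) [Algebra A (CAlg2.red O)]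
    [IsLocalization.AtPrime (CAlg2.red O) p] :
    ∃ (K : Type u) (_ : Field K) (_ : Algebra A K) (_ : IsFractionRing A K),
      ∀ Q₁ Q₂ : Ideal (integralClosure A K), Q₁.IsPrime → Q₂.IsPrime →
        Q₁.comap (algebraMap A (integralClosure A K)) = p →
        Q₂.comap (algebraMap A (integralClosure A K)) = p → Q₁ = Q₂ := by
  obtain ⟨hdom, hloc⟩ := hO
  haveI := hdom
  let R := CAlg2.red O
  let K := FractionRing R
  haveI : FaithfulSMul A K := (faithfulSMul_iff_algebraMap_injective _ _).2
    (by
      rw [IsScalarTower.algebraMap_eq A R K]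
      exact (IsFractionRing.injective R K).comp
        (IsLocalization.injective (M := p.primeCompl) R p.primeCompl_le_nonZeroDivisors))
  haveI : IsFractionRing A K := IsFractionRing.of_field A K fun z => by
    obtain ⟨r, r', -, rfl⟩ := IsFractionRing.div_surjective R z
    obtain ⟨⟨a, s⟩, ha⟩ := IsLocalization.surj p.primeCompl r
    obtain ⟨⟨a', s'⟩, ha'⟩ := IsLocalization.surj p.primeCompl r'
    refine ⟨a * s'.1, a' * s.1, ?_⟩
    have e : ∀ t : p.primeCompl, algebraMap R K (algebraMap A R t.1) ≠ 0 := fun t =>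
      ((IsLocalization.map_units R t).map (algebraMap R K)).ne_zero
    rw [IsScalarTower.algebraMap_apply A R K, IsScalarTower.algebraMap_apply A R K, map_mul, map_mul,
      map_mul, map_mul, ← ha, ← ha', map_mul, map_mul]
    rw [mul_assoc, mul_assoc, mul_comm (algebraMap R K (algebraMap A R s.1)),
      mul_div_mul_right _ _ (mul_ne_zero (e s') (e s))]
  refine ⟨K, inferInstance, inferInstance, inferInstance, fun Q₁ Q₂ h₁ h₂ e₁ e₂ => ?_⟩
  haveI : IsLocalRing R := IsLocalization.AtPrime.isLocalRing R p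
  haveI : IsLocalRing (CAlg2.normRed O) := hloc
  let ι : integralClosure A K →+* CAlg2.normRed O :=
    (integralClosure A K).val.toRingHom.codRestrict (integralClosure R K).toSubring fun x => x.2.tower_top
  have hι : ∀ x, ((ι x : CAlg2.normRed O) : K) = (x : K) := fun _ => rfl
  have hιi : Function.Injective ι := fun a b h => Subtype.ext (congrArg (fun x : CAlg2.normRed O => (x : K)) h)
  have key : ∀ Q : Ideal (integralClosure A K), Q.IsPrime →
      Q.comap (algebraMap A (integralClosure A K)) = p →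
      Q = (IsLocalRing.maximalIdeal (CAlg2.normRed O)).comap ι := fun Q hQ hQp => by
    obtain ⟨Q', hQ', hQ'Q⟩ := exists_prime_over_of_den ι hιi Q fun x => by
      obtain ⟨m, hm⟩ := x.2.exists_multiple_integral_of_isLocalization p.primeCompl (x : K)
      refine ⟨algebraMap A (integralClosure A K) m.1,
        fun h => m.2 (hQp.le h), ⟨(m • (x : K)), hm⟩, ?_⟩
      apply Subtype.ext
      show m • (x : K) = algebraMap A K m.1 * (x : K)
      rw [Submonoid.smul_def, Algebra.smul_def]
    haveI := hQ'
    have hmax : Q'.IsMaximal := by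
      refine Ideal.isMaximal_of_isIntegral_of_isMaximal_comap (R := R) _ ?_
      have h0 : p.map (algebraMap A R) = IsLocalRing.maximalIdeal R :=
        IsLocalization.AtPrime.map_eq_maximalIdeal p R
      have h1 : IsLocalRing.maximalIdeal R ≤ Q'.comap (algebraMap R (CAlg2.normRed O)) := by
        rw [← h0, Ideal.map_le_iff_le_comap]
        intro a ha
        show algebraMap R (CAlg2.normRed O) (algebraMap A R a) ∈ Q'
        exact hQ'Q.ge (hQp.ge ha)
      rw [← (IsLocalRing.maximalIdeal.isMaximal R).eq_of_le (Ideal.IsPrime.ne_top inferInstance) h1]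
      exact IsLocalRing.maximalIdeal.isMaximal R
    rw [← hQ'Q, IsLocalRing.eq_maximalIdeal hmax]
  rw [key Q₁ h₁ e₁, key Q₂ h₂ e₂]

set_option linter.unusedSectionVars false

variable {A B : Type u} [CommRing A] [IsDomain A] [CommRing B] [IsDomain B] [Algebra A B]
  [Algebra.IsIntegral A B]

/-- The image of a basic open neighbourhood of `q` contains a basic open neighbourhood of `p`. -/
theorem exists_basicOpen_subset_image (hinj : Function.Injective (algebraMap A B)) (q : Ideal B)
    [q.IsPrime] {K : Type u} [Field K] [Algebra A K] [IsFractionRing A K]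
    (huniq : ∀ Q₁ Q₂ : Ideal (integralClosure A K), Q₁.IsPrime → Q₂.IsPrime →
      Q₁.comap (algebraMap A (integralClosure A K)) = q.comap (algebraMap A B) →
      Q₂.comap (algebraMap A (integralClosure A K)) = q.comap (algebraMap A B) → Q₁ = Q₂)
    {g : B} (hg : g ∉ q) :
    ∃ s : A, s ∉ q.comap (algebraMap A B) ∧ ∀ P : Ideal A, P.IsPrime → s ∉ P →
      ∃ q' : Ideal B, q'.IsPrime ∧ g ∉ q' ∧ q'.comap (algebraMap A B) = P := by
  classical
  let M := FractionRing B
  have hAM : Function.Injective (algebraMap A M) := by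
    rw [IsScalarTower.algebraMap_eq A B M]
    exact (IsFractionRing.injective B M).comp hinj
  letI : Algebra K M := (IsFractionRing.lift (g := algebraMap A M) hAM : K →+* M).toAlgebra
  haveI : IsScalarTower A K M :=
    IsScalarTower.of_algebraMap_eq fun a => (IsFractionRing.lift_algebraMap hAM a).symm
  let gM : M := algebraMap B M g
  have hgA : IsIntegral A gM := (Algebra.IsIntegral.isIntegral g).map (IsScalarTower.toAlgHom A B M)
  have hgK : IsIntegral K gM := hgA.tower_top
  let Ā := integralClosure A K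
  let E := integralClosure A M
  have hlift : minpoly K gM ∈ lifts (algebraMap Ā K) := (lifts_iff_coeff_lifts _).2 fun i =>
    ⟨⟨_, isIntegral_coeff_of_dvd (minpoly A gM) (minpoly K gM) (minpoly.monic hgA) (minpoly.monic hgK)
      (minpoly.dvd_map_of_isScalarTower A K gM) i⟩, rfl⟩
  obtain ⟨π, hπ, -, hπm⟩ := lifts_and_degree_eq_and_monic hlift (minpoly.monic hgK)
  let ι : Ā →+* E := ((IsScalarTower.toAlgHom A K M).mapIntegralClosure).toRingHom
  let gE : E := ⟨gM, hgA⟩
  let Φ : Ā[X] →+* E := eval₂RingHom ι gE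
  have hΦval : ∀ Q : Ā[X], ((Φ Q : E) : M) = aeval gM (Q.map (algebraMap Ā K)) := fun Q => by
    show E.val (eval₂ ι gE Q) = _
    rw [aeval_def, eval₂_map]
    exact Polynomial.hom_eval₂ Q ι E.val.toRingHom gE
  have hπ0 : Φ π = 0 := Subtype.ext (by rw [hΦval, hπ, minpoly.aeval]; rfl)
  have hker : ∀ Q : Ā[X], Φ Q = 0 → π ∣ Q := fun Q hQ => by
    rw [← modByMonic_eq_zero_iff_dvd hπm]
    have h1 : Φ (Q %ₘ π) = 0 := by
      rw [modByMonic_eq_sub_mul_div Q π, map_sub, map_mul, hπ0, hQ, zero_mul, sub_zero]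
    have h2 : aeval gM ((Q %ₘ π).map (algebraMap Ā K)) = 0 := by rw [← hΦval, h1]; rfl
    have h3 : (Q %ₘ π).map (algebraMap Ā K) = 0 := eq_zero_of_dvd_of_degree_lt (minpoly.dvd K gM h2) (by
      rw [map_modByMonic _ hπm, hπ]
      exact degree_modByMonic_lt _ (minpoly.monic hgK))
    exact (Polynomial.map_eq_zero_iff Subtype.val_injective).1 h3
  let j : B →+* E := ((IsScalarTower.toAlgHom A B M).codRestrict (integralClosure A M)
    fun b => (Algebra.IsIntegral.isIntegral b).map (IsScalarTower.toAlgHom A B M)).toRingHom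
  have hjA : j.comp (algebraMap A B) = algebraMap A E :=
    RingHom.ext fun a => Subtype.ext (IsScalarTower.algebraMap_apply A B M a).symm
  have hιA : ι.comp (algebraMap A Ā) = algebraMap A E :=
    RingHom.ext fun a => Subtype.ext (IsScalarTower.algebraMap_apply A K M a).symm
  have hjg : j g = gE := Subtype.ext rfl
  -- a prime of `E` over `q`
  letI algBE : Algebra B E := j.toAlgebra
  haveI : IsScalarTower A B E := IsScalarTower.of_algebraMap_eq fun a => (RingHom.congr_fun hjA a).symm
  haveI : Algebra.IsIntegral A E := IsIntegralClosure.isIntegral_algebra A M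
  haveI : Algebra.IsIntegral B E := Algebra.IsIntegral.tower_top (R := A)
  have hji : Function.Injective (algebraMap B E) := fun a b h =>
    IsFractionRing.injective B M (congrArg Subtype.val h)
  obtain ⟨n, hn, hnq⟩ := Ideal.exists_ideal_over_prime_of_isIntegral_of_isDomain (S := E) q
    (by rw [(RingHom.injective_iff_ker_eq_bot _).1 hji]; exact bot_le)
  replace hnq : n.comap j = q := hnq
  haveI := hn
  -- a coefficient of the minimal polynomial outside the unique prime over `p`
  have hnp : (n.comap ι).comap (algebraMap A Ā) = q.comap (algebraMap A B) := by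
    rw [Ideal.comap_comap, hιA, ← hjA, ← Ideal.comap_comap, hnq]
  obtain ⟨i, hi, hai⟩ : ∃ i < π.natDegree, π.coeff i ∉ n.comap ι := by
    by_contra hne
    push Not at hne
    refine hg (hnq.le ?_)
    show j g ∈ n
    rw [hjg]
    refine hn.mem_of_pow_mem π.natDegree ?_
    have h1 : Φ π ∈ n := by rw [hπ0]; exact n.zero_mem
    rw [hπm.as_sum, map_add, map_pow, map_sum] at h1
    rw [show gE = Φ X from (eval₂_X _ _).symm]
    refine (n.add_mem_iff_left (n.sum_mem fun k hk => ?_)).1 h1
    rw [map_mul, show Φ (C (π.coeff k)) = ι (π.coeff k) from eval₂_C _ _]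
    exact n.mul_mem_right _ (hne k (Finset.mem_range.1 hk))
  -- the neighbourhood
  haveI : Algebra.IsIntegral A Ā := IsIntegralClosure.isIntegral_algebra A K
  have hclosed : IsClosed (PrimeSpectrum.comap (algebraMap A Ā) '' PrimeSpectrum.zeroLocus {π.coeff i}) :=
    PrimeSpectrum.isClosedMap_comap_of_isIntegral _ (algebraMap_isIntegral_iff.mpr inferInstance) _
      (PrimeSpectrum.isClosed_zeroLocus _)
  let p₀ : PrimeSpectrum A := ⟨q.comap (algebraMap A B), inferInstance⟩
  have hp₀ : p₀ ∉ PrimeSpectrum.comap (algebraMap A Ā) '' PrimeSpectrum.zeroLocus {π.coeff i} := by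
    rintro ⟨Q, hQ, hQp⟩
    refine hai ?_
    rw [← huniq Q.asIdeal (n.comap ι) Q.isPrime inferInstance (congrArg PrimeSpectrum.asIdeal hQp) hnp]
    exact hQ rfl
  obtain ⟨_, ⟨s, rfl⟩, hs, hsub⟩ := PrimeSpectrum.isTopologicalBasis_basic_opens.exists_subset_of_mem_open
    hp₀ hclosed.isOpen_compl
  refine ⟨s, hs, fun P hP hsP => ?_⟩
  -- the prime over `P`
  haveI := hP
  obtain ⟨P', hP'p, hP'⟩ := Ideal.exists_ideal_over_prime_of_isIntegral_of_isDomain (S := Ā) P (by
    rw [(RingHom.injective_iff_ker_eq_bot _).1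
      (fun a b h => IsFractionRing.injective A K (congrArg Subtype.val h))]
    exact bot_le)
  haveI := hP'p
  have haP' : π.coeff i ∉ P' := fun h => hsub (show (⟨P, hP⟩ : PrimeSpectrum A) ∈ _ from hsP)
    ⟨⟨P', hP'p⟩, fun a ha => (Set.mem_singleton_iff.1 ha) ▸ h, PrimeSpectrum.ext hP'⟩
  let k := AlgebraicClosure P'.ResidueField
  let χ : Ā →+* k := (algebraMap P'.ResidueField k).comp (algebraMap Ā P'.ResidueField)
  have hχ : RingHom.ker χ = P' := by
    rw [← RingHom.comap_ker, (RingHom.injective_iff_ker_eq_bot _).1 (algebraMap P'.ResidueField k).injective,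
      ← RingHom.ker_eq_comap_bot, Ideal.ker_algebraMap_residueField]
  obtain ⟨r, hr, hr0⟩ : ∃ r, (π.map χ).IsRoot r ∧ r ≠ 0 := by
    by_contra hne
    push Not at hne
    have hs := IsAlgClosed.splits (π.map χ)
    have hrep : (π.map χ).roots = Multiset.replicate (π.map χ).roots.card 0 :=
      Multiset.eq_replicate_card.2 fun r hr => hne r ((mem_roots (hπm.map χ).ne_zero).1 hr)
    have heq := hs.eq_prod_roots_of_monic (hπm.map χ)
    rw [hrep, Multiset.map_replicate, Multiset.prod_replicate, map_zero, sub_zero] at heq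
    have h1 := congrArg (fun Q => Polynomial.coeff Q i) heq
    simp only [coeff_map, coeff_X_pow] at h1
    refine haP' (hχ.le ?_)
    rw [RingHom.mem_ker, h1, if_neg]
    have h2 := congrArg natDegree heq
    rw [natDegree_X_pow, hπm.natDegree_map] at h2
    omega
  let φ : Ā[X] →+* k := eval₂RingHom χ r
  have hle : RingHom.ker Φ ≤ RingHom.ker φ := fun Q hQ => by
    obtain ⟨d, rfl⟩ := hker Q hQ
    rw [RingHom.mem_ker, map_mul, show φ π = 0 by
      show eval₂ χ r π = 0
      rw [← eval_map]; exact hr, zero_mul]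
  letI algΦ : Algebra Ā[X] E := Φ.toAlgebra
  haveI : IsScalarTower A Ā[X] E := IsScalarTower.of_algebraMap_eq fun a => by
    show _ = Φ (algebraMap A Ā[X] a)
    rw [IsScalarTower.algebraMap_apply A Ā Ā[X], ← C_eq_algebraMap,
      show Φ (C (algebraMap A Ā a)) = ι (algebraMap A Ā a) from eval₂_C _ _]
    exact (RingHom.congr_fun hιA a).symm
  haveI : Algebra.IsIntegral Ā[X] E := Algebra.IsIntegral.tower_top (R := A)
  haveI : (RingHom.ker φ).IsPrime := RingHom.ker_isPrime φ
  obtain ⟨q₁, hq₁, hq₁φ⟩ := Ideal.exists_ideal_over_prime_of_isIntegral_of_isDomain (S := E) (RingHom.ker φ) hle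
  replace hq₁φ : q₁.comap Φ = RingHom.ker φ := hq₁φ
  haveI := hq₁
  refine ⟨q₁.comap j, inferInstance, fun h => hr0 ?_, ?_⟩
  · have h1 : (X : Ā[X]) ∈ q₁.comap Φ := by
      show Φ X ∈ q₁
      rw [show Φ X = gE from eval₂_X _ _, ← hjg]
      exact h
    rw [hq₁φ, RingHom.mem_ker] at h1
    rwa [show φ X = r from eval₂_X _ _] at h1
  · have e : Φ.comp (C.comp (algebraMap A Ā)) = j.comp (algebraMap A B) := by
      rw [hjA, ← hιA, ← RingHom.comp_assoc]
      congr 1
      exact RingHom.ext fun a => eval₂_C _ _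
    rw [Ideal.comap_comap, ← e, ← Ideal.comap_comap, hq₁φ, RingHom.comap_ker, ← RingHom.comp_assoc,
      show φ.comp C = χ from RingHom.ext fun a => eval₂_C _ _, ← RingHom.comap_ker, hχ]
    exact hP'

/-- EGA IV 14.4.1.2: integral extensions of domains are open over unibranch points. -/
theorem isOpenAt_comap (hinj : Function.Injective (algebraMap A B)) (q : PrimeSpectrum B)
    {O : Type u} [CommRing O] [IsLocalRing O] (hO : CAlg2.IsUnibranch O) [Algebra A (CAlg2.red O)]
    [IsLocalization.AtPrime (CAlg2.red O) (q.asIdeal.comap (algebraMap A B))] :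
    EGA43.IsOpenAt (PrimeSpectrum.comap (algebraMap A B)) q := by
  obtain ⟨K, _, _, _, huniq⟩ := eq_of_over_unibranch (A := A) (q.asIdeal.comap (algebraMap A B)) hO
  intro N hN
  obtain ⟨N', hN'N, hN'o, hqN'⟩ := mem_nhds_iff.1 hN
  obtain ⟨_, ⟨g, rfl⟩, hg, hsub⟩ :=
    PrimeSpectrum.isTopologicalBasis_basic_opens.exists_subset_of_mem_open hqN' hN'o
  obtain ⟨s, hs, hP⟩ := exists_basicOpen_subset_image hinj q.asIdeal huniq hg
  refine Filter.mem_of_superset ((PrimeSpectrum.basicOpen s).isOpen.mem_nhds hs) fun P hPs => ?_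
  obtain ⟨q', hq', hgq', hq'P⟩ := hP P.asIdeal P.isPrime hPs
  exact ⟨⟨q', hq'⟩, hN'N (hsub hgq'), PrimeSpectrum.ext hq'P⟩

end Groth.Agent.IntTh85.UnibOpen
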